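import Cfsg.Agent.S0215
import Cfsg.Agent.Lib.KleinGen
import Cfsg.Agent.Lib.ClosingTI
import Cfsg.Agent.TwoFusion.Isolated

/-!
# The closing theorem for groups like `³D₄(2)` (helper186)

`IsGeo P Q`: `P` is a class of involutions of `G` (the points) and `Q u ≤ C_G(u)` (for `u ∈ P`) an
extraspecial-like group such that commuting points lie on lines `{u, v, uv}`, ...

* `claim`: if `E ≠ 1` is a subgroup of `Q u ∩ Q v` (`{u, v, uv}` a line) without points, then
  `C_G(E)` stabilises the line.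
* `closing`: if moreover `C_G(z)` has odd index, `G = ⟨C_G(z), m⟩` for every `m` moving `z` to
  an adjacent point.
-/

set_option autoImplicit false

namespace Cfsg.Agent.TypeD4Two.Geo

variable {G : Type*} [Group G]

/-- adjacent points -/
def Adj (u v : G) : Prop := u * v = v * u ∧ u ≠ v

/-- `x` lies on the line `{u, v, uv}` -/
def Onl (u v x : G) : Prop := x = u ∨ x = v ∨ x = u * v

structure IsGeo (P : Set G) (Q : G → Subgroup G) : Prop where
  ne_one : ∀ u ∈ P, u ≠ 1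
  inv : ∀ u ∈ P, u * u = 1
  conj : ∀ g, ∀ u ∈ P, g * u * g⁻¹ ∈ P
  Qconj : ∀ g, ∀ u ∈ P, ∀ x ∈ Q u, g * x * g⁻¹ ∈ Q (g * u * g⁻¹)
  commz : ∀ u ∈ P, ∀ x ∈ Q u, x * u = u * x
  sq : ∀ u ∈ P, ∀ x ∈ Q u, x * x = 1 ∨ x * x = u
  mem_of_comm : ∀ u ∈ P, ∀ v ∈ P, u * v = v * u → v ∈ Q u
  line : ∀ u ∈ P, ∀ v ∈ P, Adj u v → u * v ∈ P
  line_mem : ∀ u ∈ P, ∀ v ∈ P, Adj u v → ∀ w ∈ P, w ∈ Q u → w ∈ Q v → Onl u v w
  mem_mul : ∀ u ∈ P, ∀ v ∈ P, Adj u v → ∀ x ∈ Q u, x ∈ Q v → x ∈ Q (u * v)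
  uniq : ∀ u ∈ P, ∀ v ∈ P, ∀ w ∈ P, Adj u v → Adj u w → ∀ e ∈ Q u, e ∈ Q v → e ∈ Q w →
    e ∉ P → e ≠ 1 → w = v ∨ w = u * v
  exists_line : ∀ u ∈ P, ∀ i ∈ Q u, i * i = 1 → i ≠ 1 → i ∉ P → ∃ v ∈ P, Adj u v ∧ i ∈ Q v
  fix_two : ∀ u ∈ P, ∀ v ∈ P, ∀ w ∈ P, Adj u v → Adj u w → w ≠ v → w ≠ u * v →
    ∀ x, x * u = u * x → x * x ∈ Q u → (x * v * x⁻¹ = v ∨ x * v * x⁻¹ = u * v) →
    (x * w * x⁻¹ = w ∨ x * w * x⁻¹ = u * w) → x ∈ Q u
  outside : ∀ u ∈ P, ∀ i, i * i = 1 → i ≠ 1 → i * u = u * i → ∃ v ∈ P, u * v = v * u ∧ i ∈ Q v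
  count : ∀ u ∈ P, ∀ v ∈ P, Adj u v → ∀ E : Subgroup G, (∀ e ∈ E, e ∈ Q u) → (∀ e ∈ E, e ∈ Q v) →
    (∀ e ∈ E, e ∉ P) → ∃ w ∈ P, Adj u w ∧ w ≠ v ∧ w ≠ u * v ∧ ∀ e ∈ E, e * w = w * e
  ntrans : ∀ u ∈ P, ∀ v ∈ P, ∀ w ∈ P, Adj u v → Adj u w → ∃ c, c * u = u * c ∧ c * v * c⁻¹ = w

theorem conj_eq_self_iff {g x : G} : g * x * g⁻¹ = x ↔ g * x = x * g := mul_inv_eq_iff_eq_mul

theorem comm_conj {x y : G} (g : G) (h : x * y = y * x) :
    (g * x * g⁻¹) * (g * y * g⁻¹) = (g * y * g⁻¹) * (g * x * g⁻¹) := by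
  calc (g * x * g⁻¹) * (g * y * g⁻¹) = g * (x * y) * g⁻¹ := by group
    _ = g * (y * x) * g⁻¹ := by rw [h]
    _ = _ := by group

theorem Adj.symm {u v : G} (h : Adj u v) : Adj v u := ⟨h.1.symm, h.2.symm⟩

theorem Adj.conj {u v : G} (h : Adj u v) (g : G) : Adj (g * u * g⁻¹) (g * v * g⁻¹) := by
  refine ⟨comm_conj g h.1, fun he => h.2 ?_⟩
  exact mul_left_cancel (mul_right_cancel he)

/-- the dihedral argument modulo a central subgroup `E` -/
theorem dihedral_mod [Finite G] (E : Subgroup G) (w u : G) (hw : w * w = 1) (hu : u * u = 1)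
    (hwE : ∀ e ∈ E, w * e = e * w) (huE : ∀ e ∈ E, u * e = e * u) :
    (∃ g, (∀ e ∈ E, g * e = e * g) ∧ ∃ e ∈ E, g * w * g⁻¹ = u * e) ∨
      (∃ j, j ∉ E ∧ j * j ∈ E ∧ (∀ e ∈ E, j * e = e * j) ∧ (∃ e ∈ E, j * w * j⁻¹ = w * e) ∧
        (∃ e ∈ E, j * u * j⁻¹ = u * e)) := by
  classical
  set r := w * u with hr
  have hwi : w⁻¹ = w := inv_eq_of_mul_eq_one_left hw
  have hui : u⁻¹ = u := inv_eq_of_mul_eq_one_left hu
  have hex : ∃ n, 0 < n ∧ r ^ n ∈ E := ⟨orderOf r, orderOf_pos r, by rw [pow_orderOf_eq_one]; exact E.one_mem⟩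
  set n := Nat.find hex with hn
  obtain ⟨hn0, hnE⟩ : 0 < n ∧ r ^ n ∈ E := Nat.find_spec hex
  have hmin : ∀ c, 0 < c → c < n → r ^ c ∉ E := fun c h0 h1 h2 => Nat.find_min hex h1 ⟨h0, h2⟩
  have hrE : ∀ e ∈ E, Commute r e := fun e he => by
    show r * e = e * r
    rw [hr, mul_assoc, huE e he, ← mul_assoc, hwE e he, mul_assoc]
  have hrk : ∀ k : ℕ, ∀ e ∈ E, r ^ k * e = e * r ^ k := fun k e he => ((hrE e he).pow_left k).eq
  have h1 : w * r * w⁻¹ = r⁻¹ := by
    rw [hr, mul_inv_rev, hwi, hui, ← mul_assoc, hw, one_mul]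
  have h2 : u * r * u⁻¹ = r⁻¹ := by
    rw [hr, mul_inv_rev, hwi, hui]
    calc u * (w * u) * u = u * w * (u * u) := by group
      _ = u * w := by rw [hu, mul_one]
  have h1' : ∀ k : ℕ, w * r ^ k * w⁻¹ = (r ^ k)⁻¹ := fun k => by rw [← conj_pow, h1, inv_pow]
  have h2' : ∀ k : ℕ, u * r ^ k * u⁻¹ = (r ^ k)⁻¹ := fun k => by rw [← conj_pow, h2, inv_pow]
  have h3 : ∀ k : ℕ, r ^ k * w * (r ^ k)⁻¹ = r ^ (2 * k) * w := fun k => by
    rw [← h1' k, two_mul, pow_add]
    rw [hwi]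
    calc r ^ k * w * (w * r ^ k * w) = r ^ k * (w * w) * r ^ k * w := by group
      _ = _ := by rw [hw, mul_one]
  have h4 : ∀ k : ℕ, r ^ k * u * (r ^ k)⁻¹ = r ^ (2 * k) * u := fun k => by
    rw [← h2' k, two_mul, pow_add]
    rw [hui]
    calc r ^ k * u * (u * r ^ k * u) = r ^ k * (u * u) * r ^ k * u := by group
      _ = _ := by rw [hu, mul_one]
  rcases Nat.even_or_odd' n with ⟨c, hc | hc⟩
  · right
    have hc0 : 0 < c := by omega
    refine ⟨r ^ c, hmin c hc0 (by omega), ?_, hrk c, ⟨r ^ n, hnE, ?_⟩, ⟨r ^ n, hnE, ?_⟩⟩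
    · rw [← pow_add, ← two_mul, ← hc]; exact hnE
    · rw [h3, ← hc, hwE _ hnE]
    · rw [h4, ← hc, huE _ hnE]
  · left
    refine ⟨r ^ c, hrk c, r ^ n, hnE, ?_⟩
    rw [h3, huE _ hnE, hc, pow_succ, mul_assoc, hr]
    congr 1
    rw [mul_assoc, hu, mul_one]

/-- adjoining an involution to `E` -/
def ext (E : Subgroup G) (j : G) (hj : j * j = 1) (hjE : ∀ e ∈ E, j * e = e * j) : Subgroup G where
  carrier := {x | x ∈ E ∨ x * j ∈ E}
  one_mem' := Or.inl E.one_mem
  mul_mem' := by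
    rintro x y (hx | hx) (hy | hy)
    · exact Or.inl (E.mul_mem hx hy)
    · right
      rw [mul_assoc]; exact E.mul_mem hx hy
    · right
      rw [mul_assoc, ← hjE y hy, ← mul_assoc]; exact E.mul_mem hx hy
    · left
      have h1 : x * y = (x * j) * (y * j) := by
        have h2 := hjE _ hy
        calc x * y = x * (y * (j * j)) := by rw [hj, mul_one]
          _ = x * ((y * j) * j) := by group
          _ = x * (j * (y * j)) := by rw [h2]
          _ = _ := by group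
      rw [h1]; exact E.mul_mem hx hy
  inv_mem' := by
    rintro x (hx | hx)
    · exact Or.inl (E.inv_mem hx)
    · right
      have h1 : x⁻¹ * j = (x * j)⁻¹ := by
        have h2 := hjE _ hx
        have hji : j⁻¹ = j := inv_eq_of_mul_eq_one_left hj
        have h3 : j * x = x * j := by
          have h4 : j * (x * j) * j = x * j * j * j := by rw [h2]
          calc j * x = j * x * (j * j) := by rw [hj, mul_one]
            _ = j * (x * j) * j := by group
            _ = x * (j * j) * j := by rw [h4]; group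
            _ = x * j := by rw [hj, mul_one]
        rw [← h3, mul_inv_rev, hji]
      rw [h1]; exact E.inv_mem hx

theorem mem_ext {E : Subgroup G} {j : G} {hj : j * j = 1} {hjE : ∀ e ∈ E, j * e = e * j} {x : G} :
    x ∈ ext E j hj hjE ↔ x ∈ E ∨ x * j ∈ E := Iff.rfl

namespace IsGeo

variable {P : Set G} {Q : G → Subgroup G}

theorem mem_of_adj (h : IsGeo P Q) {u v : G} (hu : u ∈ P) (hv : v ∈ P) (huv : Adj u v) : v ∈ Q u :=
  h.mem_of_comm u hu v hv huv.1

theorem onl_mem (h : IsGeo P Q) {u v x : G} (hu : u ∈ P) (hv : v ∈ P) (huv : Adj u v)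
    (hx : Onl u v x) : x ∈ P := by
  rcases hx with rfl | rfl | rfl
  · exact hu
  · exact hv
  · exact h.line u hu v hv huv

theorem onl_comm {u v x : G} (huv : u * v = v * u) (hx : Onl u v x) : u * x = x * u := by
  rcases hx with rfl | rfl | rfl
  · rfl
  · exact huv
  · rw [mul_assoc, huv]

theorem mul_cancel (h : IsGeo P Q) {u : G} (hu : u ∈ P) (v : G) : u * (u * v) = v := by
  rw [← mul_assoc, h.inv u hu, one_mul]

/-- a line from the point of view of one of its points -/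
theorem pick (h : IsGeo P Q) {u v x : G} (hu : u ∈ P) (hv : v ∈ P) (huv : Adj u v)
    (hx : Onl u v x) : ∃ y ∈ P, Adj x y ∧ (∀ t, Onl x y t ↔ Onl u v t) ∧
      ∀ e ∈ Q u, e ∈ Q v → e ∈ Q x ∧ e ∈ Q y := by
  rcases hx with rfl | rfl | rfl
  · exact ⟨v, hv, huv, fun t => Iff.rfl, fun e h1 h2 => ⟨h1, h2⟩⟩
  · refine ⟨u, hu, huv.symm, fun t => ?_, fun e h1 h2 => ⟨h2, h1⟩⟩
    unfold Onl
    rw [huv.1]
    tauto
  · have h1 : u * v * u = v := by
      rw [huv.1, mul_assoc, h.inv u hu, mul_one]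
    refine ⟨u, hu, ⟨?_, ?_⟩, fun t => ?_, fun e h1 h2 => ⟨h.mem_mul u hu v hv huv e h1 h2, h1⟩⟩
    · rw [h1, h.mul_cancel hu]
    · intro he
      have : v = 1 := mul_eq_left.1 he
      exact h.ne_one v hv this
    · unfold Onl
      rw [h1]
      tauto

/-- L1 -/
theorem onl_of_comm (h : IsGeo P Q) {z a e : G} (hz : z ∈ P) (ha : a ∈ P) (hza : Adj z a)
    (he1 : e ∈ Q z) (he2 : e ∈ Q a) (heP : e ∉ P) (he : e ≠ 1) {x : G} (hx : Onl z a x) {w : G}
    (hw : w ∈ P) (hxw : x * w = w * x) (hew : e ∈ Q w) : Onl z a w := by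
  obtain ⟨y, hy, hxy, hon, hQ⟩ := h.pick hz ha hza hx
  have hxP := h.onl_mem hz ha hza hx
  by_cases hxw' : x = w
  · rw [← hxw']; exact hx
  · rw [← hon]
    obtain ⟨h1, h2⟩ := hQ e he1 he2
    rcases h.uniq x hxP y hy w hw hxy ⟨hxw, hxw'⟩ e h1 h2 hew heP he with h3 | h3
    · exact Or.inr (Or.inl h3)
    · exact Or.inr (Or.inr h3)

/-- an involution normalising a line commutes with a point of it -/
theorem exists_fixed (h : IsGeo P Q) {z a w : G} (hz : z ∈ P) (hza : Adj z a)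
    (hw : w * w = 1) (hn : ∀ x, Onl z a x → Onl z a (w * x * w⁻¹)) :
    ∃ x, Onl z a x ∧ x * w = w * x := by
  have hwi : w⁻¹ = w := inv_eq_of_mul_eq_one_left hw
  have hww : ∀ t, w * (w * t * w⁻¹) * w⁻¹ = t := fun t => by
    rw [hwi]
    calc w * (w * t * w) * w = (w * w) * t * (w * w) := by group
      _ = t := by rw [hw]; group
  rcases hn z (Or.inl rfl) with h1 | h1 | h1
  · exact ⟨z, Or.inl rfl, (conj_eq_self_iff.1 h1).symm⟩
  · refine ⟨z * a, Or.inr (Or.inr rfl), ?_⟩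
    have h2 : w * a * w⁻¹ = z := by rw [← h1, hww]
    have h3 : w * (z * a) * w⁻¹ = z * a := by
      calc w * (z * a) * w⁻¹ = (w * z * w⁻¹) * (w * a * w⁻¹) := by group
        _ = a * z := by rw [h1, h2]
        _ = z * a := hza.1.symm
    exact (conj_eq_self_iff.1 h3).symm
  · refine ⟨a, Or.inr (Or.inl rfl), ?_⟩
    have h2 : w * (z * a) * w⁻¹ = z := by rw [← h1, hww]
    have h3 : w * a * w⁻¹ = a := by
      calc w * a * w⁻¹ = (w * z * w⁻¹)⁻¹ * (w * (z * a) * w⁻¹) := by group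
        _ = (z * a)⁻¹ * z := by rw [h1, h2]
        _ = a⁻¹ := by rw [mul_inv_rev]; group
        _ = a := ?_
      -- `a⁻¹ = a`
      have h4 : (z * a) * (z * a) = 1 := by
        have h5 : (w * z * w⁻¹) * (w * z * w⁻¹) = 1 := by
          calc (w * z * w⁻¹) * (w * z * w⁻¹) = w * (z * z) * w⁻¹ := by group
            _ = 1 := by rw [h.inv z hz]; group
        rw [h1] at h5; exact h5
      have h6 : a * a = 1 := by
        calc a * a = (z * z) * (a * a) := by rw [h.inv z hz, one_mul]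
          _ = z * (z * a) * a := by group
          _ = z * (a * z) * a := by rw [hza.1]
          _ = (z * a) * (z * a) := by group
          _ = 1 := h4
      exact inv_eq_of_mul_eq_one_left h6
    exact (conj_eq_self_iff.1 h3).symm

/-- the Z*-step: `z` isolated in `X`, `w ∈ X` not commuting with `z` -/
theorem zstar_step [Finite G] (X : Subgroup G) {z u w : G} (hz : z ∈ X) (hu : u ∈ X) (hw : w ∈ X)
    (hz1 : z ≠ 1) (hz2 : z * z = 1) (hu2 : u * u = 1) (hzu : z * u = u * z) (hzw : z * w ≠ w * z)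
    (hiso : ∀ x ∈ X, z * (x * z * x⁻¹) = (x * z * x⁻¹) * z → x * z * x⁻¹ = z)
    (h1 : ∀ y ∈ X, Odd (orderOf y) → y * u = u * y → y * z = z * y)
    (h2 : ∀ y ∈ X, Odd (orderOf y) → y * (z * u) = (z * u) * y → y * z = z * y) : False := by
  classical
  set z' : X := ⟨z, hz⟩ with hz'
  set u' : X := ⟨u, hu⟩ with hu'
  set w' : X := ⟨w, hw⟩ with hw'
  have hz2' : z' * z' = 1 := Subtype.ext hz2
  have hI : Cfsg.IsIsolatedInvolution z' := by
    refine ⟨orderOf_eq_prime (by rw [pow_two]; exact hz2') (fun h => hz1 (congrArg Subtype.val h)),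
      fun g hg => ?_⟩
    apply Subtype.ext
    exact hiso g g.2 (congrArg Subtype.val hg.eq)
  have hI' : Cfsg.Agent.Involutions.ZStar.Iso z' := by
    refine ⟨hz2', fun g => ?_⟩
    have h3 := Cfsg.Agent.TwoFusion.Isolated.odd_orderOf_conj_mul hI g
    have h4 : z' * (g * z' * g⁻¹) = z' * (g * z' * g⁻¹ * z') * z'⁻¹ := by group
    rw [h4]
    have h5 : orderOf (z' * (g * z' * g⁻¹ * z') * z'⁻¹) = orderOf (g * z' * g⁻¹ * z') :=
      orderOf_injective (MulAut.conj z').toMonoidHom (MulAut.conj z').injective _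
    rw [h5]; exact h3
  have hcomm := Cfsg.Agent.S0215.iso_commutator z' hI'
  set N : Subgroup X := Cfsg.pPrimeCore 2 X with hN
  have hNn : N.Normal := Cfsg.Agent.Lib.Cores.pPrimeCore_normal 2
  have hNodd : Odd (Nat.card N) := Nat.coprime_two_right.mp (Cfsg.Agent.Lib.Cores.pPrimeCore_coprime 2)
  have hodd : ∀ y ∈ N, Odd (orderOf (y : G)) := by
    intro y hy
    have h3 : orderOf (⟨y, hy⟩ : N) ∣ Nat.card N := orderOf_dvd_natCard _
    have h4 : orderOf (⟨y, hy⟩ : N) = orderOf (y : G) := by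
      rw [← Subgroup.orderOf_coe, ← Subgroup.orderOf_coe]
    rw [← h4]
    exact Odd.of_dvd_nat hNodd h3
  have hle : N ≤ Subgroup.centralizer {z'} := by
    refine Cfsg.Agent.Lib.KleinGen.le_of_klein N _ hNodd z' u' hz2' (Subtype.ext hu2)
      (Subtype.ext hzu) (fun x hx => hNn.conj_mem x hx _) (fun x hx => hNn.conj_mem x hx _)
      inf_le_right ?_ ?_
    · rintro y ⟨hyN, hyc⟩
      rw [Subgroup.mem_centralizer_singleton_iff]
      apply Subtype.ext
      exact h1 y y.2 (hodd y hyN) (congrArg Subtype.val (Subgroup.mem_centralizer_singleton_iff.1 hyc))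
    · rintro y ⟨hyN, hyc⟩
      rw [Subgroup.mem_centralizer_singleton_iff]
      apply Subtype.ext
      exact h2 y y.2 (hodd y hyN) (congrArg Subtype.val (Subgroup.mem_centralizer_singleton_iff.1 hyc))
  -- the commutator `[z, w]`
  set c : X := z' * w' * z'⁻¹ * w'⁻¹ with hc
  have hcN : c ∈ N := hcomm w'
  have hzi : z'⁻¹ = z' := inv_eq_of_mul_eq_one_left hz2'
  have hcz : c * z' = z' * c := Subgroup.mem_centralizer_singleton_iff.1 (hle hcN)
  have hcc : c * c = 1 := by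
    have h3 : z' * c * z'⁻¹ = c := by rw [← hcz]; group
    have h4 : z' * c * z'⁻¹ = c⁻¹ := by
      rw [hc, hzi]
      calc z' * (z' * w' * z' * w'⁻¹) * z' = (z' * z') * w' * z' * w'⁻¹ * z' := by group
        _ = w' * z' * w'⁻¹ * z' := by rw [hz2', one_mul]
        _ = w' * z'⁻¹ * w'⁻¹ * z'⁻¹ := by rw [hzi]
        _ = (z' * w' * z' * w'⁻¹)⁻¹ := by group
    rw [h3] at h4
    calc c * c = c⁻¹ * c := by rw [← h4]
      _ = 1 := by group
  have hc1 : c = 1 := by
    have h3 := hodd c hcN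
    have h4 : orderOf (c : G) ∣ 2 := orderOf_dvd_of_pow_eq_one (by rw [pow_two]; exact congrArg Subtype.val hcc)
    have h5 : orderOf (c : G) = 1 := by
      rcases (Nat.dvd_prime Nat.prime_two).1 h4 with h6 | h6
      · exact h6
      · rw [h6] at h3; exact absurd h3 (by decide)
    exact Subtype.ext (orderOf_eq_one_iff.1 h5)
  apply hzw
  have h3 : z' * w' = w' * z' := by
    rw [hc, hzi] at hc1
    calc z' * w' = (z' * w' * z' * w'⁻¹) * w' * z'⁻¹ := by group
      _ = w' * z' := by rw [hc1, hzi, one_mul]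
  exact congrArg Subtype.val h3

theorem card_lt_ext [Finite G] {E : Subgroup G} {j : G} {hj : j * j = 1}
    {hjE : ∀ e ∈ E, j * e = e * j} (hjn : j ∉ E) : Nat.card E < Nat.card (ext E j hj hjE) := by
  by_contra hcon
  have hle : E ≤ ext E j hj hjE := fun x hx => Or.inl hx
  have := Subgroup.eq_of_le_of_card_ge hle (not_lt.1 hcon)
  apply hjn
  rw [this, mem_ext, hj]
  exact Or.inr E.one_mem

/-- the core of the claim -/
theorem core [Finite G] (h : IsGeo P Q) {z a : G} (hz : z ∈ P) (ha : a ∈ P) (hza : Adj z a)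
    (E : Subgroup G) (hEz : ∀ e ∈ E, e ∈ Q z) (hEa : ∀ e ∈ E, e ∈ Q a) (hEP : ∀ e ∈ E, e ∉ P)
    (hE1 : ∃ e ∈ E, e ≠ 1)
    (hIH : ∀ F : Subgroup G, Nat.card E < Nat.card F → (∀ e ∈ F, e ∈ Q z) → (∀ e ∈ F, e ∈ Q a) →
      (∀ e ∈ F, e ∉ P) → (∃ e ∈ F, e ≠ 1) → ∀ k, (∀ e ∈ F, k * e = e * k) →
        ∀ x, Onl z a x → Onl z a (k * x * k⁻¹))
    {k : G} (hk : ∀ e ∈ E, k * e = e * k) (hkn : ¬ Onl z a (k * z * k⁻¹)) : False := by
  obtain ⟨e₀, he₀, he₀1⟩ := hE1
  set w := k * z * k⁻¹ with hw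
  have hwP : w ∈ P := h.conj k z hz
  have hww := h.inv w hwP
  -- `E ≤ Q w`, `w` commutes with `E`
  have hEw : ∀ e ∈ E, e ∈ Q w := by
    intro e he
    have h1 := h.Qconj k z hz e (hEz e he)
    have h2 : k * e * k⁻¹ = e := conj_eq_self_iff.2 (hk e he)
    rwa [h2] at h1
  have hwE : ∀ e ∈ E, w * e = e * w := fun e he => (h.commz w hwP e (hEw e he)).symm
  have hL1 : ∀ x, Onl z a x → x * w ≠ w * x := by
    intro x hx hxw
    exact hkn (h.onl_of_comm hz ha hza (hEz e₀ he₀) (hEa e₀ he₀) (hEP e₀ he₀) he₀1 hx hwP hxw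
      (hEw e₀ he₀))
  -- (i)
  have hwn : ¬ ∀ x, Onl z a x → Onl z a (w * x * w⁻¹) := by
    intro hn
    obtain ⟨x, hx, hxw⟩ := h.exists_fixed hz hza hww hn
    exact hL1 x hx hxw
  have hzw : z * w ≠ w * z := hL1 z (Or.inl rfl)
  -- (iii) the point `u`
  obtain ⟨u, hu, hzu, hua, huza, huE⟩ := h.count z hz a ha hza E hEz hEa hEP
  have huu := h.inv u hu
  have hzz := h.inv z hz
  have hzuP : z * u ∈ P := h.line z hz u hu hzu
  have hzzu : Adj z (z * u) := by
    refine ⟨by rw [mul_assoc, hzu.1], fun he => h.ne_one u hu ?_⟩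
    exact mul_eq_left.1 he.symm
  have hadjzu : Adj (z * u) u := by
    refine ⟨?_, fun he => h.ne_one z hz (mul_eq_right.1 he)⟩
    rw [← mul_assoc u z u, ← hzu.1]
  -- (iii.1)
  have h31 : ∀ e ∈ E, e ≠ 1 → e ∉ Q u := by
    intro e he he1 heu
    rcases h.uniq z hz a ha u hu hza hzu e (hEz e he) (hEa e he) heu (hEP e he) he1 with h3 | h3
    · exact hua h3
    · exact huza h3
  have h31' : ∀ e ∈ E, e ≠ 1 → e ∉ Q (z * u) := by
    intro e he he1 heu
    rcases h.uniq z hz a ha (z * u) hzuP hza hzzu e (hEz e he) (hEa e he) heu (hEP e he) he1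
      with h3 | h3
    · apply huza
      rw [← h3, h.mul_cancel hz]
    · exact hua (mul_left_cancel h3)
  -- (iii.2)
  have h32 : ∀ p ∈ P, Adj p z → (∀ e ∈ E, e ≠ 1 → e ∉ Q p) → (∀ e ∈ E, e * p = p * e) →
      ∀ r ∈ P, Adj p r → (∀ e ∈ E, e * r = r * e) → r = z ∨ r = p * z := by
    intro p hp hpz hpE hEp r hr hpr hEr
    by_contra hcon
    push Not at hcon
    refine hpE e₀ he₀ he₀1 (h.fix_two p hp z hz r hr hpz hpr hcon.1 hcon.2 e₀ (hEp e₀ he₀) ?_ ?_ ?_)
    · have h3 : e₀ * e₀ ∈ E := E.mul_mem he₀ he₀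
      rcases h.sq z hz e₀ (hEz e₀ he₀) with h4 | h4
      · rw [h4]; exact (Q p).one_mem
      · exact absurd hz (h4 ▸ hEP _ h3)
    · left; exact conj_eq_self_iff.2 (h.commz z hz e₀ (hEz e₀ he₀))
    · left; exact conj_eq_self_iff.2 (hEr e₀ he₀)
  have hEzc : ∀ e ∈ E, e * z = z * e := fun e he => h.commz z hz e (hEz e he)
  have hEzu : ∀ e ∈ E, e * (z * u) = (z * u) * e := by
    intro e he
    rw [← mul_assoc, hEzc e he, mul_assoc, huE e he, mul_assoc]
  have h32u := h32 u hu hzu.symm h31 huE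
  have h32zu := h32 (z * u) hzuP hzzu.symm h31' hEzu
  have hzuz : z * u * z = u := by rw [hzu.1, mul_assoc, hzz, mul_one]
  rw [hzuz] at h32zu
  -- (iii.3)
  have h33u : u * w ≠ w * u := by
    intro huw
    by_cases hne : u = w
    · exact hzw (by rw [← hne]; exact hzu.1)
    · rcases h32u w hwP ⟨huw, hne⟩ (fun e he => (hwE e he).symm) with h3 | h3
      · exact hzw (by rw [h3])
      · exact hzw (by rw [h3, ← mul_assoc, hzu.1])
  have h33zu : (z * u) * w ≠ w * (z * u) := by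
    intro huw
    by_cases hne : z * u = w
    · exact hzw (by rw [← hne, h.mul_cancel hz, hzuz])
    · rcases h32zu w hwP ⟨huw, hne⟩ (fun e he => (hwE e he).symm) with h3 | h3
      · exact hzw (by rw [h3])
      · exact hzw (by rw [h3]; exact hzu.1)
  -- elements `u e ∈ P`, `e ∈ E`
  have hue : ∀ e ∈ E, u * e ∈ P → e = 1 := by
    intro e he hueP
    by_contra he1
    apply h31 e he he1
    have h3 : u * (u * e) = u * e * u := by rw [mul_assoc, huE e he]
    have h4 := h.mem_of_comm u hu (u * e) hueP h3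
    have h5 : e = u * (u * e) := (h.mul_cancel hu e).symm
    rw [h5]
    exact (Q u).mul_mem (h.mem_of_comm u hu u hu rfl) h4
  -- (iv)
  rcases dihedral_mod E w u hww huu hwE (fun e he => (huE e he).symm) with
    ⟨g, hg, e, he, hge⟩ | ⟨j, hjn, hjj, hjE, ⟨e, he, hje⟩, e', he', hje'⟩
  · have h3 : u * e ∈ P := hge ▸ h.conj g w hwP
    have h4 := hue e he h3
    rw [h4, mul_one] at hge
    apply h31 e₀ he₀ he₀1
    have h5 := h.Qconj g w hwP e₀ (hEw e₀ he₀)
    rw [hge, conj_eq_self_iff.2 (hg e₀ he₀)] at h5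
    exact h5
  -- (v)
  have hju : j * u = u * j := by
    have h3 : u * e' ∈ P := hje' ▸ h.conj j u hu
    have h4 := hue e' he' h3
    rw [h4, mul_one] at hje'
    exact conj_eq_self_iff.1 hje'
  have hjw : j * w = w * j := by
    have h3 : w * e ∈ P := hje ▸ h.conj j w hwP
    have h4 : z * e ∈ P := by
      have h5 := h.conj k⁻¹ _ h3
      have h6 : k⁻¹ * (w * e) * k⁻¹⁻¹ = z * e := by
        have h7 := hk e he
        calc k⁻¹ * (w * e) * k⁻¹⁻¹ = k⁻¹ * (k * z * k⁻¹) * (e * k) := by rw [hw]; group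
          _ = k⁻¹ * (k * z * k⁻¹) * (k * e) := by rw [h7]
          _ = z * e := by group
      rwa [h6] at h5
    have h5 : z * e ∈ Q z := (Q z).mul_mem (h.mem_of_comm z hz z hz rfl) (hEz e he)
    have h6 : z * e ∈ Q a := (Q a).mul_mem (h.mem_of_comm a ha z hz hza.1.symm) (hEa e he)
    have h7 : e = 1 := by
      rcases h.line_mem z hz a ha hza (z * e) h4 h5 h6 with h8 | h8 | h8
      · exact mul_eq_left.1 h8
      · exfalso
        apply hEP e he
        have : e = z * a := by rw [← h8, h.mul_cancel hz]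
        rw [this]; exact h.line z hz a ha hza
      · exfalso
        apply hEP e he
        rw [mul_left_cancel h8]; exact ha
    rw [h7, mul_one] at hje
    exact conj_eq_self_iff.1 hje
  -- (vi)
  have hjz : j * z = z * j := by
    have hP : j * z * j⁻¹ ∈ P := h.conj j z hz
    have h3 : Adj u (j * z * j⁻¹) := by
      have := hzu.symm.conj j
      rwa [conj_eq_self_iff.2 hju] at this
    have h4 : ∀ e ∈ E, e * (j * z * j⁻¹) = (j * z * j⁻¹) * e := by
      intro e he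
      have := comm_conj j (hEzc e he)
      rwa [conj_eq_self_iff.2 (hjE e he)] at this
    rcases h32u _ hP h3 h4 with h5 | h5
    · exact conj_eq_self_iff.1 h5
    · exfalso
      have h6 := h.Qconj j z hz e₀ (hEz e₀ he₀)
      rw [conj_eq_self_iff.2 (hjE e₀ he₀), h5, ← hzu.1] at h6
      exact h31' e₀ he₀ he₀1 h6
  -- (vii)
  have hja : j * a * j⁻¹ = a ∨ j * a * j⁻¹ = z * a := by
    have hP : j * a * j⁻¹ ∈ P := h.conj j a ha
    have h3 : Adj z (j * a * j⁻¹) := by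
      have := hza.conj j
      rwa [conj_eq_self_iff.2 hjz] at this
    have h6 := h.Qconj j a ha e₀ (hEa e₀ he₀)
    rw [conj_eq_self_iff.2 (hjE e₀ he₀)] at h6
    exact h.uniq z hz a ha _ hP hza h3 e₀ (hEz e₀ he₀) (hEa e₀ he₀) h6 (hEP e₀ he₀) he₀1
  have hjQ : j ∈ Q z := by
    refine h.fix_two z hz a ha u hu hza hzu hua huza j hjz (hEz _ hjj) hja ?_
    left; exact conj_eq_self_iff.2 hju
  -- (viii)
  have hj2 : j * j = 1 := by
    rcases h.sq z hz j hjQ with h3 | h3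
    · exact h3
    · exact absurd hz (h3 ▸ hEP _ hjj)
  have hji : j⁻¹ = j := inv_eq_of_mul_eq_one_left hj2
  -- (ix)
  set F := ext E j hj2 hjE with hF
  have hEF : ∀ e ∈ E, e ∈ F := fun e he => Or.inl he
  have hjF : j ∈ F := by rw [hF, mem_ext, hj2]; exact Or.inr E.one_mem
  have hcF : ∀ g, (∀ e ∈ E, e * g = g * e) → j * g = g * j → ∀ f ∈ F, f * g = g * f := by
    intro g hg hgj f hf
    rcases hf with hf | hf
    · exact hg f hf
    · have h3 := hg _ hf
      have h4 : f = (f * j) * j := by rw [mul_assoc, hj2, mul_one]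
      rw [h4, mul_assoc, hgj, ← mul_assoc, h3, mul_assoc]
  have hFz : ∀ f ∈ F, f ∈ Q z := by
    rintro f (hf | hf)
    · exact hEz f hf
    · have h4 : f = (f * j) * j := by rw [mul_assoc, hj2, mul_one]
      rw [h4]; exact (Q z).mul_mem (hEz _ hf) hjQ
  have hFu := hcF u huE hju
  have hFw := hcF w (fun e he => (hwE e he).symm) hjw
  have hFzc := hcF z hEzc hjz
  have hEF' : ∀ f ∈ F, ∀ e ∈ E, e * f = f * e := by
    intro f hf e he
    refine (hcF e (fun e' he' => ?_) (hjE e he) f hf).symm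
    -- `E` is abelian
    have h3 : ∀ x ∈ E, x * x = 1 := by
      intro x hx
      rcases h.sq z hz x (hEz x hx) with h4 | h4
      · exact h4
      · exact absurd hz (h4 ▸ hEP _ (E.mul_mem hx hx))
    have h4 : ∀ x ∈ E, x⁻¹ = x := fun x hx => inv_eq_of_mul_eq_one_left (h3 x hx)
    have h5 := h4 _ (E.mul_mem he' he)
    rw [mul_inv_rev, h4 _ he', h4 _ he] at h5
    exact h5.symm
  have hFP : ∀ f ∈ F, f ∉ P := by
    intro f hf hfP
    by_cases hfu : u = f
    · exact h33u (by rw [hfu]; exact hFw f hf)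
    · rcases h32u f hfP ⟨(hFu f hf).symm, hfu⟩ (hEF' f hf) with h3 | h3
      · exact hzw (by rw [← h3]; exact hFw f hf)
      · rw [← hzu.1] at h3
        exact h33zu (by rw [← h3]; exact hFw f hf)
  have hF1 : ∃ e ∈ F, e ≠ 1 := ⟨e₀, hEF e₀ he₀, he₀1⟩
  by_cases hjQa : j ∈ Q a
  · -- (x)
    have hFa : ∀ f ∈ F, f ∈ Q a := by
      rintro f (hf | hf)
      · exact hEa f hf
      · have h4 : f = (f * j) * j := by rw [mul_assoc, hj2, mul_one]
        rw [h4]; exact (Q a).mul_mem (hEa _ hf) hjQa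
    exact hwn (hIH F (card_lt_ext hjn) hFz hFa hFP hF1 w (fun e he => (hFw e he).symm))
  · -- (xi)
    have hmemX : ∀ g, (∀ f ∈ F, f * g = g * f) → g ∈ Subgroup.centralizer (F : Set G) := by
      intro g hg
      rw [Subgroup.mem_centralizer_iff]
      exact hg
    have hXc : ∀ g ∈ Subgroup.centralizer (F : Set G), ∀ f ∈ F, f * g = g * f := by
      intro g hg
      rw [Subgroup.mem_centralizer_iff] at hg
      exact hg
    have hXconj : ∀ g ∈ Subgroup.centralizer (F : Set G), ∀ f ∈ F, g * f * g⁻¹ = f :=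
      fun g hg f hf => conj_eq_self_iff.2 (hXc g hg f hf).symm
    refine zstar_step (Subgroup.centralizer (F : Set G)) (hmemX z hFzc) (hmemX u hFu) (hmemX w hFw)
      (h.ne_one z hz) hzz huu hzu.1 hzw ?_ ?_ ?_
    · intro x hx hcom
      by_contra hne
      have hvP : x * z * x⁻¹ ∈ P := h.conj x z hz
      have hFv : ∀ f ∈ F, f ∈ Q (x * z * x⁻¹) := by
        intro f hf
        have := h.Qconj x z hz f (hFz f hf)
        rwa [hXconj x hx f hf] at this
      have hadj : Adj z (x * z * x⁻¹) := ⟨hcom, fun h' => hne h'.symm⟩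
      rcases h.uniq z hz a ha _ hvP hza hadj e₀ (hEz e₀ he₀) (hEa e₀ he₀) (hFv e₀ (hEF e₀ he₀))
        (hEP e₀ he₀) he₀1 with h3 | h3
      · apply hjQa
        rw [← h3]; exact hFv j hjF
      · apply hjQa
        have h4 := h.mem_mul z hz _ hvP hadj j hjQ (hFv j hjF)
        rw [h3, h.mul_cancel hz] at h4
        exact h4
    · intro y hy _ hyu
      have hyE : ∀ e ∈ E, y * e * y⁻¹ = e := fun e he => hXconj y hy e (hEF e he)
      have hP : y * z * y⁻¹ ∈ P := h.conj y z hz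
      have h3 : Adj u (y * z * y⁻¹) := by
        have := hzu.symm.conj y
        rwa [conj_eq_self_iff.2 hyu] at this
      have h4 : ∀ e ∈ E, e * (y * z * y⁻¹) = (y * z * y⁻¹) * e := by
        intro e he
        have := comm_conj y (hEzc e he)
        rwa [hyE e he] at this
      rcases h32u _ hP h3 h4 with h5 | h5
      · exact conj_eq_self_iff.1 h5
      · exfalso
        have h6 := h.Qconj y z hz e₀ (hEz e₀ he₀)
        rw [hyE e₀ he₀, h5, ← hzu.1] at h6
        exact h31' e₀ he₀ he₀1 h6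
    · intro y hy _ hyu
      have hyE : ∀ e ∈ E, y * e * y⁻¹ = e := fun e he => hXconj y hy e (hEF e he)
      have hP : y * z * y⁻¹ ∈ P := h.conj y z hz
      have h3 : Adj (z * u) (y * z * y⁻¹) := by
        have := hzzu.symm.conj y
        rwa [conj_eq_self_iff.2 hyu] at this
      have h4 : ∀ e ∈ E, e * (y * z * y⁻¹) = (y * z * y⁻¹) * e := by
        intro e he
        have := comm_conj y (hEzc e he)
        rwa [hyE e he] at this
      rcases h32zu _ hP h3 h4 with h5 | h5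
      · exact conj_eq_self_iff.1 h5
      · exfalso
        have h6 := h.Qconj y z hz e₀ (hEz e₀ he₀)
        rw [hyE e₀ he₀, h5] at h6
        exact h31 e₀ he₀ he₀1 h6

/-- (5) `C_G(E)` stabilises the line. -/
theorem claim [Finite G] (h : IsGeo P Q) : ∀ (n : ℕ) (E : Subgroup G) (u v : G),
    Nat.card G ≤ Nat.card E + n → u ∈ P → v ∈ P → Adj u v → (∀ e ∈ E, e ∈ Q u) →
    (∀ e ∈ E, e ∈ Q v) → (∀ e ∈ E, e ∉ P) → (∃ e ∈ E, e ≠ 1) → ∀ k, (∀ e ∈ E, k * e = e * k) →
    ∀ x, Onl u v x → Onl u v (k * x * k⁻¹) := by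
  intro n
  induction n using Nat.strong_induction_on with
  | _ n ih =>
    intro E u v hn hu hv huv hEu hEv hEP hE1 k hk x hx
    by_contra hcon
    obtain ⟨y, hy, hxy, hon, hQ⟩ := h.pick hu hv huv hx
    have hxP := h.onl_mem hu hv huv hx
    refine h.core hxP hy hxy E (fun e he => (hQ e (hEu e he) (hEv e he)).1)
      (fun e he => (hQ e (hEu e he) (hEv e he)).2) hEP hE1 ?_ (k := k) hk
      (fun hc => hcon ((hon _).1 hc))
    intro F hlt hFx hFy hFP hF1 k' hk' t ht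
    have hcF : Nat.card F ≤ Nat.card G := Subgroup.card_le_card_group F
    have hn0 : 0 < n := by omega
    exact ih (n - 1) (by omega) F x y (by omega) hxP hy hxy hFx hFy hFP hF1 k' hk' t ht

theorem claim_single [Finite G] (h : IsGeo P Q) {u v i : G} (hu : u ∈ P) (hv : v ∈ P)
    (huv : Adj u v) (hiu : i ∈ Q u) (hiv : i ∈ Q v) (hiP : i ∉ P) (hi : i ≠ 1) (hii : i * i = 1)
    {k : G} (hk : k * i = i * k) : Onl u v (k * u * k⁻¹) := by
  have hmem : ∀ e ∈ Subgroup.zpowers i, e = 1 ∨ e = i := by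
    rintro e ⟨m, rfl⟩
    rcases Int.even_or_odd' m with ⟨c, rfl | rfl⟩
    · left
      show i ^ (2 * c) = 1
      rw [zpow_mul, zpow_two, hii, one_zpow]
    · right
      show i ^ (2 * c + 1) = i
      rw [zpow_add, zpow_mul, zpow_two, hii, one_zpow, zpow_one, one_mul]
  have h1P : (1 : G) ∉ P := fun h1 => h.ne_one 1 h1 rfl
  refine h.claim (Nat.card G) (Subgroup.zpowers i) u v (Nat.le_add_left _ _) hu hv huv ?_ ?_ ?_
    ⟨i, Subgroup.mem_zpowers i, hi⟩ k ?_ u (Or.inl rfl)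
  · intro e he
    rcases hmem e he with rfl | rfl
    · exact (Q u).one_mem
    · exact hiu
  · intro e he
    rcases hmem e he with rfl | rfl
    · exact (Q v).one_mem
    · exact hiv
  · intro e he
    rcases hmem e he with rfl | rfl
    · exact h1P
    · exact hiP
  · intro e he
    rcases hmem e he with rfl | rfl
    · rw [mul_one, one_mul]
    · exact hk

/-- The closing theorem. -/
theorem closing [Finite G] (h : IsGeo P Q) {z a : G} (hz : z ∈ P) (ha : a ∈ P) (hza : Adj z a)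
    (hodd : Odd (Subgroup.centralizer ({z} : Set G)).index)
    (hb : ∃ b, b * b = 1 ∧ b ≠ 1 ∧ b ∉ P ∧ b * z = z * b) (H : Subgroup G)
    (hCH : Subgroup.centralizer ({z} : Set G) ≤ H) {m : G} (hmH : m ∈ H) (hm : m * z * m⁻¹ = a) :
    H = ⊤ := by
  classical
  have hcz : ∀ c, c * z = z * c → c ∈ H :=
    fun c hc => hCH (Subgroup.mem_centralizer_singleton_iff.2 hc)
  -- (1)
  have h1 : ∀ t ∈ H, ∀ w ∈ P, (t * z * t⁻¹) * w = w * (t * z * t⁻¹) → ∃ s ∈ H, s * z * s⁻¹ = w := by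
    intro t ht w hw hcom
    by_cases hne : z = t⁻¹ * w * t
    · refine ⟨t, ht, ?_⟩
      rw [hne]; group
    · have hw' : t⁻¹ * w * t ∈ P := by
        have := h.conj t⁻¹ w hw
        rwa [inv_inv] at this
      have hadj : Adj z (t⁻¹ * w * t) := by
        refine ⟨?_, hne⟩
        have := comm_conj t⁻¹ hcom
        rw [inv_inv] at this
        have e1 : t⁻¹ * (t * z * t⁻¹) * t = z := by group
        rwa [e1] at this
      obtain ⟨c, hc1, hc2⟩ := h.ntrans z hz a ha _ hw' hza hadj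
      refine ⟨t * c * m, H.mul_mem (H.mul_mem ht (hcz c hc1)) hmH, ?_⟩
      calc t * c * m * z * (t * c * m)⁻¹ = t * (c * (m * z * m⁻¹) * c⁻¹) * t⁻¹ := by group
        _ = t * (t⁻¹ * w * t) * t⁻¹ := by rw [hm, hc2]
        _ = w := by group
  -- (2)
  have h2 : ∀ t ∈ H, ∀ g, g * (t * z * t⁻¹) = (t * z * t⁻¹) * g → g ∈ H := by
    intro t ht g hg
    have h3 : (t⁻¹ * g * t) * z = z * (t⁻¹ * g * t) := by
      calc (t⁻¹ * g * t) * z = t⁻¹ * (g * (t * z * t⁻¹)) * t := by group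
        _ = t⁻¹ * ((t * z * t⁻¹) * g) * t := by rw [hg]
        _ = _ := by group
    have h4 := H.mul_mem (H.mul_mem ht (hcz _ h3)) (H.inv_mem ht)
    have e1 : t * (t⁻¹ * g * t) * t⁻¹ = g := by group
    rwa [e1] at h4
  -- (3)
  have h3 : ∀ i ∈ H, i * i = 1 → ∃ t ∈ H, i * (t * z * t⁻¹) = (t * z * t⁻¹) * i := by
    intro i hi hii
    set C := (Subgroup.centralizer ({z} : Set G)).subgroupOf H with hC
    have hCodd : ¬ 2 ∣ Nat.card (H ⧸ C) := by
      have h4 : C.index ∣ (Subgroup.centralizer ({z} : Set G)).index :=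
        Subgroup.relIndex_dvd_index_of_le hCH
      have h5 : Odd C.index := Odd.of_dvd_nat hodd h4
      rw [← Subgroup.index_eq_card]
      intro h6
      exact (Nat.not_even_iff_odd.2 h5) (even_iff_two_dvd.2 h6)
    set i' : H := ⟨i, hi⟩ with hi'
    have hp : IsPGroup 2 (Subgroup.zpowers i') :=
      Cfsg.Agent.Lib.ClosingTI.isPGroup_zpowers i' 1 (by rw [pow_one, pow_two]; exact Subtype.ext hii)
    obtain ⟨q, hq⟩ := hp.nonempty_fixed_point_of_prime_not_dvd_card (H ⧸ C) hCodd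
    obtain ⟨t, rfl⟩ := QuotientGroup.mk_surjective q
    have h6 := MulAction.mem_fixedPoints.1 hq ⟨i', Subgroup.mem_zpowers i'⟩
    have h7 : (QuotientGroup.mk (i' * t) : H ⧸ C) = QuotientGroup.mk t := h6
    rw [QuotientGroup.eq] at h7
    have h8 : ((i * t)⁻¹ * t : G) * z = z * ((i * t)⁻¹ * t) :=
      Subgroup.mem_centralizer_singleton_iff.1 (Subgroup.mem_subgroupOf.1 h7)
    refine ⟨t, t.2, ?_⟩
    have hii' : i⁻¹ = i := inv_eq_of_mul_eq_one_left hii
    rw [mul_inv_rev, hii'] at h8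
    calc i * (t * z * (t : G)⁻¹) = t * (((t : G)⁻¹ * i * t) * z) * (t : G)⁻¹ := by group
      _ = t * (z * ((t : G)⁻¹ * i * t)) * (t : G)⁻¹ := by rw [h8]
      _ = _ := by group
  -- (4)
  have h4 : ∀ i ∈ H, i ≠ 1 → i * i = 1 → ∀ g : G, g * i * g⁻¹ = i → g ∈ H := by
    intro i hi hi1 hii g hg
    obtain ⟨t, ht, hti⟩ := h3 i hi hii
    have hvP : t * z * t⁻¹ ∈ P := h.conj t z hz
    obtain ⟨v, hv, hvc, hiv⟩ := h.outside _ hvP i hii hi1 hti
    obtain ⟨s, hs, rfl⟩ := h1 t ht v hv hvc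
    have hsP : s * z * s⁻¹ ∈ P := h.conj s z hz
    have hgi : g * i = i * g := conj_eq_self_iff.1 hg
    by_cases hiP : i ∈ P
    · obtain ⟨r, hr, hri⟩ := h1 s hs i hiP (h.commz _ hsP i hiv).symm
      refine h2 r hr g ?_
      rw [hri]; exact hgi
    · obtain ⟨v, hv, hadj, hiv'⟩ := h.exists_line _ hsP i hiv hii hi1 hiP
      have h5 := h.claim_single hsP hv hadj hiv hiv' hiP hi1 hii hgi
      have h6 : g * (s * z * s⁻¹) * g⁻¹ ∈ P := h.conj g _ hsP
      obtain ⟨r, hr, hrv⟩ := h1 s hs _ h6 (onl_comm hadj.1 h5)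
      -- `g (s z s⁻¹) g⁻¹ = r z r⁻¹`
      have h7 : (r⁻¹ * g * s) * z = z * (r⁻¹ * g * s) := by
        calc (r⁻¹ * g * s) * z = r⁻¹ * (g * (s * z * s⁻¹) * g⁻¹) * g * s := by group
          _ = r⁻¹ * (r * z * r⁻¹) * g * s := by rw [hrv]
          _ = _ := by group
      have h8 := H.mul_mem (H.mul_mem hr (hcz _ h7)) (H.inv_mem hs)
      have e1 : r * (r⁻¹ * g * s) * s⁻¹ = g := by group
      rwa [e1] at h8
  -- (5)
  obtain ⟨b, hbb, hb1, hbP, hbz⟩ := hb
  have hzz := h.inv z hz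
  have h5 : ∀ j : G, j * j = 1 → j ∈ H := by
    intro j hj
    refine Cfsg.Agent.Lib.ClosingTI.all_involutions H h4 z b (hcz z rfl) (h.ne_one z hz) hzz
      (hcz b hbz) hb1 hbb ?_ j hj
    intro hconj
    obtain ⟨c, hc⟩ := isConj_iff.1 hconj
    exact hbP (hc ▸ h.conj c z hz)
  -- (6)
  rw [Subgroup.eq_top_iff']
  intro g
  have hvP : g * z * g⁻¹ ∈ P := h.conj g z hz
  obtain ⟨t, ht, hti⟩ := h3 _ (h5 _ (h.inv _ hvP)) (h.inv _ hvP)
  obtain ⟨s, hs, hsv⟩ := h1 t ht _ hvP hti.symm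
  have h7 : (s⁻¹ * g) * z = z * (s⁻¹ * g) := by
    calc (s⁻¹ * g) * z = s⁻¹ * (g * z * g⁻¹) * g := by group
      _ = s⁻¹ * (s * z * s⁻¹) * g := by rw [hsv]
      _ = _ := by group
  have h8 := H.mul_mem hs (hcz _ h7)
  rwa [mul_inv_cancel_left] at h8

end IsGeo

end Cfsg.Agent.TypeD4Two.Geo
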