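import Cfsg.Agent.TypeD4Two.NineV
import Cfsg.Agent.TypeD4Two.Geo
import Cfsg.Agent.LargeExtra.TwoCentral

/-!
# `Pair` with a pairwise non-orthogonal orbit (helper186)

`Hyp Q z A a`: `Pair Q z A a`, `|Q| = 2 ^ 9`, `(nn)` if `c ∈ C_G(z)` and `c a c⁻¹` commutes with `a` then
`c a c⁻¹ ∈ {a, a z}`, `(mv)` not all `c a c⁻¹` commute with `a`.

* `Hyp.cfg`: the configuration `Cfg` on `V = Q / ⟨z⟩`;
* `Hyp.exists_conj`: `C_G(z)` is transitive on `(z^G ∩ Q) - {z}`;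
* `Hyp.outside`: every involution of `C_G(z) - Q` lies in some `Q_v`, `v = c a c⁻¹`;
* `Hyp.mem_of_comm`: `z^G ∩ C_G(z) ⊆ Q`;
* `Hyp.isGeo`, `Hyp.closing`: the geometry, `G = ⟨C_G(z), m⟩`.
-/

set_option autoImplicit false

namespace Cfsg.Agent.TypeD4Two.NinePair

open Cfsg.Agent.Co2Type.Quad Cfsg.Agent.LargeExtra.Local Cfsg.Agent.LargeExtra.Base
open Cfsg.Agent.TypeD4Two.NineV

variable {G : Type*} [Group G]

structure Hyp (Q : Subgroup G) (z : G) (A : Subgroup G) (a : G) : Prop where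
  p : Pair Q z A a
  card : Nat.card Q = 2 ^ 9
  nn : ∀ c, c * z = z * c → (c * a * c⁻¹) * a = a * (c * a * c⁻¹) → c * a * c⁻¹ = a ∨ c * a * c⁻¹ = a * z
  mv : ∃ c, c * z = z * c ∧ (c * a * c⁻¹) * a ≠ a * (c * a * c⁻¹)

theorem mem_map {Q : Subgroup G} {g x : G} :
    x ∈ Q.map (MulAut.conj g).toMonoidHom ↔ g⁻¹ * x * g ∈ Q := by
  constructor
  · rintro ⟨y, hy, rfl⟩
    have : g⁻¹ * (MulAut.conj g).toMonoidHom y * g = y := by
      show g⁻¹ * (g * y * g⁻¹) * g = y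
      group
    rw [this]; exact hy
  · intro hx
    refine ⟨_, hx, ?_⟩
    show g * (g⁻¹ * x * g) * g⁻¹ = x
    group

theorem zcomm {z : G} (c : Subgroup.centralizer ({z} : Set G)) : (c : G) * z = z * c :=
  Subgroup.mem_centralizer_singleton_iff.1 c.2

namespace Hyp

variable {Q A : Subgroup G} {z a : G}

theorem card_V (h : Hyp Q z A a) : Nat.card h.p.lz.V = 2 ^ 8 := by
  have h1 := h.p.lz.card_eq
  rw [h.card] at h1
  omega

/-- `(nn)` in `V` -/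
theorem nnV (h : Hyp Q z A a) {f : h.p.lz.V ≃ₗ[ZMod 2] h.p.lz.V} (hf : f ∈ h.p.H)
    (hb : h.p.lz.b h.p.va (f h.p.va) = 0) : f h.p.va = h.p.va := by
  obtain ⟨c, rfl⟩ := hf
  have h1 : h.p.lz.act c h.p.va = h.p.lz.pr (h.p.lz.conjQ c ⟨a, h.p.a_mem⟩) := h.p.lz.act_pr c _
  rw [h1] at hb ⊢
  have h2 := (h.p.lz.b_pr _ _).1 hb
  have h3 := h.nn c (zcomm c) h2.symm
  exact h.p.lz.pr_eq_pr.2 h3

/-- `a` and `a z` are conjugate by an element of `Q` -/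
theorem exists_swap (h : Hyp Q z A a) : ∃ y ∈ Q, y * a * y⁻¹ = a * z := by
  obtain ⟨y, hy, hya⟩ := exists_not_comm h.p.lz h.p.a_mem h.p.la.z_ne h.p.ne
  refine ⟨y, hy, ?_⟩
  rw [hya, mul_assoc a y z, h.p.lz.comm_z y hy, ← mul_assoc, mul_inv_cancel_right]

/-- `A ∩ A^b ≤ Q` for `b ∈ Q`, `a^b = a z` -/
theorem inter_le [Finite G] (h : Hyp Q z A a) {y : G} (hy : y ∈ Q) (hya : y * a * y⁻¹ = a * z)
    {c : G} (hc : c ∈ A) (hcy : y⁻¹ * c * y ∈ A) : c ∈ Q := by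
  classical
  set B := A.map (MulAut.conj y).toMonoidHom with hB
  obtain ⟨g0, hg0, -, hA, -⟩ := h.p.isConj
  obtain ⟨g, hg1, hg2, -⟩ := h.p.cycle
  -- `gQg⁻¹ = A`
  have h1 : Q.map (MulAut.conj g).toMonoidHom = A := by
    rw [hA]
    exact map_eq_of_conj h.p.lz (by rw [hg1, hg0])
  -- `gAg⁻¹ = B`
  have h2 : A.map (MulAut.conj g).toMonoidHom = B :=
    map_eq_of_conj h.p.la (by rw [hg2, hya])
  have h3 : (Q ⊓ A).map (MulAut.conj g).toMonoidHom = A ⊓ B := by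
    rw [Subgroup.map_inf _ _ _ (MulAut.conj g).injective, h1, h2]
  have h4 : Nat.card ↥(A ⊓ B) = Nat.card ↥(Q ⊓ A) := by
    rw [← h3]; exact Subgroup.card_map_of_injective (MulAut.conj g).injective
  have h5 : Q ⊓ A ≤ A ⊓ B := by
    rintro d ⟨hdQ, hdA⟩
    refine ⟨hdA, ?_⟩
    rw [hB]
    show d ∈ A.map (MulAut.conj y).toMonoidHom
    rw [mem_map]
    rcases h.p.lz.comm d hdQ y hy with h6 | h6
    · have : y⁻¹ * d * y = d := by rw [mul_assoc, h6]; group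
      rw [this]; exact hdA
    · have : y⁻¹ * d * y = d * z := by rw [mul_assoc, h6]; group
      rw [this]; exact A.mul_mem hdA h.p.z_mem
  have h6 := Subgroup.eq_of_le_of_card_ge h5 (by rw [h4])
  have h7 : c ∈ A ⊓ B := ⟨hc, mem_map.2 hcy⟩
  rw [← h6] at h7
  exact h7.1

theorem semi [Finite G] (h : Hyp Q z A a) {f : h.p.lz.V ≃ₗ[ZMod 2] h.p.lz.V} (hf : f ∈ h.p.X)
    {g : h.p.lz.V ≃ₗ[ZMod 2] h.p.lz.V} (hg : g ∈ h.p.H) (hga : g h.p.va ≠ h.p.va)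
    (hfg : f (g h.p.va) = g h.p.va) : f = 1 := by
  obtain ⟨c, hcA, rfl⟩ := h.p.mem_X.1 hf
  apply h.p.lz.act_mem
  have hb : h.p.lz.b h.p.va (g h.p.va) ≠ 0 := fun h1 => hga (h.nnV hg h1)
  obtain ⟨d, rfl⟩ := hg
  set y : Q := h.p.lz.conjQ d ⟨a, h.p.a_mem⟩ with hy
  have h1 : h.p.lz.act d h.p.va = h.p.lz.pr y := h.p.lz.act_pr d _
  rw [h1] at hfg hb
  have hay : (a : G) * y ≠ y * a := fun h2 => hb ((h.p.lz.b_pr ⟨a, h.p.a_mem⟩ y).2 h2)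
  have hay' : (y : G) * a = a * y * z := by
    rcases h.p.lz.comm y y.2 a h.p.a_mem with h2 | h2
    · exact absurd h2.symm hay
    · exact h2
  have hya : (y : G) * a * (y : G)⁻¹ = a * z := by
    rw [hay', mul_assoc a (y : G) z, h.p.lz.comm_z y y.2, ← mul_assoc, mul_inv_cancel_right]
  refine h.inter_le y.2 hya hcA ?_
  rw [h.p.lz.act_pr, h.p.lz.pr_eq_pr, h.p.lz.conjQ_coe] at hfg
  have hcz := zcomm c
  rcases hfg with h2 | h2
  · have h3 : (y : G)⁻¹ * c * y = c := by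
      rw [mul_inv_eq_iff_eq_mul] at h2
      rw [mul_assoc, h2]; group
    rw [h3]; exact hcA
  · have h3 : (y : G)⁻¹ * c * y = z * c := by
      rw [mul_inv_eq_iff_eq_mul] at h2
      rw [mul_assoc, h2]; group
    rw [h3]; exact A.mul_mem h.p.z_mem hcA

/-- the configuration on `V` -/
theorem cfg [Finite G] (h : Hyp Q z A a) :
    Cfg h.p.lz.b h.p.lz.q h.p.H h.p.X h.p.D h.p.va where
  card := h.card_V
  nondeg := fun _ hv => h.p.lz.b_nondeg hv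
  symm := h.p.lz.b_comm
  self := h.p.lz.b_self
  isom := by
    rintro f ⟨c, rfl⟩ v w
    exact h.p.lz.b_act c v w
  q_add := h.p.lz.q_add'
  q_isom := by
    rintro f ⟨c, rfl⟩ v
    exact h.p.lz.q_act c v
  XH := h.p.X_le_H
  Xa := fun _ hf => h.p.X_va hf
  Xsq := fun _ hf => h.p.X_sq hf
  Xcomm := fun _ hf _ hg => h.p.X_comm hf hg
  Xnormal := fun _ hf hfa _ hg => h.p.X_normal hf hfa hg
  XD := fun _ hf _ hv => h.p.X_D hf hv
  Dinv := fun _ hf hfa _ hv => h.p.D_inv hf hfa hv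
  exX := h.p.exists_X
  a_mem := h.p.va_mem_D
  a_ne := h.p.va_ne
  D_iso := fun _ hv _ hw => h.p.b_D hv hw
  D_q := fun _ hv => h.p.q_D hv
  cardXD := h.p.card_X
  nn := fun _ hf hb => h.nnV hf hb
  semi := fun _ hf _ hg hga hfg => h.semi hf hg hga hfg
  mv := by
    obtain ⟨c, hcz, hca⟩ := h.mv
    refine ⟨h.p.lz.act ⟨c, Subgroup.mem_centralizer_singleton_iff.2 hcz⟩, ⟨_, rfl⟩, fun h1 => ?_⟩
    have h2 : h.p.lz.act ⟨c, Subgroup.mem_centralizer_singleton_iff.2 hcz⟩ h.p.va =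
      h.p.lz.pr (h.p.lz.conjQ ⟨c, Subgroup.mem_centralizer_singleton_iff.2 hcz⟩ ⟨a, h.p.a_mem⟩) :=
      h.p.lz.act_pr _ _
    rw [h2, Pair.va, h.p.lz.pr_eq_pr, h.p.lz.conjQ_coe] at h1
    have h1' : c * a * c⁻¹ = a ∨ c * a * c⁻¹ = a * z := h1
    apply hca
    rcases h1' with h3 | h3
    · rw [h3]
    · rw [h3, mul_assoc, ← h.p.comm_za, ← mul_assoc]

theorem symm (h : Hyp Q z A a) : Hyp A a Q z := by
  obtain ⟨g, hg1, hg2, hA, hQ⟩ := h.p.isConj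
  have key : ∀ c, c * a = a * c → (g⁻¹ * c * g) * z = z * (g⁻¹ * c * g) := by
    intro c hc
    have hz : z = g⁻¹ * a * g := by rw [← hg1]; group
    rw [hz]
    calc g⁻¹ * c * g * (g⁻¹ * a * g) = g⁻¹ * (c * a) * g := by group
      _ = g⁻¹ * (a * c) * g := by rw [hc]
      _ = _ := by group
  have ha : a = g⁻¹ * z * g := by rw [← hg2]; group
  refine ⟨h.p.symm, ?_, ?_, ?_⟩
  · rw [h.p.card_eq, h.card]
  · intro c hc hcom
    have h1 : g * (g⁻¹ * c * g * a * (g⁻¹ * c * g)⁻¹) * g⁻¹ = c * z * c⁻¹ := by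
      calc g * (g⁻¹ * c * g * a * (g⁻¹ * c * g)⁻¹) * g⁻¹ = c * (g * a * g⁻¹) * c⁻¹ := by group
        _ = _ := by rw [hg2]
    have h3 : g⁻¹ * c * g * a * (g⁻¹ * c * g)⁻¹ = g⁻¹ * (c * z * c⁻¹) * g := by
      rw [← h1]; group
    have h2 : g⁻¹ * c * g * a * (g⁻¹ * c * g)⁻¹ * a = a * (g⁻¹ * c * g * a * (g⁻¹ * c * g)⁻¹) := by
      rw [h3]
      conv_lhs => rw [ha]
      conv_rhs => rw [ha]
      calc g⁻¹ * (c * (z) * c⁻¹) * g * (g⁻¹ * z * g) = g⁻¹ * ((c * z * c⁻¹) * z) * g := by group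
        _ = g⁻¹ * (z * (c * z * c⁻¹)) * g := by rw [hcom]
        _ = _ := by group
    rcases h.nn _ (key c hc) h2 with h4 | h4
    · left
      rw [← h1, h4, hg2]
    · right
      rw [← h1, h4]
      calc g * (a * z) * g⁻¹ = (g * a * g⁻¹) * (g * z * g⁻¹) := by group
        _ = z * a := by rw [hg1, hg2]
  · obtain ⟨c, hc, hca⟩ := h.mv
    refine ⟨g * c * g⁻¹, ?_, fun h1 => hca ?_⟩
    · rw [← hg1]
      calc g * c * g⁻¹ * (g * z * g⁻¹) = g * (c * z) * g⁻¹ := by group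
        _ = g * (z * c) * g⁻¹ := by rw [hc]
        _ = _ := by group
    · have h2 : g * c * g⁻¹ * z * (g * c * g⁻¹)⁻¹ = g * (c * a * c⁻¹) * g⁻¹ := by
        rw [← hg2]; group
      rw [h2] at h1
      calc c * a * c⁻¹ * a = g⁻¹ * (g * (c * a * c⁻¹) * g⁻¹ * (g * a * g⁻¹)) * g := by group
        _ = g⁻¹ * (g * (c * a * c⁻¹) * g⁻¹ * z) * g := by rw [hg2]
        _ = g⁻¹ * (z * (g * (c * a * c⁻¹) * g⁻¹)) * g := by rw [h1]
        _ = g⁻¹ * ((g * a * g⁻¹) * (g * (c * a * c⁻¹) * g⁻¹)) * g := by rw [hg2]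
        _ = _ := by group

theorem comm_z (h : Hyp Q z A a) {x : G} (hx : x ∈ Q) : x * z = z * x := h.p.lz.comm_z x hx

theorem zz (h : Hyp Q z A a) : z * z = 1 := h.p.lz.z_sq

theorem aa (h : Hyp Q z A a) : a * a = 1 := h.p.la.z_sq

/-- if `v ∈ Q` is not central there is `y ∈ Q` with `y v y⁻¹ = v z` -/
theorem exists_swap' (h : Hyp Q z A a) {v : G} (hv : v ∈ Q) (h1 : v ≠ 1) (hz : v ≠ z) :
    ∃ y ∈ Q, y * v * y⁻¹ = v * z := by
  obtain ⟨y, hy, hya⟩ := exists_not_comm h.p.lz hv h1 hz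
  refine ⟨y, hy, ?_⟩
  rw [hya, mul_assoc v y z, h.comm_z hy, ← mul_assoc, mul_inv_cancel_right]

theorem zvz (h : Hyp Q z A a) {v : G} : v * z * z = v := by rw [mul_assoc, h.zz, mul_one]

/-- `C_G(z)` is transitive on `(z^G ∩ Q) - {z}` -/
theorem exists_conj [Finite G] (h : Hyp Q z A a) {g : G} (hin : g * z * g⁻¹ ∈ Q)
    (hne : g * z * g⁻¹ ≠ z) : ∃ c, c * z = z * c ∧ c * a * c⁻¹ = g * z * g⁻¹ := by
  classical
  set v := g * z * g⁻¹ with hv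
  have p' : Pair Q z (Q.map (MulAut.conj g).toMonoidHom) v := pair_of_conj h.p.lz hin hne
  have h1 := p'.card_X
  have h2 : Nat.card p'.D ≤ 16 := by
    have h3 := Cfsg.Agent.LargeExtra.Perp.card_sq_le h.p.lz p'.D (fun v hv w hw => p'.b_D hv hw)
    rw [h.card_V] at h3
    by_contra hcon
    nlinarith
  have h3 : Nat.card p'.lz.V = 2 ^ 8 := h.card_V
  rw [h3] at h1
  have h8 : 8 ≤ Nat.card p'.X := by
    by_contra hcon
    have h4 : Nat.card p'.X ≤ 7 := by omega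
    have : Nat.card p'.X * Nat.card p'.D * 2 ≤ 7 * 16 * 2 := by
      apply Nat.mul_le_mul_right
      exact Nat.mul_le_mul h4 h2
    omega
  have h5 := h.cfg.mem_O_of_fixed p'.X p'.X_le_H (fun y hy => p'.X_sq hy) h8 (v := p'.va) p'.va_ne
    (fun y hy => p'.X_va hy)
  obtain ⟨f, ⟨c, rfl⟩, hf⟩ := h5
  have h6 : h.p.lz.act c h.p.va = h.p.lz.pr (h.p.lz.conjQ c ⟨a, h.p.a_mem⟩) := h.p.lz.act_pr c _
  rw [h6] at hf
  have h7 : (h.p.lz.conjQ c ⟨a, h.p.a_mem⟩ : G) = v ∨ (h.p.lz.conjQ c ⟨a, h.p.a_mem⟩ : G) = v * z :=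
    h.p.lz.pr_eq_pr.1 hf
  rw [h.p.lz.conjQ_coe] at h7
  rcases h7 with h7 | h7
  · exact ⟨c, zcomm c, h7⟩
  · have hv1 : v ≠ 1 := p'.la.z_ne
    obtain ⟨y, hy, hyv⟩ := h.exists_swap' hin hv1 hne
    refine ⟨y * c, ?_, ?_⟩
    · rw [mul_assoc, zcomm c, ← mul_assoc, h.comm_z hy, mul_assoc]
    · have h7' : (c : G) * a * (c : G)⁻¹ = v * z := h7
      calc y * c * a * (y * c)⁻¹ = y * (c * a * (c : G)⁻¹) * y⁻¹ := by group
        _ = y * (v * z) * y⁻¹ := by rw [h7']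
        _ = y * v * (y⁻¹ * z) := by
            have : z * y⁻¹ = y⁻¹ * z := (h.comm_z (Q.inv_mem hy)).symm
            rw [← this]; group
        _ = v * z * z := by rw [← mul_assoc, hyv]
        _ = v := h.zvz

/-- an involution of `C_G(z)` outside `Q` fixing `ã` -/
theorem outside_a [Finite G] (h : Hyp Q z A a) (i : Subgroup.centralizer ({z} : Set G))
    (hii : (i : G) * i = 1) (hiQ : (i : G) ∉ Q) (hia : h.p.lz.act i h.p.va = h.p.va) :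
    ∃ w ∈ Q, w * i * w⁻¹ ∈ A := by
  classical
  have h1 : h.p.lz.act i ∈ h.p.X := by
    refine h.cfg.mem_X_of_sq ⟨i, rfl⟩ ?_ hia
    rw [← map_mul]
    have : i * i = 1 := Subtype.ext hii
    rw [this, map_one]
  obtain ⟨x, hxA, hxi⟩ := h.p.mem_X.1 h1
  have hx1 : h.p.lz.act x ≠ 1 := by
    intro h2
    rw [hxi] at h2
    exact hiQ (h.p.lz.mem_of_act i h2)
  -- an involution in `x D`
  obtain ⟨x', hx'A, hx'i, hx'x'⟩ : ∃ x' : Subgroup.centralizer ({z} : Set G), (x' : G) ∈ A ∧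
      h.p.lz.act x' = h.p.lz.act i ∧ (x' : G) * x' = 1 := by
    rcases h.p.la.sq x hxA with h2 | h2
    · exact ⟨x, hxA, hxi, h2⟩
    · -- some `d ∈ D` does not commute with `x`
      obtain ⟨d, hdQ, hdA, hxd⟩ : ∃ d ∈ Q, d ∈ A ∧ (x : G) * d ≠ d * x := by
        by_contra hcon
        push Not at hcon
        apply hx1
        apply h.p.lz.act_mem
        by_contra hxQ
        have h3 : h.symm.p.lz.pr ⟨x, hxA⟩ ∉ h.symm.p.D := by
          intro h4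
          exact hxQ ((h.symm.p.pr_mem_D _).1 h4)
        obtain ⟨e, he, hxe⟩ := h.symm.cfg.perp_D h3
        obtain ⟨d, hdQ, rfl⟩ := he
        have h5 := (h.symm.p.lz.b_pr_one _ _).1 hxe
        have h6 := hcon d hdQ d.2
        have h7 : (x : G) * d = d * x * a := h5
        rw [h6] at h7
        exact h.p.la.z_ne (mul_eq_left.1 h7.symm)
      have hxd' : (x : G) * d = d * x * a := (h.p.la.comm x hxA d hdA).resolve_left hxd
      have hdz : d * z = z * d := h.comm_z hdQ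
      refine ⟨x * ⟨d, Subgroup.mem_centralizer_singleton_iff.2 hdz⟩, A.mul_mem hxA hdA, ?_, ?_⟩
      · rw [map_mul, h.p.lz.act_mem ⟨d, Subgroup.mem_centralizer_singleton_iff.2 hdz⟩ hdQ, mul_one, hxi]
      · show (x : G) * d * (x * d) = 1
        have hdd : d * d = 1 := h.p.sq_D hdQ hdA
        have hxa : (x : G) * a = a * x := h.p.la.comm_z x hxA
        have hda : d * a = a * d := h.p.la.comm_z d hdA
        calc (x : G) * d * (x * d) = d * x * a * (x * d) := by rw [hxd']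
          _ = d * (x * (a * x)) * d := by group
          _ = d * (x * (x * a)) * d := by rw [hxa]
          _ = d * ((x * x) * a) * d := by group
          _ = d * (a * a) * d := by rw [h2]
          _ = 1 := by rw [h.aa, mul_one, hdd]
  -- `i = x' y`
  have hyQ : (x' : G)⁻¹ * i ∈ Q := by
    refine h.p.lz.mem_of_act (x'⁻¹ * i) ?_
    rw [map_mul, map_inv, hx'i, inv_mul_cancel]
  set y : Q := ⟨(x' : G)⁻¹ * i, hyQ⟩ with hy
  have hxi' : (x' : G)⁻¹ = x' := inv_eq_of_mul_eq_one_left hx'x'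
  have hiy : (i : G) = x' * y := by
    show (i : G) = x' * ((x' : G)⁻¹ * i)
    group
  have hx'1 : h.p.lz.act x' ≠ 1 := by rw [hx'i, ← hxi]; exact hx1
  -- `ỹ` is fixed by `x'`
  have hfix : h.p.lz.act x' (h.p.lz.pr y) = h.p.lz.pr y := by
    rw [h.p.lz.act_pr]
    apply eq_of_add
    rw [← h.p.lz.pr_mul, ← h.p.lz.pr_one]
    congr 1
    apply Subtype.ext
    show (x' : G) * ((x' : G)⁻¹ * i) * (x' : G)⁻¹ * ((x' : G)⁻¹ * i) = 1
    rw [hxi']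
    calc (x' : G) * (x' * i) * x' * (x' * i) = (x' * x') * i * ((x' * x') * i) := by group
      _ = 1 := by rw [hx'x', one_mul, hii]
  obtain ⟨u, hu⟩ := h.cfg.fixed_x (x := h.p.lz.act x')
    (h.p.mem_X.2 ⟨x', hx'A, rfl⟩) hx'1 hfix
  obtain ⟨w, rfl⟩ := h.p.lz.pr_surjective u
  have ht : h.p.lz.pr (h.p.lz.conjQ x' w⁻¹ * w) = h.p.lz.pr y := by
    rw [h.p.lz.pr_mul, ← h.p.lz.act_pr, h.p.lz.pr_inv, h.p.lz.neg_eq, hu, add_comm]
  have hx'z := zcomm x'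
  have hiz := zcomm i
  have hwz := h.comm_z w.2
  have h4 : (x' : G) * ((h.p.lz.conjQ x' w⁻¹ * w : Q) : G) = (w : G)⁻¹ * x' * w := by
    show (x' : G) * ((x' : G) * (w : G)⁻¹ * (x' : G)⁻¹ * w) = _
    rw [hxi']
    calc (x' : G) * (x' * (w : G)⁻¹ * x' * w) = (x' * x') * (w : G)⁻¹ * x' * w := by group
      _ = _ := by rw [hx'x', one_mul]
  refine ⟨w, w.2, ?_⟩
  rcases h.p.lz.pr_eq_pr.1 ht with h5 | h5
  · rw [h5, ← hiy] at h4
    have : (w : G) * i * (w : G)⁻¹ = x' := by rw [h4]; group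
    rw [this]; exact hx'A
  · rw [h5, ← mul_assoc, ← hiy] at h4
    have : (w : G) * i * (w : G)⁻¹ = x' * z := by
      have h6 : (i : G) = (w : G)⁻¹ * x' * w * z := by rw [← h4, h.zvz]
      rw [h6]
      calc (w : G) * ((w : G)⁻¹ * x' * w * z) * (w : G)⁻¹ = x' * (w * z) * (w : G)⁻¹ := by group
        _ = x' * (z * w) * (w : G)⁻¹ := by rw [hwz]
        _ = _ := by group
    rw [this]; exact A.mul_mem hx'A h.p.z_mem

end Hyp

/-! ## The geometry -/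

open Cfsg.Agent.TypeD4Two.Geo

/-- the conjugates of `z` -/
def Pt (z : G) : Set G := {v | ∃ g, g * z * g⁻¹ = v}

theorem z_mem_Pt (z : G) : z ∈ Pt z := ⟨1, by group⟩

theorem conj_mem_Pt {z v : G} (g : G) (hv : v ∈ Pt z) : g * v * g⁻¹ ∈ Pt z := by
  obtain ⟨k, rfl⟩ := hv
  exact ⟨g * k, by group⟩

/-- the conjugate of `Q` belonging to `v ∈ z^G` -/
noncomputable def Qf (Q : Subgroup G) (z v : G) : Subgroup G := by
  classical exact
    if h : ∃ g, g * z * g⁻¹ = v then Q.map (MulAut.conj h.choose).toMonoidHom else ⊥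

theorem Qf_conj {Q : Subgroup G} {z : G} (h : Large Q z) (g : G) :
    Qf Q z (g * z * g⁻¹) = Q.map (MulAut.conj g).toMonoidHom := by
  have hex : ∃ k, k * z * k⁻¹ = g * z * g⁻¹ := ⟨g, rfl⟩
  rw [Qf, dif_pos hex]
  exact map_eq_of_conj h hex.choose_spec

theorem mem_Qf {Q : Subgroup G} {z : G} (h : Large Q z) {g x : G} :
    x ∈ Qf Q z (g * z * g⁻¹) ↔ g⁻¹ * x * g ∈ Q := by
  rw [Qf_conj h, mem_map]

theorem Qf_z {Q : Subgroup G} {z : G} (h : Large Q z) : Qf Q z z = Q := by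
  have h1 := Qf_conj h 1
  have e : (1 : G) * z * 1⁻¹ = z := by group
  rw [e] at h1
  rw [h1]
  ext x
  rw [mem_map]
  simp

theorem conj_mem_Qf {Q : Subgroup G} {z : G} (h : Large Q z) {v x : G} (k : G) (hv : v ∈ Pt z) :
    k * x * k⁻¹ ∈ Qf Q z (k * v * k⁻¹) ↔ x ∈ Qf Q z v := by
  obtain ⟨g, rfl⟩ := hv
  have e : k * (g * z * g⁻¹) * k⁻¹ = (k * g) * z * (k * g)⁻¹ := by group
  rw [e, mem_Qf h, mem_Qf h]
  have e2 : (k * g)⁻¹ * (k * x * k⁻¹) * (k * g) = g⁻¹ * x * g := by group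
  rw [e2]

namespace Hyp

variable {Q A : Subgroup G} {z a : G}

theorem zn (h : Hyp Q z A a) : z ≠ 1 := h.p.lz.z_ne

theorem mem_Q_conj (h : Hyp Q z A a) {c x : G} (hc : c * z = z * c) (hx : x ∈ Q) : c * x * c⁻¹ ∈ Q :=
  h.p.lz.conj_mem c hc x hx

theorem inv_comm {c z : G} (hc : c * z = z * c) : c⁻¹ * z = z * c⁻¹ := by
  rw [inv_mul_eq_iff_eq_mul, ← mul_assoc, hc, mul_inv_cancel_right]

theorem mem_Q_conj_iff (h : Hyp Q z A a) {c x : G} (hc : c * z = z * c) :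
    c⁻¹ * x * c ∈ Q ↔ x ∈ Q := by
  constructor
  · intro hx
    have := h.mem_Q_conj hc hx
    have e : c * (c⁻¹ * x * c) * c⁻¹ = x := by group
    rwa [e] at this
  · intro hx
    have := h.mem_Q_conj (inv_comm hc) hx
    rwa [inv_inv] at this

theorem outside_z [Finite G] (h : Hyp Q z A a) {i : G} (hii : i * i = 1) (hiz : i * z = z * i)
    (hiQ : i ∉ Q) : ∃ c, c * z = z * c ∧ c⁻¹ * i * c ∈ A := by
  set i' : Subgroup.centralizer ({z} : Set G) := ⟨i, Subgroup.mem_centralizer_singleton_iff.2 hiz⟩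
  have hsq : h.p.lz.act i' * h.p.lz.act i' = 1 := by
    rw [← map_mul]
    have : i' * i' = 1 := Subtype.ext hii
    rw [this, map_one]
  obtain ⟨v, ⟨f, ⟨c, rfl⟩, rfl⟩, hv⟩ := h.cfg.exists_fixed_one ⟨i', rfl⟩ hsq
  have hc := zcomm c
  obtain ⟨w, hw, hwA⟩ := h.outside_a (c⁻¹ * i' * c)
    (by
      show (c : G)⁻¹ * i * c * ((c : G)⁻¹ * i * c) = 1
      calc (c : G)⁻¹ * i * c * ((c : G)⁻¹ * i * c) = (c : G)⁻¹ * (i * i) * c := by group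
        _ = 1 := by rw [hii]; group)
    (fun h1 => hiQ ((h.mem_Q_conj_iff hc).1 h1))
    (by
      rw [map_mul, map_mul, map_inv]
      exact Cfg.conj_a _ _ rfl hv)
  refine ⟨c * w⁻¹, ?_, ?_⟩
  · rw [mul_assoc, inv_comm (h.comm_z hw), ← mul_assoc, hc, mul_assoc]
  · have e : (c * w⁻¹)⁻¹ * i * (c * w⁻¹) = w * ((c : G)⁻¹ * i * c) * w⁻¹ := by group
    rw [e]; exact hwA

/-- FUSION: `z^G ∩ C_G(z) ⊆ Q` -/
theorem mem_of_comm [Finite G] (h : Hyp Q z A a) {v : G} (hv : v ∈ Pt z) (hvz : v * z = z * v) :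
    v ∈ Q := by
  by_contra hvQ
  obtain ⟨g, rfl⟩ := hv
  have hvv : (g * z * g⁻¹) * (g * z * g⁻¹) = 1 := by
    calc (g * z * g⁻¹) * (g * z * g⁻¹) = g * (z * z) * g⁻¹ := by group
      _ = 1 := by rw [h.zz]; group
  obtain ⟨c, hc, hcA⟩ := h.outside_z hvv hvz hvQ
  obtain ⟨g0, hg0, -, -, -⟩ := h.p.isConj
  have hz : z = g0⁻¹ * a * g0 := by rw [← hg0]; group
  have e : c⁻¹ * (g * z * g⁻¹) * c = (c⁻¹ * g * g0⁻¹) * a * (c⁻¹ * g * g0⁻¹)⁻¹ := by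
    conv_lhs => rw [hz]
    group
  have hne : (c⁻¹ * g * g0⁻¹) * a * (c⁻¹ * g * g0⁻¹)⁻¹ ≠ a := by
    rw [← e]
    intro h1
    apply hvQ
    rw [← h.mem_Q_conj_iff hc, h1]
    exact h.p.a_mem
  have hin : (c⁻¹ * g * g0⁻¹) * a * (c⁻¹ * g * g0⁻¹)⁻¹ ∈ A := by rw [← e]; exact hcA
  obtain ⟨c', hc', hc'v⟩ := h.symm.exists_conj hin hne
  rw [← e] at hc'v
  have hcomm : (c' * z * c'⁻¹) * z = z * (c' * z * c'⁻¹) := by
    rw [hc'v]
    have h1 := comm_conj c⁻¹ hvz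
    rw [inv_inv] at h1
    have e1 : c⁻¹ * z * c = z := by
      rw [mul_assoc, ← hc]; group
    rwa [e1] at h1
  have h2 := h.symm.nn c' hc' hcomm
  rw [hc'v] at h2
  apply hvQ
  rw [← h.mem_Q_conj_iff hc]
  rcases h2 with h2 | h2
  · rw [h2]; exact h.p.lz.z_mem
  · rw [h2]; exact Q.mul_mem h.p.lz.z_mem h.p.a_mem

theorem tr [Finite G] (h : Hyp Q z A a) {v : G} (hv : v ∈ Pt z) (hzv : Adj z v) :
    ∃ c, c * z = z * c ∧ c * a * c⁻¹ = v := by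
  have h1 := h.mem_of_comm hv hzv.1.symm
  obtain ⟨g, rfl⟩ := hv
  exact h.exists_conj h1 hzv.2.symm

theorem az_mem (h : Hyp Q z A a) : z * a ∈ Pt z := by
  obtain ⟨g, -, -, hg⟩ := h.p.cycle
  refine ⟨g⁻¹, ?_⟩
  rw [← h.p.comm_za]
  conv_lhs => rw [← hg]
  group

theorem a_mem_Pt (h : Hyp Q z A a) : a ∈ Pt z := by
  obtain ⟨g, hg, -⟩ := h.p.isConj
  exact ⟨g, hg⟩

theorem line_z [Finite G] (h : Hyp Q z A a) {v : G} (hv : v ∈ Pt z) (hzv : Adj z v) :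
    z * v ∈ Pt z := by
  obtain ⟨c, hc, rfl⟩ := h.tr hv hzv
  have e : z * (c * a * c⁻¹) = c * (z * a) * c⁻¹ := by
    rw [← mul_assoc, ← mul_assoc, ← hc]; group
  rw [e]
  exact conj_mem_Pt c h.az_mem

/-- commuting points adjacent to `z` lie on one line -/
theorem nn_z [Finite G] (h : Hyp Q z A a) {v w : G} (hv : v ∈ Pt z) (hzv : Adj z v) (hw : w ∈ Pt z)
    (hzw : Adj z w) (hvw : v * w = w * v) : w = v ∨ w = z * v := by
  obtain ⟨c, hc, rfl⟩ := h.tr hv hzv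
  obtain ⟨d, hd, rfl⟩ := h.tr hw hzw
  have hcd : (c⁻¹ * d) * z = z * (c⁻¹ * d) := by
    rw [mul_assoc, hd, ← mul_assoc, inv_comm hc, mul_assoc]
  have e : (c⁻¹ * d) * a * (c⁻¹ * d)⁻¹ = c⁻¹ * (d * a * d⁻¹) * c := by group
  have h1 := h.nn (c⁻¹ * d) hcd (by
    rw [e]
    have h2 := comm_conj c⁻¹ hvw
    rw [inv_inv] at h2
    have e2 : c⁻¹ * (c * a * c⁻¹) * c = a := by group
    rw [e2] at h2
    exact h2.symm)
  rw [e] at h1
  have e3 : d * a * d⁻¹ = c * (c⁻¹ * (d * a * d⁻¹) * c) * c⁻¹ := by group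
  rcases h1 with h1 | h1
  · left; rw [e3, h1]
  · right
    rw [e3, h1, h.p.comm_za, ← mul_assoc, hc]
    group

theorem z_mem_Qf [Finite G] (h : Hyp Q z A a) {v : G} (hv : v ∈ Pt z) (hzv : Adj z v) :
    z ∈ Qf Q z v := by
  have h1 := h.mem_of_comm hv hzv.1.symm
  obtain ⟨g, rfl⟩ := hv
  have p' := pair_of_conj h.p.lz h1 hzv.2.symm
  rw [Qf_conj h.p.lz]
  exact p'.z_mem

theorem mem_Qf_conj (h : Hyp Q z A a) {c x : G} :
    x ∈ Qf Q z (c * a * c⁻¹) ↔ c⁻¹ * x * c ∈ A := by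
  obtain ⟨g, hg, -, hA, -⟩ := h.p.isConj
  have e : c * a * c⁻¹ = (c * g) * z * (c * g)⁻¹ := by rw [← hg]; group
  rw [e, mem_Qf h.p.lz, hA, mem_map]
  have e2 : (c * g)⁻¹ * x * (c * g) = g⁻¹ * (c⁻¹ * x * c) * g := by group
  rw [e2]

theorem mul_z (h : Hyp Q z A a) {x : G} (hx : x ∈ Q) : x * z = z * x := h.comm_z hx

/-- `D` is a property of the line -/
theorem mem_mul_z [Finite G] (h : Hyp Q z A a) {v x : G} (hv : v ∈ Pt z) (hzv : Adj z v)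
    (hxQ : x ∈ Q) (hxv : x ∈ Qf Q z v) : x ∈ Qf Q z (z * v) := by
  have hvQ := h.mem_of_comm hv hzv.1.symm
  have hv1 : v ≠ 1 := by
    obtain ⟨g, rfl⟩ := hv
    exact (h.p.lz.conj g).z_ne
  obtain ⟨y, hy, hyv⟩ := h.exists_swap' hvQ hv1 hzv.2.symm
  rw [hzv.1, ← hyv]
  have e : x = y * (y⁻¹ * x * y) * y⁻¹ := by group
  rw [e, conj_mem_Qf h.p.lz y hv]
  rcases h.p.lz.comm x hxQ y hy with h6 | h6
  · have : y⁻¹ * x * y = x := by rw [mul_assoc, h6]; group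
    rw [this]; exact hxv
  · have : y⁻¹ * x * y = x * z := by rw [mul_assoc, h6]; group
    rw [this]; exact (Qf Q z v).mul_mem hxv (h.z_mem_Qf hv hzv)

/-- the element of `H` belonging to `c` -/
noncomputable abbrev ac (h : Hyp Q z A a) {c : G} (hc : c * z = z * c) :
    h.p.lz.V ≃ₗ[ZMod 2] h.p.lz.V :=
  h.p.lz.act ⟨c, Subgroup.mem_centralizer_singleton_iff.2 hc⟩

theorem ac_mem (h : Hyp Q z A a) {c : G} (hc : c * z = z * c) : h.ac hc ∈ h.p.H := ⟨_, rfl⟩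

theorem ac_pr (h : Hyp Q z A a) {c : G} (hc : c * z = z * c) (x : Q) :
    h.ac hc (h.p.lz.pr x) = h.p.lz.pr ⟨c * x * c⁻¹, h.mem_Q_conj hc x.2⟩ := h.p.lz.act_pr _ x

theorem inD_of [Finite G] (h : Hyp Q z A a) {c : G} (hc : c * z = z * c) {e : Q}
    (he : (e : G) ∈ Qf Q z (c * a * c⁻¹)) :
    Cfg.InD h.p.H h.p.D h.p.va (h.ac hc h.p.va) (h.p.lz.pr e) := by
  refine ⟨h.ac hc, h.ac_mem hc, rfl, ?_⟩
  have h1 := h.mem_Qf_conj.1 he
  have h2 : (h.ac hc)⁻¹ (h.p.lz.pr e) =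
      h.p.lz.pr ⟨c⁻¹ * e * c, (h.mem_Q_conj_iff hc).2 e.2⟩ := by
    have h3 : h.ac hc (h.p.lz.pr ⟨c⁻¹ * e * c, (h.mem_Q_conj_iff hc).2 e.2⟩) = h.p.lz.pr e := by
      rw [h.ac_pr]
      congr 1
      apply Subtype.ext
      show c * (c⁻¹ * e * c) * c⁻¹ = e
      group
    rw [← h3, Cfg.inv_apply_apply]
  rw [h2, h.p.pr_mem_D]
  exact h1

theorem ac_va (h : Hyp Q z A a) {c : G} (hc : c * z = z * c) :
    h.ac hc h.p.va = h.p.lz.pr ⟨c * a * c⁻¹, h.mem_Q_conj hc h.p.a_mem⟩ := h.ac_pr hc _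

theorem uniq_z [Finite G] (h : Hyp Q z A a) {v w e : G} (hv : v ∈ Pt z) (hw : w ∈ Pt z)
    (hzv : Adj z v) (hzw : Adj z w) (he : e ∈ Q) (hev : e ∈ Qf Q z v) (hew : e ∈ Qf Q z w)
    (heP : e ∉ Pt z) (he1 : e ≠ 1) : w = v ∨ w = z * v := by
  obtain ⟨c, hc, rfl⟩ := h.tr hv hzv
  obtain ⟨d, hd, rfl⟩ := h.tr hw hzw
  have h1 := h.inD_of hc (e := ⟨e, he⟩) hev
  have h2 := h.inD_of hd (e := ⟨e, he⟩) hew
  have h3 : h.p.lz.pr ⟨e, he⟩ ≠ 0 := by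
    intro h4
    rcases h.p.lz.pr_eq_zero.1 h4 with h5 | h5
    · exact he1 h5
    · exact heP (h5 ▸ z_mem_Pt z)
  have h4 := h.cfg.uniq h3 ⟨_, h.ac_mem hd, rfl⟩ h1 h2
  rw [h.ac_va, h.ac_va] at h4
  rcases h.p.lz.pr_eq_pr.1 h4 with h5 | h5
  · left; exact h5
  · right
    have h6 : d * a * d⁻¹ = c * a * c⁻¹ * z := h5
    rw [h6]
    exact hzv.1.symm

theorem exists_line_z [Finite G] (h : Hyp Q z A a) {i : G} (hi : i ∈ Q) (hii : i * i = 1) :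
    ∃ v ∈ Pt z, Adj z v ∧ i ∈ Qf Q z v := by
  have h1 : h.p.lz.q (h.p.lz.pr ⟨i, hi⟩) = 0 := h.p.lz.q_eq_zero.2 hii
  obtain ⟨j, -, f, ⟨c, rfl⟩, -, hD⟩ := h.cfg.exists_D h1
  have hc := zcomm c
  have hne : (c : G) * a * (c : G)⁻¹ ≠ z := by
    intro h2
    apply h.p.ne
    have h3 : (c : G) * a * (c : G)⁻¹ = c * z * (c : G)⁻¹ := by rw [h2, hc, mul_inv_cancel_right]
    exact mul_left_cancel (mul_right_cancel h3)
  refine ⟨c * a * (c : G)⁻¹, conj_mem_Pt _ h.a_mem_Pt, ⟨(h.comm_z (h.mem_Q_conj hc h.p.a_mem)).symm,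
    hne.symm⟩, ?_⟩
  rw [h.mem_Qf_conj]
  have h2 : (h.p.lz.act c)⁻¹ (h.p.lz.pr ⟨i, hi⟩) =
      h.p.lz.pr ⟨(c : G)⁻¹ * i * c, (h.mem_Q_conj_iff hc).2 hi⟩ := by
    have h3 : h.p.lz.act c (h.p.lz.pr ⟨(c : G)⁻¹ * i * c, (h.mem_Q_conj_iff hc).2 hi⟩) =
        h.p.lz.pr ⟨i, hi⟩ := by
      rw [h.p.lz.act_pr]
      congr 1
      apply Subtype.ext
      show (c : G) * ((c : G)⁻¹ * i * c) * (c : G)⁻¹ = i
      group
    rw [← h3, Cfg.inv_apply_apply]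
  rw [h2, h.p.pr_mem_D] at hD
  exact hD

theorem fix_two_z [Finite G] (h : Hyp Q z A a) {v w x : G} (hv : v ∈ Pt z) (hw : w ∈ Pt z)
    (hzv : Adj z v) (hzw : Adj z w) (hne : w ≠ v) (hne' : w ≠ z * v) (hx : x * z = z * x)
    (hxx : x * x ∈ Q) (hxv : x * v * x⁻¹ = v ∨ x * v * x⁻¹ = z * v)
    (hxw : x * w * x⁻¹ = w ∨ x * w * x⁻¹ = z * w) : x ∈ Q := by
  have hvQ := h.mem_of_comm hv hzv.1.symm
  have hwQ := h.mem_of_comm hw hzw.1.symm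
  obtain ⟨c, hc, rfl⟩ := h.tr hv hzv
  obtain ⟨d, hd, rfl⟩ := h.tr hw hzw
  have hfix : ∀ u (hu : u ∈ Q), (x * u * x⁻¹ = u ∨ x * u * x⁻¹ = z * u) →
      h.ac hx (h.p.lz.pr ⟨u, hu⟩) = h.p.lz.pr ⟨u, hu⟩ := by
    intro u hu hxu
    rw [h.ac_pr, h.p.lz.pr_eq_pr]
    rcases hxu with h1 | h1
    · left; exact h1
    · right
      show x * u * x⁻¹ = u * z
      rw [h1, h.comm_z hu]
  have h1 : h.ac hx = 1 := by
    refine h.cfg.fix_two (h.ac_mem hx) ?_ (i := h.ac hc h.p.va) (j := h.ac hd h.p.va)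
      ⟨_, h.ac_mem hc, rfl⟩ ⟨_, h.ac_mem hd, rfl⟩ ?_ ?_ ?_
    · rw [← map_mul]
      exact h.p.lz.act_mem _ hxx
    · rw [h.ac_va, h.ac_va]
      intro h2
      rcases h.p.lz.pr_eq_pr.1 h2.symm with h5 | h5
      · exact hne h5
      · have h6 : d * a * d⁻¹ = c * a * c⁻¹ * z := h5
        exact hne' (by rw [h6]; exact hzv.1.symm)
    · rw [h.ac_va]; exact hfix _ _ hxv
    · rw [h.ac_va]; exact hfix _ _ hxw
  exact h.p.lz.mem_of_act _ h1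

theorem count_z [Finite G] (h : Hyp Q z A a) {v : G} (hv : v ∈ Pt z) (hzv : Adj z v)
    (E : Subgroup G) (hEQ : ∀ e ∈ E, e ∈ Q) (hEv : ∀ e ∈ E, e ∈ Qf Q z v) (hEP : ∀ e ∈ E, e ∉ Pt z) :
    ∃ w ∈ Pt z, Adj z w ∧ w ≠ v ∧ w ≠ z * v ∧ ∀ e ∈ E, e * w = w * e := by
  obtain ⟨c, hc, rfl⟩ := h.tr hv hzv
  set W := Cfsg.Agent.LargeExtra.Local.sub h.p.lz (E.map (MulAut.conj c⁻¹).toMonoidHom) with hW
  have hmem : ∀ x, x ∈ E.map (MulAut.conj c⁻¹).toMonoidHom ↔ c * x * c⁻¹ ∈ E := by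
    intro x
    rw [mem_map, inv_inv]
  have hWD : W ≤ h.p.D := by
    rintro _ ⟨x, hx, rfl⟩
    rw [hmem] at hx
    rw [h.p.pr_mem_D]
    have h1 := h.mem_Qf_conj.1 (hEv _ hx)
    have e : c⁻¹ * (c * x * c⁻¹) * c = x := by group
    rwa [e] at h1
  have haW : h.p.va ∉ W := by
    rintro ⟨x, hx, hxa⟩
    rw [hmem] at hx
    apply hEP _ hx
    rcases h.p.lz.pr_eq_pr.1 hxa with h1 | h1
    · rw [h1]; exact conj_mem_Pt c h.a_mem_Pt
    · rw [h1, h.p.comm_za]; exact conj_mem_Pt c h.az_mem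
  obtain ⟨v1, ⟨f, ⟨d, rfl⟩, rfl⟩, hne, hperp⟩ := h.cfg.exists_perp W hWD haW
  have hd := zcomm d
  have hdva : h.p.lz.act d h.p.va = h.p.lz.pr ⟨d * a * (d : G)⁻¹, h.mem_Q_conj hd h.p.a_mem⟩ :=
    h.p.lz.act_pr d _
  rw [hdva] at hne hperp
  set w' : G := d * a * (d : G)⁻¹ with hw'
  have hw'Q : w' ∈ Q := h.mem_Q_conj hd h.p.a_mem
  have hcw : c * w' * c⁻¹ ∈ Q := h.mem_Q_conj hc hw'Q
  refine ⟨c * w' * c⁻¹, conj_mem_Pt _ (conj_mem_Pt _ h.a_mem_Pt), ⟨(h.comm_z hcw).symm, ?_⟩, ?_, ?_, ?_⟩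
  · intro h1
    apply h.p.ne
    have h2 : w' = z := by
      have h3 : c * w' * c⁻¹ = c * z * c⁻¹ := by rw [← h1, hc, mul_inv_cancel_right]
      exact mul_left_cancel (mul_right_cancel h3)
    have h3 : (d : G) * a * (d : G)⁻¹ = d * z * (d : G)⁻¹ := by
      rw [hd, mul_inv_cancel_right]; exact h2
    exact mul_left_cancel (mul_right_cancel h3)
  · intro h1
    apply hne
    have h2 : w' = a := mul_left_cancel (mul_right_cancel h1)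
    exact congrArg h.p.lz.pr (Subtype.ext h2)
  · intro h1
    apply hne
    rw [Pair.va, h.p.lz.pr_eq_pr]
    right
    show w' = a * z
    have h2 : c * w' * c⁻¹ = c * (a * z) * c⁻¹ := by
      rw [h1, h.p.comm_za, ← mul_assoc, ← mul_assoc, ← mul_assoc, hc]
    exact mul_left_cancel (mul_right_cancel h2)
  · intro e he
    have heQ := hEQ e he
    have he'Q : c⁻¹ * e * c ∈ Q := (h.mem_Q_conj_iff hc).2 heQ
    have h1 := hperp (h.p.lz.pr ⟨c⁻¹ * e * c, he'Q⟩) ⟨⟨c⁻¹ * e * c, he'Q⟩, by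
      rw [hmem]
      show c * (c⁻¹ * e * c) * c⁻¹ ∈ E
      have e1 : c * (c⁻¹ * e * c) * c⁻¹ = e := by group
      rw [e1]; exact he, rfl⟩
    have h2 := (h.p.lz.b_pr _ _).1 h1
    have h3 : (c⁻¹ * e * c) * w' = w' * (c⁻¹ * e * c) := h2
    calc e * (c * w' * c⁻¹) = c * ((c⁻¹ * e * c) * w') * c⁻¹ := by group
      _ = c * (w' * (c⁻¹ * e * c)) * c⁻¹ := by rw [h3]
      _ = _ := by group

theorem adj_conj {u v k : G} : Adj (k * u * k⁻¹) (k * v * k⁻¹) ↔ Adj u v := by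
  constructor
  · intro h1
    have h2 := h1.conj k⁻¹
    have e : ∀ x : G, k⁻¹ * (k * x * k⁻¹) * k⁻¹⁻¹ = x := fun x => by group
    rwa [e, e] at h2
  · exact fun h1 => h1.conj k

theorem conj_inj {k x y : G} : k * x * k⁻¹ = k * y * k⁻¹ ↔ x = y :=
  ⟨fun h1 => mul_left_cancel (mul_right_cancel h1), fun h1 => by rw [h1]⟩

theorem conj_mul' (k x y : G) : k * (x * y) * k⁻¹ = (k * x * k⁻¹) * (k * y * k⁻¹) := by group

theorem mem_Pt_conj {v : G} (k : G) : k * v * k⁻¹ ∈ Pt z ↔ v ∈ Pt z := by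
  constructor
  · intro h1
    have h2 := conj_mem_Pt k⁻¹ h1
    have e : k⁻¹ * (k * v * k⁻¹) * k⁻¹⁻¹ = v := by group
    rwa [e] at h2
  · exact conj_mem_Pt k

/-- the geometry -/
theorem isGeo [Finite G] (h : Hyp Q z A a) : IsGeo (Pt z) (Qf Q z) where
  ne_one := by
    rintro _ ⟨g, rfl⟩
    exact (h.p.lz.conj g).z_ne
  inv := by
    rintro _ ⟨g, rfl⟩
    exact (h.p.lz.conj g).z_sq
  conj := fun g u hu => conj_mem_Pt g hu
  Qconj := fun g u hu x hx => (conj_mem_Qf h.p.lz g hu).2 hx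
  commz := by
    rintro _ ⟨g, rfl⟩ x hx
    rw [Qf_conj h.p.lz] at hx
    exact (h.p.lz.conj g).comm_z x hx
  sq := by
    rintro _ ⟨g, rfl⟩ x hx
    rw [Qf_conj h.p.lz] at hx
    exact (h.p.lz.conj g).sq x hx
  mem_of_comm := by
    rintro u ⟨g, hg⟩ v hv huv
    have hk : g⁻¹ * u * g⁻¹⁻¹ = z := by rw [← hg]; group
    rw [← conj_mem_Qf h.p.lz g⁻¹ ⟨g, hg⟩, hk, Qf_z h.p.lz]
    refine h.mem_of_comm (conj_mem_Pt _ hv) ?_
    have := comm_conj g⁻¹ huv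
    rw [hk] at this
    exact this.symm
  line := by
    rintro u ⟨g, hg⟩ v hv huv
    have hk : g⁻¹ * u * g⁻¹⁻¹ = z := by rw [← hg]; group
    rw [← mem_Pt_conj g⁻¹, conj_mul', hk]
    refine h.line_z (conj_mem_Pt _ hv) ?_
    rw [← hk]; exact huv.conj _
  line_mem := by
    rintro u ⟨g, hg⟩ v hv huv w hw hwu hwv
    have hk : g⁻¹ * u * g⁻¹⁻¹ = z := by rw [← hg]; group
    by_cases hne : u = w
    · left; exact hne.symm
    right
    have hv' := conj_mem_Pt g⁻¹ hv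
    have hw' := conj_mem_Pt g⁻¹ hw
    have h1 : Adj z (g⁻¹ * v * g⁻¹⁻¹) := by rw [← hk]; exact huv.conj _
    have huw : Adj u w := by
      refine ⟨?_, hne⟩
      rw [← hg] at hwu ⊢
      rw [Qf_conj h.p.lz] at hwu
      exact ((h.p.lz.conj g).comm_z w hwu).symm
    have h2 : Adj z (g⁻¹ * w * g⁻¹⁻¹) := by rw [← hk]; exact huw.conj _
    have hvw : v * w = w * v := by
      obtain ⟨k, rfl⟩ := hv
      rw [Qf_conj h.p.lz] at hwv
      exact ((h.p.lz.conj k).comm_z w hwv).symm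
    have h3 := h.nn_z hv' h1 hw' h2 (comm_conj _ hvw)
    rw [← hk, ← conj_mul', conj_inj, conj_inj] at h3
    exact h3
  mem_mul := by
    rintro u ⟨g, hg⟩ v hv huv x hxu hxv
    have hk : g⁻¹ * u * g⁻¹⁻¹ = z := by rw [← hg]; group
    have hv' := conj_mem_Pt g⁻¹ hv
    have h1 : Adj z (g⁻¹ * v * g⁻¹⁻¹) := by rw [← hk]; exact huv.conj _
    have huvP : u * v ∈ Pt z := by
      rw [← mem_Pt_conj g⁻¹, conj_mul', hk]
      exact h.line_z hv' h1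
    rw [← conj_mem_Qf h.p.lz g⁻¹ huvP, conj_mul', hk]
    refine h.mem_mul_z hv' h1 ?_ ((conj_mem_Qf h.p.lz g⁻¹ hv).2 hxv)
    have h2 := (conj_mem_Qf h.p.lz g⁻¹ ⟨g, hg⟩).2 hxu
    rwa [hk, Qf_z h.p.lz] at h2
  uniq := by
    rintro u ⟨g, hg⟩ v hv w hw huv huw e heu hev hew heP he1
    have hk : g⁻¹ * u * g⁻¹⁻¹ = z := by rw [← hg]; group
    have h2 := (conj_mem_Qf h.p.lz g⁻¹ ⟨g, hg⟩).2 heu
    rw [hk, Qf_z h.p.lz] at h2
    have h3 := h.uniq_z (conj_mem_Pt g⁻¹ hv) (conj_mem_Pt g⁻¹ hw) (by rw [← hk]; exact huv.conj _)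
      (by rw [← hk]; exact huw.conj _) h2 ((conj_mem_Qf h.p.lz g⁻¹ hv).2 hev)
      ((conj_mem_Qf h.p.lz g⁻¹ hw).2 hew) (fun h4 => heP ((mem_Pt_conj g⁻¹).1 h4))
      (fun h4 => he1 (by
        have : g⁻¹ * e * g⁻¹⁻¹ = g⁻¹ * 1 * g⁻¹⁻¹ := by rw [h4]; group
        exact conj_inj.1 this))
    rw [← hk, ← conj_mul', conj_inj, conj_inj] at h3
    exact h3
  exists_line := by
    rintro u ⟨g, hg⟩ i hiu hii - -
    have hk : g⁻¹ * u * g⁻¹⁻¹ = z := by rw [← hg]; group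
    have h2 := (conj_mem_Qf h.p.lz g⁻¹ ⟨g, hg⟩).2 hiu
    rw [hk, Qf_z h.p.lz] at h2
    obtain ⟨v, hv, hzv, hiv⟩ := h.exists_line_z h2 (by
      rw [← conj_mul', hii]; group)
    have e : ∀ x, g * x * g⁻¹ = g * x * g⁻¹ := fun _ => rfl
    refine ⟨g * v * g⁻¹, conj_mem_Pt g hv, ?_, ?_⟩
    · rw [← hg]; exact hzv.conj g
    · rw [← conj_mem_Qf h.p.lz g hv] at hiv
      have e2 : g * (g⁻¹ * i * g⁻¹⁻¹) * g⁻¹ = i := by group
      rwa [e2] at hiv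
  fix_two := by
    rintro u ⟨g, hg⟩ v hv w hw huv huw hne hne' x hxu hxx hxv hxw
    have hk : g⁻¹ * u * g⁻¹⁻¹ = z := by rw [← hg]; group
    rw [← conj_mem_Qf h.p.lz g⁻¹ ⟨g, hg⟩, hk, Qf_z h.p.lz]
    have h2 := (conj_mem_Qf h.p.lz g⁻¹ ⟨g, hg⟩).2 hxx
    rw [hk, Qf_z h.p.lz, conj_mul'] at h2
    have key : ∀ t, (x * t * x⁻¹ = t ∨ x * t * x⁻¹ = u * t) →
        ((g⁻¹ * x * g⁻¹⁻¹) * (g⁻¹ * t * g⁻¹⁻¹) * (g⁻¹ * x * g⁻¹⁻¹)⁻¹ = g⁻¹ * t * g⁻¹⁻¹ ∨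
         (g⁻¹ * x * g⁻¹⁻¹) * (g⁻¹ * t * g⁻¹⁻¹) * (g⁻¹ * x * g⁻¹⁻¹)⁻¹ = z * (g⁻¹ * t * g⁻¹⁻¹)) := by
      intro t ht
      have e1 : (g⁻¹ * x * g⁻¹⁻¹) * (g⁻¹ * t * g⁻¹⁻¹) * (g⁻¹ * x * g⁻¹⁻¹)⁻¹ =
          g⁻¹ * (x * t * x⁻¹) * g⁻¹⁻¹ := by group
      rw [e1, ← hk, ← conj_mul', conj_inj, conj_inj]
      exact ht
    refine h.fix_two_z (conj_mem_Pt g⁻¹ hv) (conj_mem_Pt g⁻¹ hw) (by rw [← hk]; exact huv.conj _)
      (by rw [← hk]; exact huw.conj _) (fun h4 => hne (conj_inj.1 h4)) (fun h4 => hne' ?_) ?_ h2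
      (key v hxv) (key w hxw)
    · rw [← hk, ← conj_mul', conj_inj] at h4
      exact h4
    · have := comm_conj g⁻¹ hxu
      rwa [hk] at this
  outside := by
    rintro u ⟨g, hg⟩ i hii - hiu
    by_cases hiQ : i ∈ Qf Q z u
    · exact ⟨u, ⟨g, hg⟩, rfl, hiQ⟩
    have hk : g⁻¹ * u * g⁻¹⁻¹ = z := by rw [← hg]; group
    have h2 : g⁻¹ * i * g⁻¹⁻¹ ∉ Q := by
      intro h3
      apply hiQ
      rw [← conj_mem_Qf h.p.lz g⁻¹ ⟨g, hg⟩, hk, Qf_z h.p.lz]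
      exact h3
    obtain ⟨c, hc, hcA⟩ := h.outside_z (i := g⁻¹ * i * g⁻¹⁻¹) (by rw [← conj_mul', hii]; group)
      (by
        have := comm_conj g⁻¹ hiu
        rwa [hk] at this) h2
    have hcP : c * a * c⁻¹ ∈ Pt z := conj_mem_Pt c h.a_mem_Pt
    refine ⟨g * (c * a * c⁻¹) * g⁻¹, conj_mem_Pt g hcP, ?_, ?_⟩
    · rw [← hg]
      exact comm_conj g (h.comm_z (h.mem_Q_conj hc h.p.a_mem)).symm
    · have h3 := (conj_mem_Qf h.p.lz g hcP).2 (h.mem_Qf_conj.2 hcA)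
      have e2 : g * (g⁻¹ * i * g⁻¹⁻¹) * g⁻¹ = i := by group
      rwa [e2] at h3
  count := by
    rintro u ⟨g, hg⟩ v hv huv E hEu hEv hEP
    have hk : g⁻¹ * u * g⁻¹⁻¹ = z := by rw [← hg]; group
    have hkk : ∀ x, g⁻¹ * (g * x * g⁻¹) * g⁻¹⁻¹ = x := fun x => by group
    have hmem : ∀ x, x ∈ E.map (MulAut.conj g⁻¹).toMonoidHom ↔ g * x * g⁻¹ ∈ E := by
      intro x
      rw [mem_map, inv_inv]
    obtain ⟨w, hw, hzw, hne, hne', hwE⟩ := h.count_z (conj_mem_Pt g⁻¹ hv)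
      (by rw [← hk]; exact huv.conj _) (E.map (MulAut.conj g⁻¹).toMonoidHom)
      (by
        intro e he
        rw [hmem] at he
        have h1 := (conj_mem_Qf h.p.lz g⁻¹ ⟨g, hg⟩).2 (hEu _ he)
        rwa [hk, Qf_z h.p.lz, hkk] at h1)
      (by
        intro e he
        rw [hmem] at he
        have h1 := (conj_mem_Qf h.p.lz g⁻¹ hv).2 (hEv _ he)
        rwa [hkk] at h1)
      (by
        intro e he
        rw [hmem] at he
        intro h1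
        exact hEP _ he ((mem_Pt_conj g).2 h1))
    refine ⟨g * w * g⁻¹, conj_mem_Pt g hw, ?_, ?_, ?_, ?_⟩
    · rw [← hg]; exact hzw.conj g
    · intro h1
      apply hne
      rw [← h1, hkk]
    · intro h1
      apply hne'
      rw [← hk, ← conj_mul', ← h1, hkk]
    · intro e he
      have h1 := hwE (g⁻¹ * e * g⁻¹⁻¹) ((hmem _).2 (by
        have : g * (g⁻¹ * e * g⁻¹⁻¹) * g⁻¹ = e := by group
        rw [this]; exact he))
      have h2 := comm_conj g h1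
      have e2 : g * (g⁻¹ * e * g⁻¹⁻¹) * g⁻¹ = e := by group
      rwa [e2] at h2
  ntrans := by
    rintro u ⟨g, hg⟩ v hv w hw huv huw
    have hk : g⁻¹ * u * g⁻¹⁻¹ = z := by rw [← hg]; group
    obtain ⟨c, hc, hca⟩ := h.tr (conj_mem_Pt g⁻¹ hv) (by rw [← hk]; exact huv.conj _)
    obtain ⟨d, hd, hda⟩ := h.tr (conj_mem_Pt g⁻¹ hw) (by rw [← hk]; exact huw.conj _)
    refine ⟨g * (d * c⁻¹) * g⁻¹, ?_, ?_⟩
    · rw [← hg]
      apply comm_conj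
      rw [mul_assoc, inv_comm hc, ← mul_assoc, hd, mul_assoc]
    · have e : g * (d * c⁻¹) * g⁻¹ * v * (g * (d * c⁻¹) * g⁻¹)⁻¹ =
          g * (d * (c⁻¹ * (g⁻¹ * v * g⁻¹⁻¹) * c) * d⁻¹) * g⁻¹ := by group
      rw [e, ← hca]
      have e2 : c⁻¹ * (c * a * c⁻¹) * c = a := by group
      rw [e2, hda]
      group

/-- some involution of `D` is not a point -/
theorem exists_b [Finite G] (h : Hyp Q z A a) :
    ∃ b, b * b = 1 ∧ b ≠ 1 ∧ b ∉ Pt z ∧ b * z = z * b := by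
  classical
  have hfin := h.cfg.finite
  obtain ⟨v, hv, hv0, hva⟩ : ∃ v ∈ h.p.D, v ≠ 0 ∧ v ≠ h.p.va := by
    by_contra hcon
    push Not at hcon
    have hsub : (h.p.D : Set h.p.lz.V) ⊆ {0, h.p.va} := by
      intro v hv
      by_cases hv0 : v = 0
      · exact Or.inl hv0
      · exact Or.inr (hcon v hv hv0)
    have h1 := Set.ncard_le_ncard hsub (Set.toFinite _)
    have h2 : (h.p.D : Set h.p.lz.V).ncard = 16 := h.cfg.card_D
    have h8 := Set.ncard_insert_le (0 : h.p.lz.V) {h.p.va}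
    rw [Set.ncard_singleton] at h8
    omega
  obtain ⟨x, hxA, rfl⟩ := hv
  refine ⟨x, h.p.sq_D x.2 hxA, ?_, ?_, h.comm_z x.2⟩
  · intro h1
    exact hv0 (h.p.lz.pr_eq_zero.2 (Or.inl h1))
  · intro hP
    have hxz : (x : G) ≠ z := fun h1 => hv0 (h.p.lz.pr_eq_zero.2 (Or.inr h1))
    have hxa : (x : G) * a = a * x := h.p.la.comm_z x hxA
    have h1 := h.nn_z h.a_mem_Pt ⟨h.p.comm_za.symm, h.p.ne.symm⟩ hP
      ⟨(h.comm_z x.2).symm, hxz.symm⟩ hxa.symm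
    apply hva
    rw [Pair.va, h.p.lz.pr_eq_pr]
    rcases h1 with h1 | h1
    · exact Or.inl h1
    · right; rw [h1]; exact h.p.comm_za.symm

/-- **The closing theorem**: `G` is generated by `C_G(z)` and any element moving `z` to an adjacent
conjugate. -/
theorem closing [Finite G] (h : Hyp Q z A a) (H : Subgroup G)
    (hCH : Subgroup.centralizer ({z} : Set G) ≤ H) {m : G} (hmH : m ∈ H)
    (hm : (m * z * m⁻¹) * z = z * (m * z * m⁻¹)) (hm' : m * z * m⁻¹ ≠ z) : H = ⊤ :=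
  h.isGeo.closing (z_mem_Pt z) (conj_mem_Pt m (z_mem_Pt z)) ⟨hm.symm, hm'.symm⟩
    (Cfsg.Agent.LargeExtra.TwoCentral.odd_index h.p.lz) h.exists_b H hCH hmH rfl

end Hyp

end Cfsg.Agent.TypeD4Two.NinePair
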