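import Cfsg.Agent.TypeD4Two.NinePair

/-!
# Elements of order five do not commute with involutions (helper186)

`Hyp Q z A a` (the situation of `³D₄(2)`): if `f ^ 5 = 1` commutes with an involution then `f = 1`.
-/

set_option autoImplicit false

namespace Cfsg.Agent.TypeD4Two.Five

open Cfsg.Agent.Co2Type.Quad Cfsg.Agent.LargeExtra.Local Cfsg.Agent.LargeExtra.Base
open Cfsg.Agent.TypeD4Two.NineV Cfsg.Agent.TypeD4Two.NinePair Cfsg.Agent.TypeD4Two.Geo

variable {G : Type*} [Group G] {Q A : Subgroup G} {z a : G}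

theorem pt_five [Finite G] (h : Hyp Q z A a) {v f : G} (hv : v ∈ Pt z) (hfv : f * v = v * f)
    (hf : f ^ 5 = 1) : f = 1 := by
  obtain ⟨g, rfl⟩ := hv
  set k : G := g⁻¹ * f * g with hk
  have hkz : k * z = z * k := by
    calc g⁻¹ * f * g * z = g⁻¹ * (f * (g * z * g⁻¹)) * g := by group
      _ = g⁻¹ * ((g * z * g⁻¹) * f) * g := by rw [hfv]
      _ = z * k := by rw [hk]; group
  have hk5 : k ^ 5 = 1 := by
    have : k = g⁻¹ * f * (g⁻¹)⁻¹ := by rw [hk, inv_inv]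
    rw [this, conj_pow, hf]; group
  have h1 : h.ac hkz = 1 := by
    apply h.cfg.eq_one_of_pow_five (h.ac_mem hkz)
    show h.p.lz.act _ ^ 5 = 1
    rw [← map_pow]
    have : (⟨k, Subgroup.mem_centralizer_singleton_iff.2 hkz⟩ :
      Subgroup.centralizer ({z} : Set G)) ^ 5 = 1 := Subtype.ext hk5
    rw [this, map_one]
  have h2 : k ∈ Q := h.p.lz.mem_of_act _ h1
  have h4 : k ^ 4 = 1 := by
    have h3 := h.p.lz.sq k h2
    have e : k ^ 4 = (k * k) * (k * k) := by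
      rw [show (4 : ℕ) = 2 + 2 from rfl, pow_add, pow_two]
    rw [e]
    rcases h3 with h3 | h3
    · rw [h3, one_mul]
    · rw [h3, h.zz]
  have h5 : k = 1 := by
    have : k ^ 5 = k ^ 4 * k := pow_succ k 4
    rw [hk5, h4, one_mul] at this
    exact this.symm
  calc f = g * k * g⁻¹ := by rw [hk]; group
    _ = 1 := by rw [h5]; group

theorem exists_pt [Finite G] (h : Hyp Q z A a) {u : G} (hu : u * u = 1) :
    ∃ t : G, u * (t * z * t⁻¹) = (t * z * t⁻¹) * u := by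
  have : Fact (Nat.Prime 2) := ⟨Nat.prime_two⟩
  have hodd := Cfsg.Agent.LargeExtra.TwoCentral.odd_index h.p.lz
  have hCodd : ¬ 2 ∣ Nat.card (G ⧸ Subgroup.centralizer ({z} : Set G)) := by
    rw [← Subgroup.index_eq_card]
    intro h6
    exact (Nat.not_even_iff_odd.2 hodd) (even_iff_two_dvd.2 h6)
  have hp : IsPGroup 2 (Subgroup.zpowers u) :=
    Cfsg.Agent.Lib.ClosingTI.isPGroup_zpowers u 1 (by rw [pow_one, pow_two]; exact hu)
  obtain ⟨q, hq⟩ := hp.nonempty_fixed_point_of_prime_not_dvd_card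
    (G ⧸ Subgroup.centralizer ({z} : Set G)) hCodd
  obtain ⟨t, rfl⟩ := QuotientGroup.mk_surjective q
  have h6 := MulAction.mem_fixedPoints.1 hq ⟨u, Subgroup.mem_zpowers u⟩
  have h7 : (QuotientGroup.mk (u * t) : G ⧸ Subgroup.centralizer ({z} : Set G)) =
    QuotientGroup.mk t := h6
  rw [QuotientGroup.eq] at h7
  have h8 : ((u * t)⁻¹ * t : G) * z = z * ((u * t)⁻¹ * t) :=
    Subgroup.mem_centralizer_singleton_iff.1 h7
  refine ⟨t, ?_⟩
  have hii' : u⁻¹ = u := inv_eq_of_mul_eq_one_left hu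
  rw [mul_inv_rev, hii'] at h8
  calc u * (t * z * (t : G)⁻¹) = t * (((t : G)⁻¹ * u * t) * z) * (t : G)⁻¹ := by group
    _ = t * (z * ((t : G)⁻¹ * u * t)) * (t : G)⁻¹ := by rw [h8]
    _ = _ := by group

theorem comm_of_eq {f v : G} {i j : ℕ} (he : f ^ i * v * (f ^ i)⁻¹ = f ^ (i + j) * v * (f ^ (i + j))⁻¹) :
    f ^ j * v = v * f ^ j := by
  have h1 : v = f ^ j * v * (f ^ j)⁻¹ := by
    calc v = (f ^ i)⁻¹ * (f ^ i * v * (f ^ i)⁻¹) * f ^ i := by group
      _ = (f ^ i)⁻¹ * (f ^ (i + j) * v * (f ^ (i + j))⁻¹) * f ^ i := by rw [he]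
      _ = f ^ j * v * (f ^ j)⁻¹ := by rw [pow_add]; group
  calc f ^ j * v = (f ^ j * v * (f ^ j)⁻¹) * f ^ j := by group
    _ = v * f ^ j := by rw [← h1]

theorem comm_one {f v : G} (hf : f ^ 5 = 1) {j : ℕ} (hj : j = 1 ∨ j = 2 ∨ j = 3)
    (hc : f ^ j * v = v * f ^ j) : f * v = v * f := by
  have hc' : Commute (f ^ j) v := hc
  have h6 : f = f ^ 6 := by
    rw [show (6 : ℕ) = 5 + 1 from rfl, pow_add, hf, one_mul, pow_one]
  rcases hj with rfl | rfl | rfl
  · rwa [pow_one] at hc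
  · have h1 : Commute ((f ^ 2) ^ 3) v := hc'.pow_left 3
    rw [← pow_mul] at h1
    have : Commute f v := by rw [h6]; exact h1
    exact this
  · have h1 : Commute ((f ^ 3) ^ 2) v := hc'.pow_left 2
    rw [← pow_mul] at h1
    have : Commute f v := by rw [h6]; exact h1
    exact this

theorem comm_of_onl {f v w : G} (hf : f ^ 5 = 1)
    (h : ∀ k : ℕ, Onl v w (f ^ k * v * (f ^ k)⁻¹)) : f * v = v * f := by
  have h0 : f ^ 0 * v * (f ^ 0)⁻¹ = v := by rw [pow_zero]; group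
  rcases h 1 with h1 | h1 | h1
  · exact comm_one hf (j := 1) (by tauto) (comm_of_eq (i := 0) (by rw [h0, zero_add, h1]))
  · rcases h 2 with h2 | h2 | h2
    · exact comm_one hf (j := 2) (by tauto) (comm_of_eq (i := 0) (by rw [h0, zero_add, h2]))
    · exact comm_one hf (j := 1) (by tauto) (comm_of_eq (i := 1) (by rw [h1, h2]))
    · rcases h 3 with h3 | h3 | h3
      · exact comm_one hf (j := 3) (by tauto) (comm_of_eq (i := 0) (by rw [h0, zero_add, h3]))
      · exact comm_one hf (j := 2) (by tauto) (comm_of_eq (i := 1) (by rw [h1, h3]))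
      · exact comm_one hf (j := 1) (by tauto) (comm_of_eq (i := 2) (by rw [h2, h3]))
  · rcases h 2 with h2 | h2 | h2
    · exact comm_one hf (j := 2) (by tauto) (comm_of_eq (i := 0) (by rw [h0, zero_add, h2]))
    · rcases h 3 with h3 | h3 | h3
      · exact comm_one hf (j := 3) (by tauto) (comm_of_eq (i := 0) (by rw [h0, zero_add, h3]))
      · exact comm_one hf (j := 1) (by tauto) (comm_of_eq (i := 2) (by rw [h2, h3]))
      · exact comm_one hf (j := 2) (by tauto) (comm_of_eq (i := 1) (by rw [h1, h3]))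
    · exact comm_one hf (j := 1) (by tauto) (comm_of_eq (i := 1) (by rw [h1, h2]))

/-- every involution commuting with `z` which is not a conjugate of `z` lies in some `Q_v ∩ Q_w` -/
theorem exists_line [Finite G] (h : Hyp Q z A a) {u : G} (hu : u * u = 1) (huz : u * z = z * u) :
    ∃ v ∈ Pt z, ∃ w ∈ Pt z, Adj v w ∧ u ∈ Qf Q z v ∧ u ∈ Qf Q z w := by
  by_cases huQ : u ∈ Q
  · obtain ⟨v, hv, hzv, huv⟩ := h.exists_line_z huQ hu
    exact ⟨z, z_mem_Pt z, v, hv, hzv, by rwa [Qf_z h.p.lz], huv⟩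
  · obtain ⟨c, hc, hcu⟩ := h.outside_z hu huz huQ
    -- `u` lies in `Q_v`, `v = c a c⁻¹`
    have h1 : u ∈ Qf Q z (c * a * c⁻¹) := h.mem_Qf_conj.2 hcu
    have hvP : c * a * c⁻¹ ∈ Pt z := conj_mem_Pt c h.a_mem_Pt
    obtain ⟨g, hg⟩ := hvP
    have h2 : g⁻¹ * u * g ∈ Q := by
      rw [← hg] at h1
      exact (mem_Qf h.p.lz).1 h1
    obtain ⟨w, hw, hzw, huw⟩ := h.exists_line_z h2 (by
      calc g⁻¹ * u * g * (g⁻¹ * u * g) = g⁻¹ * (u * u) * g := by group
        _ = 1 := by rw [hu]; group)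
    refine ⟨g * z * g⁻¹, ⟨g, rfl⟩, g * w * g⁻¹, conj_mem_Pt g hw, hzw.conj g, ?_, ?_⟩
    · rw [hg]; exact h1
    · have h3 := (conj_mem_Qf h.p.lz g hw).2 huw
      have e : g * (g⁻¹ * u * g) * g⁻¹ = u := by group
      rwa [e] at h3

/-- OUTPUT: elements of order five do not commute with involutions. -/
theorem comm_five [Finite G] (h : Hyp Q z A a) {u f : G} (hu : u * u = 1) (hu1 : u ≠ 1)
    (hf : f ^ 5 = 1) (hfu : f * u = u * f) : f = 1 := by
  obtain ⟨t, ht⟩ := exists_pt h hu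
  -- conjugate by `t`
  have hu' : (t⁻¹ * u * t) * (t⁻¹ * u * t) = 1 := by
    calc (t⁻¹ * u * t) * (t⁻¹ * u * t) = t⁻¹ * (u * u) * t := by group
      _ = 1 := by rw [hu]; group
  have huz' : (t⁻¹ * u * t) * z = z * (t⁻¹ * u * t) := by
    calc (t⁻¹ * u * t) * z = t⁻¹ * (u * (t * z * t⁻¹)) * t := by group
      _ = t⁻¹ * ((t * z * t⁻¹) * u) * t := by rw [ht]
      _ = _ := by group
  have hf' : (t⁻¹ * f * t) ^ 5 = 1 := by
    have : t⁻¹ * f * t = t⁻¹ * f * (t⁻¹)⁻¹ := by rw [inv_inv]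
    rw [this, conj_pow, hf]; group
  have hfu' : (t⁻¹ * f * t) * (t⁻¹ * u * t) = (t⁻¹ * u * t) * (t⁻¹ * f * t) := by
    calc (t⁻¹ * f * t) * (t⁻¹ * u * t) = t⁻¹ * (f * u) * t := by group
      _ = t⁻¹ * (u * f) * t := by rw [hfu]
      _ = _ := by group
  have hu1' : t⁻¹ * u * t ≠ 1 := by
    intro h1
    apply hu1
    calc u = t * (t⁻¹ * u * t) * t⁻¹ := by group
      _ = 1 := by rw [h1]; group
  suffices hs : t⁻¹ * f * t = 1 by
    calc f = t * (t⁻¹ * f * t) * t⁻¹ := by group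
      _ = 1 := by rw [hs]; group
  by_cases hP : t⁻¹ * u * t ∈ Pt z
  · exact pt_five h hP hfu' hf'
  · obtain ⟨v, hv, w, hw, hvw, huv, huw⟩ := exists_line h hu' huz'
    apply pt_five h hv _ hf'
    apply comm_of_onl (w := w) hf'
    intro k
    apply h.isGeo.claim_single hv hw hvw huv huw hP hu1' hu'
    have : Commute (t⁻¹ * f * t) (t⁻¹ * u * t) := hfu'
    exact (this.pow_left k).eq

end Cfsg.Agent.TypeD4Two.Five
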