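import Cfsg.Prelude.Def_LieTwisted

set_option autoImplicit false

/-! Chevalley groups and twisted groups over isomorphic fields. -/

namespace Cfsg.Agent.TypeD4Two.FieldIso

open Cfsg.Lie

variable {F K : Type*} [Field F] [Field K] (σ : F ≃+* K) (D : ChevalleyDatum)

theorem xMat_map (r : Fin D.nroots) (t : F) : (D.xMat F r t).map σ = D.xMat K r (σ t) := by
  ext row col
  unfold ChevalleyDatum.xMat
  rcases col with i | s
  · rcases row with i' | u
    · simp only [Matrix.map_apply, Matrix.of_apply]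
      split_ifs <;> simp
    · simp only [Matrix.map_apply, Matrix.of_apply]
      split_ifs <;> simp
  · rcases row with i' | u
    · simp only [Matrix.map_apply, Matrix.of_apply]
      split_ifs <;> simp
    · simp only [Matrix.map_apply, Matrix.of_apply]
      have hsum : ∀ l : List (ℕ × ℤ), σ ((l.map fun km => ((km.2 : ℤ) : F) * t ^ km.1).sum) =
          (l.map fun km => ((km.2 : ℤ) : K) * σ t ^ km.1).sum := by
        intro l
        induction l with
        | nil => simp
        | cons a l ih => simp [ih]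
      split_ifs <;> simp [hsum]

theorem x_map (r : ℕ) (t : F) : (D.x F r t).map σ = D.x K r (σ t) := by
  unfold ChevalleyDatum.x
  split_ifs with h
  · exact xMat_map σ D ⟨r, h⟩ t
  · exact Matrix.map_one σ (map_zero σ) (map_one σ)

/-- image of a word -/
def mapW (w : List (ℕ × F)) : List (ℕ × K) := w.map fun p => (p.1, σ p.2)

theorem wordMat_map (w : List (ℕ × F)) : (D.wordMat F w).map σ = D.wordMat K (mapW σ w) := by
  induction w with
  | nil => exact Matrix.map_one σ (map_zero σ) (map_one σ)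
  | cons p w ih =>
    have h1 : D.wordMat F (p :: w) = D.x F p.1 p.2 * D.wordMat F w := rfl
    have h2 : D.wordMat K (mapW σ (p :: w)) = D.x K p.1 (σ p.2) * D.wordMat K (mapW σ w) := rfl
    rw [h1, h2, Matrix.map_mul, ih, x_map]

theorem genSubgroup_map (S : Set (List (ℕ × F))) :
    (D.genSubgroup F S).map (Matrix.GeneralLinearGroup.map (n := D.Idx) σ.toRingHom) =
      D.genSubgroup K (mapW σ '' S) := by
  unfold ChevalleyDatum.genSubgroup
  rw [MonoidHom.map_closure]
  congr 1
  ext g
  constructor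
  · rintro ⟨g, ⟨w, hw, hg⟩, rfl⟩
    refine ⟨mapW σ w, ⟨w, hw, rfl⟩, ?_⟩
    rw [← wordMat_map, ← hg]
    rfl
  · rintro ⟨_, ⟨w, hw, rfl⟩, hg⟩
    refine ⟨Matrix.GeneralLinearGroup.map (n := D.Idx) σ.symm.toRingHom g, ⟨w, hw, ?_⟩, ?_⟩
    · have h1 : ((Matrix.GeneralLinearGroup.map (n := D.Idx) σ.symm.toRingHom g : GL D.Idx F) : Matrix D.Idx D.Idx F) =
        (g : Matrix D.Idx D.Idx K).map σ.symm := rfl
      rw [h1, hg, ← wordMat_map]
      ext i j
      simp
    · apply Units.ext
      ext i j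
      change σ (σ.symm ((g : Matrix D.Idx D.Idx K) i j)) = _
      rw [σ.apply_symm_apply]

theorem map_injective' : Function.Injective (Matrix.GeneralLinearGroup.map (n := D.Idx) σ.toRingHom) := by
  intro g h hgh
  apply Units.ext
  ext i j
  have h1 := congrFun (congrFun (congrArg (fun x : GL D.Idx K => (x : Matrix D.Idx D.Idx K)) hgh) i) j
  exact σ.injective h1

theorem d4Words_map (q : ℕ) : mapW σ '' d4Words F q = d4Words K q := by
  apply Set.eq_of_subset_of_subset
  · rintro _ ⟨w, hw, rfl⟩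
    rcases hw with ⟨t, ht, r, hr, rfl⟩ | ⟨t, rs, hrs, rfl⟩
    · exact Or.inl ⟨σ t, by rw [← map_pow, ht], r, hr, rfl⟩
    · exact Or.inr ⟨σ t, rs, hrs, by simp [mapW]⟩
  · rintro w hw
    rcases hw with ⟨t, ht, r, hr, rfl⟩ | ⟨t, rs, hrs, rfl⟩
    · exact ⟨[(r, σ.symm t)], Or.inl ⟨σ.symm t, by rw [← map_pow, ht], r, hr, rfl⟩, by simp [mapW]⟩
    · exact ⟨[(rs.1, σ.symm t), (rs.2.1, σ.symm t ^ q), (rs.2.2, σ.symm t ^ (q ^ 2))],
        Or.inr ⟨σ.symm t, rs, hrs, rfl⟩, by simp [mapW]⟩

/-- `³D₄` over isomorphic fields. -/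
noncomputable def twistedD4Congr (q : ℕ) : twistedD4 F q ≃* twistedD4 K q :=
  ((twistedD4 F q).equivMapOfInjective _ (map_injective' σ chevD4)).trans
    (MulEquiv.subgroupCongr (by
      unfold twistedD4
      rw [genSubgroup_map, d4Words_map]))

theorem twistedD4_congr {F K : Type*} [Field F] [Field K] [Fintype F] [Fintype K] (h : Fintype.card F = Fintype.card K)
    (q : ℕ) : Nonempty (twistedD4 F q ≃* twistedD4 K q) :=
  ⟨twistedD4Congr (FiniteField.ringEquivOfCardEq h) q⟩

end Cfsg.Agent.TypeD4Two.FieldIso
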