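import Mathlib

set_option autoImplicit false

/-! Recognising a group from the same relations in a simple model (subgroup of a direct product). -/

namespace Cfsg.Agent.TypeD4Two.Pair

variable {G T : Type*} [Group G] [Group T]

/-- If the pairs `(f i, g i)` generate a finite group of order at most that of the simple group generated by the `g i`,
and some `f i` is nontrivial, then the `f i` generate a group isomorphic to the one generated by the `g i`. -/
theorem iso_of_pairs {ι : Type*} (f : ι → G) (g : ι → T)
    (hs : IsSimpleGroup (Subgroup.closure (Set.range g)))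
    (hfin : Finite (Subgroup.closure (Set.range fun i => (f i, g i))))
    (hcard : Nat.card (Subgroup.closure (Set.range fun i => (f i, g i))) ≤ Nat.card (Subgroup.closure (Set.range g)))
    (hne : ∃ i, f i ≠ 1) :
    ∃ φ : Subgroup.closure (Set.range f) ≃* Subgroup.closure (Set.range g),
      ∀ i, φ ⟨f i, Subgroup.subset_closure ⟨i, rfl⟩⟩ = ⟨g i, Subgroup.subset_closure ⟨i, rfl⟩⟩ := by
  set P : Subgroup (G × T) := Subgroup.closure (Set.range fun i => (f i, g i)) with hP
  have h1 : P.map (MonoidHom.fst G T) = Subgroup.closure (Set.range f) := by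
    rw [hP, MonoidHom.map_closure, ← Set.range_comp]; rfl
  have h2 : P.map (MonoidHom.snd G T) = Subgroup.closure (Set.range g) := by
    rw [hP, MonoidHom.map_closure, ← Set.range_comp]; rfl
  -- the two projections
  let p1 : P →* Subgroup.closure (Set.range f) :=
    ((MonoidHom.fst G T).comp P.subtype).codRestrict _ (fun x => by
      rw [← h1]; exact ⟨x.1, x.2, rfl⟩)
  let p2 : P →* Subgroup.closure (Set.range g) :=
    ((MonoidHom.snd G T).comp P.subtype).codRestrict _ (fun x => by
      rw [← h2]; exact ⟨x.1, x.2, rfl⟩)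
  have s1 : Function.Surjective p1 := by
    rintro ⟨y, hy⟩
    rw [← h1] at hy
    obtain ⟨x, hx, rfl⟩ := hy
    exact ⟨⟨x, hx⟩, rfl⟩
  have s2 : Function.Surjective p2 := by
    rintro ⟨y, hy⟩
    rw [← h2] at hy
    obtain ⟨x, hx, rfl⟩ := hy
    exact ⟨⟨x, hx⟩, rfl⟩
  have hb2 : Function.Bijective p2 := by
    haveI := Finite.of_surjective _ s2
    have hc := Nat.card_le_card_of_surjective _ s2
    exact (Nat.bijective_iff_surjective_and_card p2).mpr ⟨s2, le_antisymm hcard hc⟩
  let e2 : P ≃* Subgroup.closure (Set.range g) := MulEquiv.ofBijective p2 hb2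
  haveI hsP : IsSimpleGroup P := by
    haveI := e2.toEquiv.nontrivial
    exact IsSimpleGroup.isSimpleGroup_of_surjective e2.symm.toMonoidHom e2.symm.surjective
  have hb1 : Function.Bijective p1 := by
    refine ⟨?_, s1⟩
    rcases hsP.eq_bot_or_eq_top_of_normal p1.ker inferInstance with h | h
    · exact (MonoidHom.ker_eq_bot_iff p1).mp h
    · exfalso
      obtain ⟨i, hi⟩ := hne
      apply hi
      have hm : (⟨(f i, g i), Subgroup.subset_closure ⟨i, rfl⟩⟩ : P) ∈ p1.ker := by rw [h]; trivial
      have := MonoidHom.mem_ker.mp hm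
      exact congrArg Subtype.val this
  refine ⟨(MulEquiv.ofBijective p1 hb1).symm.trans e2, fun i => ?_⟩
  have h3 : (MulEquiv.ofBijective p1 hb1) ⟨(f i, g i), Subgroup.subset_closure ⟨i, rfl⟩⟩ =
    ⟨f i, Subgroup.subset_closure ⟨i, rfl⟩⟩ := rfl
  rw [← h3, MulEquiv.trans_apply, MulEquiv.symm_apply_apply]
  rfl

end Cfsg.Agent.TypeD4Two.Pair
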