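import Cfsg.Agent.TypeD4Two.Model
import Cfsg.Agent.TypeD4Two.Pair
import Cfsg.Agent.TypeD4Two.FieldIso
import Cfsg.Agent.S1067
import Cfsg.Agent.S1071

set_option autoImplicit false

/-! Recognition of `³D₄(2)` by generators and relations. -/

namespace Cfsg.Agent.TypeD4Two.Recog

open Cfsg.Lie Cfsg.Agent.TypeD4Two Cfsg.Agent.TypeD4Two.Code Cfsg.Agent.TypeD4Two.Cert
  Cfsg.Agent.TypeD4Two.Model

theorem card_F8' : Fintype.card F8 = 2 ^ 3 := F8.card_F8

theorem card_twD4 : Nat.card (twistedD4 F8 2) = 211341312 := by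
  rw [S1067.result Nat.prime_two.isPrimePow card_F8']; norm_num

theorem card_Tw : Nat.card Tw = 211341312 := by
  rw [Nat.card_congr twEquiv.toEquiv, card_twD4]

theorem simple_Tw : IsSimpleGroup Tw := by
  have h := (S1071.result Nat.prime_two.isPrimePow card_F8').1
  have := twEquiv.toEquiv.nontrivial
  exact IsSimpleGroup.isSimpleGroup_of_surjective twEquiv.symm.toMonoidHom twEquiv.symm.surjective

section pair

variable {G T : Type*} [Group G] [Group T]

theorem relL_prod {d e n : G} {D E N : T} (h : RelL d e n) (H : RelL D E N) :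
    RelL (d, D) (e, E) (n, N) where
  dd := Prod.ext h.dd H.dd
  ee := Prod.ext h.ee H.ee
  nn := Prod.ext h.nn H.nn
  l1 := Prod.ext h.l1 H.l1
  l2 := Prod.ext h.l2 H.l2
  nd := Prod.ext h.nd H.nd
  ne := Prod.ext h.ne H.ne

theorem relC_prod {d e n a : G} {D E N A : T} (h : RelC d e n a) (H : RelC D E N A) :
    RelC (d, D) (e, E) (n, N) (a, A) where
  toRelL := relL_prod h.toRelL H.toRelL
  aa := Prod.ext h.aa H.aa
  ad := Prod.ext h.ad H.ad
  ae := Prod.ext h.ae H.ae
  ab := Prod.ext h.ab H.ab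
  ze := Prod.ext h.ze H.ze
  prod := Prod.ext h.prod H.prod

theorem relT_prod {d e n a t : G} {D E N A S : T} (h : RelT d e n a t) (H : RelT D E N A S) :
    RelT (d, D) (e, E) (n, N) (a, A) (t, S) where
  toRelC := relC_prod h.toRelC H.toRelC
  tt := Prod.ext h.tt H.tt
  td := Prod.ext h.td H.td
  tz := Prod.ext h.tz H.tz
  bt := Prod.ext h.bt H.bt
  te := Prod.ext h.te H.te
  tc := Prod.ext h.tc H.tc

end pair

/-- five elements as a family -/
def five {G : Type*} (d e n a t : G) : Fin 5 → G := ![d, e, n, a, t]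

theorem range_five {G : Type*} (d e n a t : G) : Set.range (five d e n a t) = {d, e, n, a, t} := by
  ext x
  constructor
  · rintro ⟨i, rfl⟩
    fin_cases i <;> simp [five]
  · rintro (rfl | rfl | rfl | rfl | rfl)
    · exact ⟨0, rfl⟩
    · exact ⟨1, rfl⟩
    · exact ⟨2, rfl⟩
    · exact ⟨3, rfl⟩
    · exact ⟨4, rfl⟩

theorem five_pair {G T : Type*} (d e n a t : G) (D E N A S : T) :
    (fun i => (five d e n a t i, five D E N A S i)) = five (d, D) (e, E) (n, N) (a, A) (t, S) := by
  funext i
  fin_cases i <;> rfl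

/-- **Recognition of `³D₄(2)`**: elements satisfying the relations, one of them nontrivial, generate a group
isomorphic to `twistedD4 F8 2`. -/
theorem recognize {G : Type*} [Group G] {d e n a t : G} (h : RelT d e n a t) (hk : (t * (n * t * n)) ^ 3 = 1)
    (ht : t ≠ 1) : Nonempty (Subgroup.closure ({d, e, n, a, t} : Set G) ≃* twistedD4 F8 2) := by
  have hr := range_five d e n a t
  have hR : Subgroup.closure (Set.range (five (el 0) (el 2) (el 3) (el 4) (el 5))) = Tw := by
    rw [range_five]; exact Hm_eq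
  have hs : IsSimpleGroup (Subgroup.closure (Set.range (five (el 0) (el 2) (el 3) (el 4) (el 5)))) := by
    rw [hR]; exact simple_Tw
  have hP := card_closure_le (relT_prod h model_rel) (Prod.ext hk model_cube)
  rw [← range_five, ← five_pair] at hP
  obtain ⟨φ, -⟩ := Pair.iso_of_pairs (five d e n a t) (five (el 0) (el 2) (el 3) (el 4) (el 5)) hs hP.1
    (by
      have h1 : Nat.card (Subgroup.closure (Set.range (five (el 0) (el 2) (el 3) (el 4) (el 5)))) = 211341312 := by
        rw [hR, card_Tw]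
      rw [h1]; exact hP.2) ⟨4, ht⟩
  rw [hr] at φ
  rw [hR] at φ
  exact ⟨φ.trans twEquiv⟩

/-- The same for every field with eight elements. -/
theorem recognize_field {G : Type*} [Group G] {d e n a t : G} (h : RelT d e n a t) (hk : (t * (n * t * n)) ^ 3 = 1)
    (ht : t ≠ 1) (K : Type*) [Field K] [Fintype K] (hK : Fintype.card K = 8) :
    Nonempty (Subgroup.closure ({d, e, n, a, t} : Set G) ≃* twistedD4 K 2) := by
  obtain ⟨φ⟩ := recognize h hk ht
  obtain ⟨ψ⟩ := FieldIso.twistedD4_congr (F := F8) (K := K) (by rw [F8.card_F8, hK]) 2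
  exact ⟨φ.trans ψ⟩

/-- In terms of `Iso3D4`. -/
theorem iso3D4 {G : Type*} [Group G] {d e n a t : G} (h : RelT d e n a t) (hk : (t * (n * t * n)) ^ 3 = 1)
    (ht : t ≠ 1) : Iso3D4 (Subgroup.closure ({d, e, n, a, t} : Set G)) :=
  ⟨F8, inferInstance, inferInstance, 2, Nat.prime_two.isPrimePow, card_F8', recognize h hk ht⟩

end Cfsg.Agent.TypeD4Two.Recog
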