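import Cfsg.Agent.TrialityTwo.Rel
import Cfsg.Agent.TypeD4Two.Recog

set_option autoImplicit false

/-! The certificates and the recognition of `³D₄(2)` in terms of the structures of `Cfsg.Agent.TrialityTwo.Rel`. -/

namespace Cfsg.Agent.TypeD4Two.Bridge

open Cfsg.Lie

variable {G : Type*} [Group G] {d e n a t : G}

theorem bb_eq (n a : G) : TrialityTwo.bb n a = Cert.bb n a := rfl

theorem zc_eq (n a : G) : TrialityTwo.zc n a = Cert.zz n a := by
  unfold TrialityTwo.zc Cert.zz
  rw [mul_assoc]
  rfl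

theorem cc_eq (d e n a : G) (i : ℕ) : TrialityTwo.cc d e n a i = Cert.cc d e n a i := by
  unfold TrialityTwo.cc Cert.cc TrialityTwo.bb
  simp only [mul_assoc]

theorem relL (h : TrialityTwo.RelL d e n) : Cert.RelL d e n where
  dd := h.d7
  ee := h.e2
  nn := h.n2
  l1 := h.e013
  l2 := h.ecomm
  nd := by rw [pow_two]; exact h.nd
  ne := h.ne

theorem relC (h : TrialityTwo.RelC d e n a) : Cert.RelC d e n a where
  toRelL := relL h.toRelL
  aa := h.a2
  ad := h.ad
  ae := h.ae
  ab := by
    have h1 := h.z2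
    rw [zc_eq] at h1
    rw [← h1]
    unfold Cert.zz
    rw [← pow_two, ← pow_two, ← pow_mul]
  ze := by have h1 := h.ze; rwa [zc_eq] at h1
  prod := by
    have h1 := h.prod
    simp only [cc_eq, zc_eq, bb_eq] at h1
    exact h1

theorem relT (h : TrialityTwo.RelT d e n a t) : Cert.RelT d e n a t where
  toRelC := relC h.toRelC
  tt := h.t2
  td := h.td
  tz := by have h1 := h.tz; rwa [zc_eq] at h1
  bt := h.bt
  te := by
    have h1 := h.te
    simp only [cc_eq, zc_eq] at h1
    exact h1
  tc := by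
    have h1 := h.tc
    simp only [cc_eq] at h1
    exact h1

/-- `|⟨d, e, n⟩| ≤ 504`. -/
theorem card_closure_L (h : TrialityTwo.RelL d e n) : Finite (Subgroup.closure ({d, e, n} : Set G)) ∧
    Nat.card (Subgroup.closure ({d, e, n} : Set G)) ≤ 504 := Cert.card_closure_L (relL h)

/-- `|⟨d, e, n, a⟩| ≤ 2^9 * 504`. -/
theorem card_closure_C (h : TrialityTwo.RelC d e n a) : Finite (Subgroup.closure ({d, e, n, a} : Set G)) ∧
    Nat.card (Subgroup.closure ({d, e, n, a} : Set G)) ≤ 258048 := Cert.card_closure_C (relC h)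

/-- `|⟨d, e, n, a, t⟩| ≤ |³D₄(2)|`. -/
theorem card_closure_le (h : TrialityTwo.Rel d e n a t) : Finite (Subgroup.closure ({d, e, n, a, t} : Set G)) ∧
    Nat.card (Subgroup.closure ({d, e, n, a, t} : Set G)) ≤ 211341312 :=
  Cert.card_closure_le (relT h.toRelT) h.tn

/-- The collapse for the fourth power. -/
theorem mem_four (h : TrialityTwo.RelT d e n a t) (hk : (t * (n * t * n)) ^ 4 = 1) :
    t ∈ Subgroup.closure ({d, e, n, a} : Set G) := Cert.mem_of_four (relT h) hk

/-- `t ≠ 1` from `a ≠ 1`. -/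
theorem t_ne_one (h : TrialityTwo.RelT d e n a t) (ha : a ≠ 1) : t ≠ 1 := by
  rintro rfl
  have h1 := h.tz
  rw [one_mul, mul_one] at h1
  -- now `zc n a = a`, hence `bb n a * a * bb n a = 1` and `a = 1`
  have h2 : TrialityTwo.bb n a * TrialityTwo.bb n a = 1 := by
    unfold TrialityTwo.bb
    calc n * a * n * (n * a * n) = n * a * (n * n) * a * n := by simp only [mul_assoc]
      _ = n * (a * a) * n := by rw [h.n2]; simp only [mul_one, mul_assoc]
      _ = 1 := by rw [h.a2, mul_one, h.n2]
  have h3 : TrialityTwo.bb n a * a * TrialityTwo.bb n a = 1 := by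
    have h4 : a * (TrialityTwo.bb n a * a * TrialityTwo.bb n a) = a * 1 := by
      rw [mul_one]
      calc a * (TrialityTwo.bb n a * a * TrialityTwo.bb n a) = TrialityTwo.zc n a := by
            unfold TrialityTwo.zc; simp only [mul_assoc]
        _ = a := h1
    exact mul_left_cancel h4
  apply ha
  calc a = (TrialityTwo.bb n a * TrialityTwo.bb n a) * a * (TrialityTwo.bb n a * TrialityTwo.bb n a) := by
        rw [h2, one_mul, mul_one]
    _ = TrialityTwo.bb n a * (TrialityTwo.bb n a * a * TrialityTwo.bb n a) * TrialityTwo.bb n a := by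
        simp only [mul_assoc]
    _ = 1 := by rw [h3, mul_one, h2]

/-- **Recognition of `³D₄(2)`** over any field with eight elements. -/
theorem recognize (h : TrialityTwo.Rel d e n a t) (ha : a ≠ 1) (K : Type*) [Field K] [Fintype K]
    (hK : Fintype.card K = 8) :
    Nonempty (Subgroup.closure ({d, e, n, a, t} : Set G) ≃* twistedD4 K 2) :=
  Recog.recognize_field (relT h.toRelT) h.tn (t_ne_one h.toRelT ha) K hK

end Cfsg.Agent.TypeD4Two.Bridge
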