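import Cfsg.Agent.TypeD4Two.NinePair
import Cfsg.Agent.TrialityTwo.Lab

/-!
# The nine points are labelled by the projective line over `F₈` (helper186)

`exists_lab : Hyp Q z A a → ∃ b, b 0 = a ∧ TrialityTwo.Lab Q z b`.
-/

set_option autoImplicit false

namespace Cfsg.Agent.TypeD4Two.LabOf

open Cfsg.Agent.Co2Type.Quad Cfsg.Agent.LargeExtra.Local Cfsg.Agent.LargeExtra.Base
open Cfsg.Agent.TypeD4Two.NineV Cfsg.Agent.TypeD4Two.NinePair
open Cfsg.Agent.TrialityTwo.Nine Cfsg.Agent.TrialityTwo.Perm Cfsg.Agent.TrialityTwo.Lab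
open Cfsg.Agent.LargeExtra.Model Cfsg.Agent.LargeExtra.Pres

/-- code in `F₈` of a label -/
def fv : ℕ → ℕ
  | 1 => 0
  | 2 => 1
  | 3 => 2
  | 4 => 4
  | 5 => 3
  | 6 => 6
  | 7 => 7
  | 8 => 5
  | _ => 0

/-- label of a code in `F₈` -/
def lb : ℕ → ℕ
  | 0 => 1
  | 1 => 2
  | 2 => 3
  | 3 => 5
  | 4 => 4
  | 5 => 8
  | 6 => 6
  | 7 => 7
  | _ => 0

theorem fv_lt : ∀ i < 9, fv i < 8 := by decide
theorem lb_fv : ∀ i < 9, 1 ≤ i → lb (fv i) = i := by decide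
theorem fv_lb : ∀ v < 8, fv (lb v) = v := by decide
theorem lb_pos : ∀ v < 8, 1 ≤ lb v ∧ lb v < 9 := by decide
theorem xor_lt : ∀ v < 8, ∀ w < 8, v ^^^ w < 8 := by decide
theorem gt_tri : ∀ i < 9, 1 ≤ i → ∀ j < 9, gt (tri i) j = if j = 0 then 0 else lb (fv i ^^^ fv j) := by
  decide +kernel

section Gen

variable {M : Type*} [Group M]

/-- products of three generators -/
def xv (x0 x1 x2 : M) (v : ℕ) : M := x0 ^ (v % 2) * x1 ^ (v / 2 % 2) * x2 ^ (v / 4 % 2)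

theorem pow_add_mod {x : M} (hx : x * x = 1) (s t : ℕ) : x ^ s * x ^ t = x ^ ((s + t) % 2) := by
  rw [← pow_add]
  conv_lhs => rw [← Nat.div_add_mod (s + t) 2]
  rw [pow_add, pow_mul, pow_two, hx, one_pow, one_mul]

theorem xor_mod : ∀ v < 8, ∀ w < 8, (v % 2 + w % 2) % 2 = (v ^^^ w) % 2 ∧
    (v / 2 % 2 + w / 2 % 2) % 2 = (v ^^^ w) / 2 % 2 ∧
    (v / 4 % 2 + w / 4 % 2) % 2 = (v ^^^ w) / 4 % 2 := by decide

theorem xv_mul {x0 x1 x2 : M} (h0 : x0 * x0 = 1) (h1 : x1 * x1 = 1) (h2 : x2 * x2 = 1)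
    (h01 : x0 * x1 = x1 * x0) (h02 : x0 * x2 = x2 * x0) (h12 : x1 * x2 = x2 * x1)
    {v w : ℕ} (hv : v < 8) (hw : w < 8) :
    xv x0 x1 x2 v * xv x0 x1 x2 w = xv x0 x1 x2 (v ^^^ w) := by
  obtain ⟨e0, e1, e2⟩ := xor_mod v hv w hw
  unfold xv
  rw [← e0, ← e1, ← e2, ← pow_add_mod h0, ← pow_add_mod h1, ← pow_add_mod h2]
  have c01 : ∀ s t : ℕ, x1 ^ s * x0 ^ t = x0 ^ t * x1 ^ s := fun s t =>
    ((Commute.pow_pow (show Commute x0 x1 from h01) t s).eq).symm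
  have c02 : ∀ s t : ℕ, x2 ^ s * x0 ^ t = x0 ^ t * x2 ^ s := fun s t =>
    ((Commute.pow_pow (show Commute x0 x2 from h02) t s).eq).symm
  have c12 : ∀ s t : ℕ, x2 ^ s * x1 ^ t = x1 ^ t * x2 ^ s := fun s t =>
    ((Commute.pow_pow (show Commute x1 x2 from h12) t s).eq).symm
  generalize v % 2 = s0, v / 2 % 2 = s1, v / 4 % 2 = s2, w % 2 = t0, w / 2 % 2 = t1, w / 4 % 2 = t2
  calc x0 ^ s0 * x1 ^ s1 * x2 ^ s2 * (x0 ^ t0 * x1 ^ t1 * x2 ^ t2)
      = x0 ^ s0 * x1 ^ s1 * (x2 ^ s2 * x0 ^ t0) * x1 ^ t1 * x2 ^ t2 := by simp only [mul_assoc]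
    _ = x0 ^ s0 * (x1 ^ s1 * x0 ^ t0) * (x2 ^ s2 * x1 ^ t1) * x2 ^ t2 := by
        rw [c02]; simp only [mul_assoc]
    _ = x0 ^ s0 * x0 ^ t0 * (x1 ^ s1 * x1 ^ t1) * (x2 ^ s2 * x2 ^ t2) := by
        rw [c01, c12]; simp only [mul_assoc]

theorem xv_zero (x0 x1 x2 : M) : xv x0 x1 x2 0 = 1 := by simp [xv]

theorem xv_ne {x0 x1 x2 : M} (h0 : x0 * x0 = 1) (h1 : x1 * x1 = 1) (n0 : x0 ≠ 1) (n1 : x1 ≠ 1)
    (n10 : x1 ≠ x0) (n2 : x2 ≠ 1) (n20 : x2 ≠ x0) (n21 : x2 ≠ x1) (n201 : x2 ≠ x0 * x1)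
    (h01 : x0 * x1 = x1 * x0)
    {v : ℕ} (hv : v < 8) (hv0 : v ≠ 0) : xv x0 x1 x2 v ≠ 1 := by
  have i0 : x0⁻¹ = x0 := inv_eq_of_mul_eq_one_left h0
  have i1 : x1⁻¹ = x1 := inv_eq_of_mul_eq_one_left h1
  interval_cases v
  · exact absurd rfl hv0
  · simpa [xv] using n0
  · simpa [xv] using n1
  · simp only [xv]
    norm_num
    intro h
    exact n10 ((eq_inv_of_mul_eq_one_right h).trans i0)
  · simpa [xv] using n2
  · simp only [xv]
    norm_num
    intro h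
    exact n20 ((eq_inv_of_mul_eq_one_right h).trans i0)
  · simp only [xv]
    norm_num
    intro h
    exact n21 ((eq_inv_of_mul_eq_one_right h).trans i1)
  · simp only [xv]
    norm_num
    intro h
    have h3 := eq_inv_of_mul_eq_one_right h
    rw [mul_inv_rev, i0, i1, ← h01] at h3
    exact n201 h3

end Gen

section V

variable {V : Type*} [AddCommGroup V] [Module (ZMod 2) V]
variable {b : LinearMap.BilinForm (ZMod 2) V} {q : V → ZMod 2}
variable {H X : Subgroup (V ≃ₗ[ZMod 2] V)} {D : Submodule (ZMod 2) V} {a : V}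

/-- generators of `X` -/
theorem exists_gens (h : Cfg b q H X D a) : ∃ x0 x1 x2 : V ≃ₗ[ZMod 2] V, x0 ∈ X ∧ x1 ∈ X ∧ x2 ∈ X ∧
    (∀ v < 8, v ≠ 0 → xv x0 x1 x2 v ≠ 1) := by
  classical
  have := h.finite
  have := h.finiteX
  have hX : (X : Set (V ≃ₗ[ZMod 2] V)).ncard = 8 := by
    rw [← h.card_X]; rfl
  obtain ⟨x0, hx0, n0⟩ : ∃ x ∈ (X : Set (V ≃ₗ[ZMod 2] V)), x ∉ ({1} : Set (V ≃ₗ[ZMod 2] V)) := by
    refine Set.exists_mem_notMem_of_ncard_lt_ncard ?_ (Set.toFinite _)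
    rw [hX, Set.ncard_singleton]; norm_num
  obtain ⟨x1, hx1, n1⟩ : ∃ x ∈ (X : Set (V ≃ₗ[ZMod 2] V)), x ∉ ({1, x0} : Set (V ≃ₗ[ZMod 2] V)) := by
    refine Set.exists_mem_notMem_of_ncard_lt_ncard ?_ (Set.toFinite _)
    have h2 := Set.ncard_insert_le 1 ({x0} : Set (V ≃ₗ[ZMod 2] V))
    rw [Set.ncard_singleton] at h2
    omega
  obtain ⟨x2, hx2, n2⟩ : ∃ x ∈ (X : Set (V ≃ₗ[ZMod 2] V)),
      x ∉ ({1, x0, x1, x0 * x1} : Set (V ≃ₗ[ZMod 2] V)) := by
    refine Set.exists_mem_notMem_of_ncard_lt_ncard ?_ (Set.toFinite _)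
    have h2 := Set.ncard_insert_le 1 ({x0, x1, x0 * x1} : Set (V ≃ₗ[ZMod 2] V))
    have h3 := Set.ncard_insert_le x0 ({x1, x0 * x1} : Set (V ≃ₗ[ZMod 2] V))
    have h4 := Set.ncard_insert_le x1 ({x0 * x1} : Set (V ≃ₗ[ZMod 2] V))
    rw [Set.ncard_singleton] at h4
    omega
  simp only [Set.mem_singleton_iff, Set.mem_insert_iff, not_or] at n0 n1 n2
  refine ⟨x0, x1, x2, hx0, hx1, hx2, fun v hv hv0 => ?_⟩
  exact xv_ne (h.Xsq x0 hx0) (h.Xsq x1 hx1) n0 n1.1 n1.2 n2.1 n2.2.1 n2.2.2.1 n2.2.2.2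
    (h.Xcomm x0 hx0 x1 hx1) hv hv0

/-- labelling of the orbit -/
structure LV (H X : Subgroup (V ≃ₗ[ZMod 2] V)) (a : V) (w : ℕ → V)
    (x : ℕ → V ≃ₗ[ZMod 2] V) : Prop where
  zero : w 0 = a
  mem : ∀ i < 9, w i ∈ Cfg.O H a
  inj : ∀ i < 9, ∀ j < 9, w i = w j → i = j
  surj : ∀ v ∈ Cfg.O H a, ∃ i < 9, w i = v
  xX : ∀ i, 1 ≤ i → i < 9 → x i ∈ X
  xw : ∀ i, 1 ≤ i → i < 9 → ∀ j < 9, x i (w j) = w (gt (tri i) j)
  xsurj : ∀ f ∈ X, ∃ i, 1 ≤ i ∧ i < 9 ∧ f = x i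

theorem exists_LV (h : Cfg b q H X D a) : ∃ w x, LV H X a w x := by
  classical
  have := h.finite
  have := h.finiteX
  obtain ⟨x0, x1, x2, hx0, hx1, hx2, hne⟩ := exists_gens h
  obtain ⟨w0, hw0, hw0a⟩ := h.exists_w
  have hmul : ∀ v < 8, ∀ w < 8, xv x0 x1 x2 v * xv x0 x1 x2 w = xv x0 x1 x2 (v ^^^ w) :=
    fun v hv w hw => xv_mul (h.Xsq _ hx0) (h.Xsq _ hx1) (h.Xsq _ hx2) (h.Xcomm _ hx0 _ hx1)
      (h.Xcomm _ hx0 _ hx2) (h.Xcomm _ hx1 _ hx2) hv hw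
  have hX : ∀ v, xv x0 x1 x2 v ∈ X := fun v =>
    X.mul_mem (X.mul_mem (X.pow_mem hx0 _) (X.pow_mem hx1 _)) (X.pow_mem hx2 _)
  have hinj : ∀ v < 8, ∀ w < 8, xv x0 x1 x2 v = xv x0 x1 x2 w → v = w := by
    intro v hv w hw hvw
    by_contra hne'
    have h1 : xv x0 x1 x2 (v ^^^ w) = 1 := by
      rw [← hmul v hv w hw, ← hvw]; exact h.Xsq _ (hX v)
    refine hne _ (xor_lt v hv w hw) ?_ h1
    intro h2
    exact hne' (Nat.xor_eq_zero_iff.1 h2)
  have hsurj : ∀ f ∈ X, ∃ v < 8, f = xv x0 x1 x2 v := by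
    intro f hf
    let S : Finset (V ≃ₗ[ZMod 2] V) := (Finset.range 8).image (xv x0 x1 x2)
    have hS : S.card = 8 := by
      rw [Finset.card_image_of_injOn, Finset.card_range]
      intro v hv w hw hvw
      exact hinj v (by simpa using hv) w (by simpa using hw) hvw
    have hSX : (S : Set (V ≃ₗ[ZMod 2] V)) ⊆ (X : Set (V ≃ₗ[ZMod 2] V)) := by
      intro g hg
      obtain ⟨v, -, rfl⟩ := Finset.mem_image.1 (Finset.mem_coe.1 hg)
      exact hX v
    have h1 : (S : Set (V ≃ₗ[ZMod 2] V)) = (X : Set (V ≃ₗ[ZMod 2] V)) := by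
      apply Set.eq_of_subset_of_ncard_le hSX
      · rw [Set.ncard_coe_finset, hS]
        have : (X : Set (V ≃ₗ[ZMod 2] V)).ncard = 8 := by rw [← h.card_X]; rfl
        rw [this]
    have h2 : f ∈ (S : Set (V ≃ₗ[ZMod 2] V)) := by rw [h1]; exact hf
    obtain ⟨v, hv, rfl⟩ := Finset.mem_image.1 (Finset.mem_coe.1 h2)
    exact ⟨v, by simpa using hv, rfl⟩
  let w : ℕ → V := fun i => if i = 0 then a else xv x0 x1 x2 (fv i) w0
  let x : ℕ → V ≃ₗ[ZMod 2] V := fun i => xv x0 x1 x2 (fv i)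
  have hwa : ∀ i, i ≠ 0 → w i = xv x0 x1 x2 (fv i) w0 := fun i hi => by simp only [w, if_neg hi]
  have hwna : ∀ i, i ≠ 0 → w i ≠ a := by
    intro i hi h1
    rw [hwa i hi] at h1
    apply hw0a
    exact (xv x0 x1 x2 (fv i)).injective (h1.trans (h.Xa _ (hX _)).symm)
  refine ⟨w, x, ?_, ?_, ?_, ?_, fun i _ _ => hX _, ?_, ?_⟩
  · simp [w]
  · intro i hi
    by_cases h0 : i = 0
    · subst h0; simp only [w, if_true]; exact Cfg.a_mem_O
    · rw [hwa i h0]; exact Cfg.map_mem_O (h.XH (hX _)) hw0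
  · intro i hi j hj hij
    by_cases h0 : i = 0
    · by_contra hne'
      have hj0 : j ≠ 0 := fun h1 => hne' (h0.trans h1.symm)
      apply hwna j hj0
      rw [← hij, h0]; simp [w]
    · have hj0 : j ≠ 0 := by
        intro h1
        apply hwna i h0
        rw [hij, h1]; simp [w]
      rw [hwa i h0, hwa j hj0] at hij
      have h1 := h.inj_X hw0 hw0a (hX (fv i)) (hX (fv j)) hij
      have h2 := hinj _ (fv_lt i hi) _ (fv_lt j hj) h1
      rw [← lb_fv i hi (by omega), ← lb_fv j hj (by omega), h2]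
  · intro v hv
    by_cases hva : v = a
    · exact ⟨0, by norm_num, by simp [w, hva]⟩
    · obtain ⟨f, hf, hfv⟩ := h.exists_X hv hva hw0 hw0a
      obtain ⟨u, hu, rfl⟩ := hsurj f hf
      obtain ⟨h1, h2⟩ := lb_pos u hu
      refine ⟨lb u, h2, ?_⟩
      rw [hwa _ (by omega), fv_lb u hu]
      exact hfv
  · intro i hi1 hi j hj
    rw [gt_tri i hi hi1 j hj]
    by_cases h0 : j = 0
    · rw [if_pos h0, h0]
      simp only [w, if_true]
      exact h.Xa _ (hX _)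
    · have h1 := lb_pos (fv i ^^^ fv j) (xor_lt _ (fv_lt i hi) _ (fv_lt j hj))
      rw [if_neg h0, hwa j h0, hwa _ (by omega), fv_lb _ (xor_lt _ (fv_lt i hi) _ (fv_lt j hj)),
        ← hmul _ (fv_lt i hi) _ (fv_lt j hj)]
      rfl
  · intro f hf
    obtain ⟨u, hu, rfl⟩ := hsurj f hf
    obtain ⟨h1, h2⟩ := lb_pos u hu
    exact ⟨lb u, h1, h2, by simp only [x]; rw [fv_lb u hu]⟩

theorem LV.sum (h : Cfg b q H X D a) {w : ℕ → V} {x : ℕ → V ≃ₗ[ZMod 2] V} (L : LV H X a w x) :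
    ∑ i ∈ Finset.range 9, w i = 0 := by
  have h1a : w 1 ≠ a := by
    intro h1
    have := L.inj 1 (by norm_num) 0 (by norm_num) (h1.trans L.zero.symm)
    exact absurd this (by norm_num)
  refine h.eq_zero_of_perp (L.mem 1 (by norm_num)) h1a fun f hf => ?_
  obtain ⟨j, hj, hjw⟩ := L.surj _ (Cfg.map_mem_O (h.XH hf) (L.mem 1 (by norm_num)))
  rw [← hjw, map_sum, LinearMap.sum_apply]
  have h2 : ∀ i ∈ Finset.range 9, b (w i) (w j) = if i = j then (0 : ZMod 2) else 1 := by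
    intro i hi
    by_cases hij : i = j
    · rw [if_pos hij, hij, h.self]
    · rw [if_neg hij]
      exact h.b_O (L.mem i (by simpa using hi)) (L.mem j hj)
        fun h3 => hij (L.inj i (by simpa using hi) j hj h3)
  rw [Finset.sum_congr rfl h2]
  have h3 : ∀ j < 9, ∑ i ∈ Finset.range 9, (if i = j then (0 : ZMod 2) else 1) = 0 := by decide
  exact h3 j hj

end V

section G

variable {G : Type*} [Group G] {Q A : Subgroup G} {z a : G}

theorem prd_congr {x y : ℕ → G} {k : ℕ} (h : ∀ i < k, x i = y i) (v : ℕ) : prd x k v = prd y k v := by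
  induction k with
  | zero => rfl
  | succ k ih =>
    show prd x k v * zp (x k) (v.testBit k) = prd y k v * zp (y k) (v.testBit k)
    rw [ih (fun i hi => h i (by omega)), h k (by omega)]

theorem prd_mem {x : ℕ → G} (hx : ∀ i, x i ∈ Q) (k v : ℕ) : prd x k v ∈ Q := by
  induction k with
  | zero => exact Q.one_mem
  | succ k ih =>
    show prd x k v * zp (x k) (v.testBit k) ∈ Q
    refine Q.mul_mem ih ?_
    unfold zp
    split_ifs
    · exact hx k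
    · exact Q.one_mem

theorem pr_prd (lz : Large Q z) {x : ℕ → G} (hx : ∀ i, x i ∈ Q) {k : ℕ} (hk : k ≤ 8) :
    lz.pr ⟨prd x k 255, prd_mem hx k 255⟩ = ∑ i ∈ Finset.range k, lz.pr ⟨x i, hx i⟩ := by
  induction k with
  | zero => exact lz.pr_one
  | succ k ih =>
    have h255 : ∀ k < 8, Nat.testBit 255 k = true := by decide
    have h1 : (⟨prd x (k + 1) 255, prd_mem hx (k + 1) 255⟩ : Q) =
        ⟨prd x k 255, prd_mem hx k 255⟩ * ⟨x k, hx k⟩ := by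
      apply Subtype.ext
      show prd x k 255 * zp (x k) (Nat.testBit 255 k) = prd x k 255 * x k
      rw [h255 k (by omega)]
      rfl
    rw [h1, lz.pr_mul, ih (by omega), Finset.sum_range_succ]

/-- **The labelling.** -/
theorem exists_lab [Finite G] (h : Hyp Q z A a) : ∃ b : ℕ → G, b 0 = a ∧
    Cfsg.Agent.TrialityTwo.Lab Q z b := by
  classical
  obtain ⟨w, x, L⟩ := exists_LV h.cfg
  have hc : ∀ i, ∃ c : G, ∃ hc : c * z = z * c, i < 9 → h.ac hc h.p.va = w i := by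
    intro i
    by_cases hi : i < 9
    · obtain ⟨f, ⟨c, rfl⟩, hf⟩ := L.mem i hi
      exact ⟨c, zcomm c, fun _ => hf⟩
    · exact ⟨1, by group, fun h1 => absurd h1 hi⟩
  choose c hcz hcw using hc
  let b0 : ℕ → G := fun i => if i = 0 then a else c i * a * (c i)⁻¹
  have hb0Q : ∀ i, b0 i ∈ Q := by
    intro i
    by_cases h0 : i = 0
    · simp only [b0, if_pos h0]; exact h.p.a_mem
    · simp only [b0, if_neg h0]; exact h.mem_Q_conj (hcz i) h.p.a_mem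
  have hb0w : ∀ i < 9, h.p.lz.pr ⟨b0 i, hb0Q i⟩ = w i := by
    intro i hi
    by_cases h0 : i = 0
    · subst h0
      rw [L.zero]; rfl
    · rw [← hcw i hi, h.ac_va]
      congr 1
      apply Subtype.ext
      simp only [b0, if_neg h0]
  have hb0s : ∀ i, b0 i * b0 i = 1 := by
    intro i
    by_cases h0 : i = 0
    · simp only [b0, if_pos h0]; exact h.aa
    · simp only [b0, if_neg h0]
      calc c i * a * (c i)⁻¹ * (c i * a * (c i)⁻¹) = c i * (a * a) * (c i)⁻¹ := by group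
        _ = 1 := by rw [h.aa]; group
  let b : ℕ → G := fun i => if i = 8 then z * prd b0 8 255 else b0 i
  have hbne : ∀ i, i ≠ 8 → b i = b0 i := fun i hi => by simp only [b, if_neg hi]
  have hb8 : b 8 = z * prd b0 8 255 := by simp [b]
  have hbQ : ∀ i, b i ∈ Q := by
    intro i
    by_cases h8 : i = 8
    · rw [h8, hb8]; exact Q.mul_mem h.p.lz.z_mem (prd_mem hb0Q _ _)
    · rw [hbne i h8]; exact hb0Q i
  have hbw : ∀ i < 9, h.p.lz.pr ⟨b i, hbQ i⟩ = w i := by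
    intro i hi
    by_cases h8 : i = 8
    · subst h8
      have h1 : (⟨b 8, hbQ 8⟩ : Q) = ⟨z, h.p.lz.z_mem⟩ * ⟨prd b0 8 255, prd_mem hb0Q _ _⟩ :=
        Subtype.ext hb8
      have h2 : h.p.lz.pr ⟨z, h.p.lz.z_mem⟩ = 0 := h.p.lz.pr_eq_zero.2 (Or.inr rfl)
      rw [h1, h.p.lz.pr_mul, h2, zero_add, pr_prd h.p.lz hb0Q (le_refl 8)]
      have h3 := L.sum h.cfg
      rw [Finset.sum_range_succ] at h3
      have h4 := eq_of_add h3
      rw [← h4]
      refine Finset.sum_congr rfl fun i hi => hb0w i ?_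
      have := Finset.mem_range.1 hi
      omega
    · rw [← hb0w i hi]
      congr 1
      exact Subtype.ext (hbne i h8)
  have hsq : ∀ i < 9, b i * b i = 1 := by
    intro i hi
    have h1 : h.p.lz.pr ⟨b i, hbQ i⟩ = h.p.lz.pr ⟨b0 i, hb0Q i⟩ := by rw [hbw i hi, hb0w i hi]
    rcases h.p.lz.pr_eq_pr.1 h1 with h2 | h2
    · have h2' : b i = b0 i := h2
      rw [h2', hb0s]
    · have h2' : b i = b0 i * z := h2
      have h3 := h.comm_z (hb0Q i)
      calc b i * b i = b0 i * (z * b0 i) * z := by rw [h2']; simp only [mul_assoc]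
        _ = (b0 i * b0 i) * (z * z) := by rw [← h3]; simp only [mul_assoc]
        _ = 1 := by rw [hb0s, h.zz, one_mul]
  have hinj : ∀ i < 9, ∀ j < 9, i ≠ j → h.p.lz.b (w i) (w j) = 1 := fun i hi j hj hij =>
    h.cfg.b_O (L.mem i hi) (L.mem j hj) fun h1 => hij (L.inj i hi j hj h1)
  have nine : Cfsg.Agent.TrialityTwo.Nine z b := by
    refine ⟨h.zn, h.zz, fun i _ => h.comm_z (hbQ i), hsq, fun i hi j hj => ?_, ?_⟩
    · have h1 := hinj i hi j (by omega) (by omega)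
      rw [← hbw i hi, ← hbw j (by omega)] at h1
      have h2 := (h.p.lz.b_pr_one _ _).1 h1
      have h3 : b i * b j = b j * b i * z := h2
      rw [h3]
      exact h.comm_z (Q.mul_mem (hbQ j) (hbQ i))
    · rw [hb8, prd_congr (x := b) (y := b0) (k := 8) (fun i hi => hbne i (by omega))]
  have ctx : Cfsg.Agent.TrialityTwo.Ctx Q z b := ⟨h.p.lz, nine, fun i _ => hbQ i, h.card⟩
  -- the action
  have hacb : ∀ (c : G) (hc : c * z = z * c), ∀ i < 9,
      h.ac hc (w i) = h.p.lz.pr ⟨c * b i * c⁻¹, h.mem_Q_conj hc (hbQ i)⟩ := by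
    intro c hc i hi
    rw [← hbw i hi, h.ac_pr]
  have key : ∀ (c : G) (hc : c * z = z * c), ∀ i < 9, ∀ j < 9,
      (h.ac hc (w i) = w j ↔ (c * b i * c⁻¹ = b j ∨ c * b i * c⁻¹ = z * b j)) := by
    intro c hc i hi j hj
    rw [hacb c hc i hi, ← hbw j hj, h.p.lz.pr_eq_pr]
    show (c * b i * c⁻¹ = b j ∨ c * b i * c⁻¹ = b j * z) ↔ _
    rw [h.comm_z (hbQ j)]
  have hact : ∀ c, c * z = z * c → ∃ p, wp p = true ∧ Act z b c p := by
    intro c hc
    have h1 : ∀ i, ∃ j, j < 9 ∧ (i < 9 → h.ac hc (w i) = w j) := by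
      intro i
      by_cases hi : i < 9
      · obtain ⟨j, hj, hjw⟩ := L.surj _ (Cfg.map_mem_O (h.ac_mem hc) (L.mem i hi))
        exact ⟨j, hj, fun _ => hjw.symm⟩
      · exact ⟨0, by norm_num, fun h2 => absurd h2 hi⟩
    choose p0 hp9 hpw using h1
    have hg : ∀ i < 9, gt (mkp p0 9) i = p0 i := fun i hi =>
      gt_mkp (fun i => by have := hp9 i; omega) hi
    refine ⟨mkp p0 9, wp_of (fun i hi => by rw [hg i hi]; exact hp9 i) ?_, ?_⟩
    · intro i hi j hj hij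
      rw [hg i hi, hg j hj] at hij
      apply L.inj i hi j hj
      apply (h.ac hc).injective
      rw [hpw i hi, hpw j hj, hij]
    · intro i hi
      rw [hg i hi]
      exact (key c hc i hi (p0 i) (hp9 i)).1 (hpw i hi)
  have hwp : ∀ (c : G) (hc : c * z = z * c) (p : ℕ), wp p = true → Act z b c p → ∀ i < 9,
      h.ac hc (w i) = w (gt p i) := by
    intro c hc p hp hA i hi
    exact (key c hc i hi _ (wp_lt hp hi)).2 (hA i hi)
  have htri : ∀ i, 1 ≤ i → i < 9 → ∀ j < 9, gt (tri i) j < 9 := by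
    intro i hi1 hi j hj
    rw [gt_tri i hi hi1 j hj]
    split_ifs
    · norm_num
    · exact (lb_pos _ (xor_lt _ (fv_lt i hi) _ (fv_lt j hj))).2
  refine ⟨b, by rw [hbne 0 (by norm_num)]; simp [b0], ctx, hact, ?_, ?_, ?_⟩
  · intro i hi
    obtain ⟨p, hp, hA⟩ := hact (c i) (hcz i)
    refine ⟨c i, p, hcz i, hp, hA, ?_⟩
    have h1 := hwp (c i) (hcz i) p hp hA 0 (by norm_num)
    rw [L.zero, hcw i hi] at h1
    exact L.inj _ (wp_lt hp (by norm_num)) i hi h1.symm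
  · intro i hi1 hi
    obtain ⟨c', hc'⟩ := h.p.X_le_H (L.xX i hi1 hi)
    refine ⟨c', zcomm c', fun j hj => ?_⟩
    refine (key c' (zcomm c') j hj _ (htri i hi1 hi j hj)).1 ?_
    have h1 : h.ac (zcomm c') = x i := hc'
    rw [h1]
    exact L.xw i hi1 hi j hj
  · intro c p hc hp hA hp0 hpp
    have hw := hwp c hc p hp hA
    have h1a : w 1 ≠ h.p.va := by
      intro h1
      exact absurd (L.inj 1 (by norm_num) 0 (by norm_num) (h1.trans L.zero.symm)) (by norm_num)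
    have hya : h.ac hc h.p.va = h.p.va := by
      rw [← L.zero, hw 0 (by norm_num), hp0]
    have hyy : h.ac hc * h.ac hc = 1 := by
      refine h.cfg.eq_one_of_fix (L.mem 1 (by norm_num)) h1a fun f hf => ?_
      obtain ⟨j, hj, hjw⟩ := L.surj _ (Cfg.map_mem_O (h.p.X_le_H hf) (L.mem 1 (by norm_num)))
      rw [← hjw]
      show h.ac hc (h.ac hc (w j)) = w j
      rw [hw j hj, hw _ (wp_lt hp hj), hpp j hj]
    obtain ⟨i, hi1, hi, hy⟩ := L.xsurj _ (h.cfg.mem_X_of_sq (h.ac_mem hc) hyy hya)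
    refine ⟨i, hi1, hi, fun j hj => ?_⟩
    apply L.inj _ (wp_lt hp hj) _ (htri i hi1 hi j hj)
    rw [← hw j hj, hy]
    exact L.xw i hi1 hi j hj

end G

end Cfsg.Agent.TypeD4Two.LabOf
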