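import Cfsg.Agent.LargeExtra.Nine.Iface
import Cfsg.Agent.TypeD4Two.NinePair

/-!
# The configuration `confD4` satisfies `Hyp` (helper186)
-/

set_option autoImplicit false

namespace Cfsg.Agent.TypeD4Two.ConfHyp

open Cfsg.Agent.Co2Type.Quad Cfsg.Agent.LargeExtra.Local Cfsg.Agent.LargeExtra.Base
open Cfsg.Agent.LargeExtra.Nine Cfsg.Agent.TypeD4Two.NinePair

/-- codes of the nine points -/
def pts : List ℕ := [1, 16, 63, 93, 123, 153, 179, 215, 245]

/-- all matrices -/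
def mats : List (List ℕ) := confD4.X ++ confD4.N ++ confD4.M

theorem maps : ∀ L ∈ mats, ∀ n ∈ pts, ∃ m ∈ pts, lin L (vec n) = vec m := by decide +kernel

theorem onto : ∀ L ∈ mats, ∀ m ∈ pts, ∃ n ∈ pts, lin L (vec n) = vec m := by decide +kernel

theorem nonorth : ∀ n ∈ pts, bs (vec 1) (vec n) = 0 → n = 1 := by decide +kernel

theorem nonorth' : bs (vec 1) (vec 215) = 1 := by decide +kernel

theorem lin_one : lin [215,128,20,48,16,24,80,2] (vec 1) = vec 215 := by decide +kernel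

theorem qs_add (v w : F8) : qs (v + w) = qs v + qs w + bs v w := by
  simp only [qs, bs, Pi.add_apply]
  ring

variable {G : Type*} [Group G] {Q A : Subgroup G} {z a : G}

theorem b_eq {h : Large Q z} (φ : Coord h) (v w : h.V) : h.b v w = bs (φ.e v) (φ.e w) := by
  have h1 := h.q_add' v w
  rw [φ.q, φ.q, φ.q, map_add, qs_add] at h1
  exact (add_left_cancel h1).symm

theorem orbit (p : Pair Q z A a) (φ : Coord p.lz) (hc : IsConf p φ confD4)
    {f : p.lz.V ≃ₗ[ZMod 2] p.lz.V} (hf : f ∈ p.H) :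
    ∀ v, (∃ n ∈ pts, φ.e v = vec n) ↔ (∃ n ∈ pts, φ.e (f v) = vec n) := by
  have h1 := hc.le hf
  clear hf
  induction h1 using Subgroup.closure_induction with
  | mem f hf =>
    obtain ⟨L, hL, hA⟩ := hf
    intro v
    rw [hA v]
    constructor
    · rintro ⟨n, hn, hv⟩
      rw [hv]
      exact maps L hL n hn
    · rintro ⟨m, hm, hv⟩
      obtain ⟨n, hn, hnm⟩ := onto L hL m hm
      refine ⟨n, hn, ?_⟩
      have h2 : φ.e (f v) = φ.e (f (φ.e.symm (vec n))) := by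
        rw [hA v, hv, hA, LinearEquiv.apply_symm_apply, hnm]
      have h3 := f.injective (φ.e.injective h2)
      rw [h3, LinearEquiv.apply_symm_apply]
  | one => intro v; exact Iff.rfl
  | mul f g _ _ hf hg =>
    intro v
    exact (hg v).trans (hf (g v))
  | inv f _ hf =>
    intro v
    have h2 := hf (f⁻¹ v)
    have e : f (f⁻¹ v) = v := by
      show (f * f⁻¹) v = v
      rw [mul_inv_cancel]; rfl
    rw [e] at h2
    exact h2.symm

/-- `confD4` gives `Hyp` -/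
theorem hyp (p : Pair Q z A a) (h9 : Nat.card Q = 2 ^ 9) (φ : Coord p.lz)
    (hc : IsConf p φ confD4) : Hyp Q z A a where
  p := p
  card := h9
  nn := by
    intro c hcz hcom
    have hC : c ∈ Subgroup.centralizer ({z} : Set G) := Subgroup.mem_centralizer_singleton_iff.2 hcz
    have hv : p.lz.act ⟨c, hC⟩ p.va = p.lz.pr (p.lz.conjQ ⟨c, hC⟩ ⟨a, p.a_mem⟩) := p.lz.act_pr _ _
    have hb : p.lz.b p.va (p.lz.act ⟨c, hC⟩ p.va) = 0 := by
      rw [hv]
      exact (p.lz.b_pr ⟨a, p.a_mem⟩ (p.lz.conjQ ⟨c, hC⟩ ⟨a, p.a_mem⟩)).2 hcom.symm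
    obtain ⟨n, hn, hfn⟩ := (orbit p φ hc (f := p.lz.act ⟨c, hC⟩) ⟨_, rfl⟩ p.va).1
      ⟨1, by decide, hc.va⟩
    rw [b_eq φ, hc.va, hfn] at hb
    have h1 := nonorth n hn hb
    rw [h1, ← hc.va] at hfn
    have h2 := φ.e.injective hfn
    rw [hv] at h2
    exact p.lz.pr_eq_pr.1 h2
  mv := by
    obtain ⟨f, ⟨c, rfl⟩, hA⟩ := hc.N [215,128,20,48,16,24,80,2] (by decide)
    refine ⟨c, Subgroup.mem_centralizer_singleton_iff.1 c.2, fun hcom => ?_⟩
    have hv : p.lz.act c p.va = p.lz.pr (p.lz.conjQ c ⟨a, p.a_mem⟩) := p.lz.act_pr _ _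
    have hb : p.lz.b p.va (p.lz.act c p.va) = 0 := by
      rw [hv]
      exact (p.lz.b_pr ⟨a, p.a_mem⟩ (p.lz.conjQ c ⟨a, p.a_mem⟩)).2 hcom.symm
    rw [b_eq φ, hA, hc.va, lin_one, nonorth'] at hb
    exact absurd hb (by decide)

end Cfsg.Agent.TypeD4Two.ConfHyp
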