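import Cfsg.Agent.TypeD4Two.CertGChk0
import Cfsg.Agent.TypeD4Two.CertGChk1
import Cfsg.Agent.TypeD4Two.CertGChk2

set_option autoImplicit false
set_option maxRecDepth 100000

namespace Cfsg.Agent.TypeD4Two.CertGAll

open Cfsg.Agent.SporadicRecognition.CosetCert Cfsg.Agent.TypeD4Two.CertGData

theorem part : Part C 0 C.N 819 := ((Cfsg.Agent.TypeD4Two.CertGChk0.all).append C Cfsg.Agent.TypeD4Two.CertGChk1.all).append C Cfsg.Agent.TypeD4Two.CertGChk2.all

end Cfsg.Agent.TypeD4Two.CertGAll
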