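import Cfsg.Agent.TypeD4Two.Red
import Cfsg.Agent.TypeD4Two.CertAAll
import Cfsg.Agent.TypeD4Two.CertBAll
import Cfsg.Agent.TypeD4Two.CertCAll
import Cfsg.Agent.TypeD4Two.CertGAll
import Cfsg.Agent.TypeD4Two.CertXAll

/-!
# Coset enumeration certificates for `³D₄(2)`

Five elements `d, e, n, a, t` of any group satisfying the relations `Rel3` generate a finite group of order at most
`211341312 = 819 * 512 * 9 * 8 * 7` (the order of `³D₄(2)`); with `(t * (n * t * n)) ^ 4 = 1` instead of the third power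
(`Rel4`) the element `t` lies in the subgroup generated by `d, e, n, a`.
-/

set_option autoImplicit false
set_option maxRecDepth 100000

namespace Cfsg.Agent.TypeD4Two.Cert

open Cfsg.Agent.SporadicRecognition.CosetCert Cfsg.Agent.SporadicRecognition.CosetCertHyp
  Cfsg.Agent.SporadicRecognition.CosetChain Cfsg.Agent.TypeD4Two.Red

variable {G : Type*} [Group G]

/-- Relations of `L₂(8)` on `d, e, n`. -/
structure RelL (d e n : G) : Prop where
  dd : d ^ 7 = 1
  ee : e * e = 1
  nn : n * n = 1
  l1 : e * (d⁻¹ * e * d) * ((d ^ 3)⁻¹ * e * d ^ 3) = 1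
  l2 : e * (d⁻¹ * e * d) = (d⁻¹ * e * d) * e
  nd : (n * d) ^ 2 = 1
  ne : (n * e) ^ 3 = 1

/-- the involution `a₀` -/
def bb (n a : G) : G := n * a * n
/-- the central involution -/
def zz (n a : G) : G := a * bb n a * (a * bb n a)
/-- the other seven involutions -/
def cc (d e n a : G) (i : ℕ) : G := (d ^ i)⁻¹ * (e * n * a * n * e) * d ^ i

/-- Relations of `2^(1+8) : L₂(8)` on `d, e, n, a`. -/
structure RelC (d e n a : G) : Prop extends RelL d e n where
  aa : a * a = 1
  ad : a * d = d * a
  ae : a * e = e * a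
  ab : (a * bb n a) ^ 4 = 1
  ze : zz n a * e = e * zz n a
  prod : a * bb n a * cc d e n a 0 * cc d e n a 1 * cc d e n a 2 * cc d e n a 3 * cc d e n a 4 * cc d e n a 5 *
    cc d e n a 6 = zz n a

/-- Relations with `t`. -/
structure RelT (d e n a t : G) : Prop extends RelC d e n a where
  tt : t * t = 1
  td : t * d = d * t
  tz : t * zz n a * t = a
  bt : (bb n a * t) ^ 3 = 1
  te : t * e * t = cc d e n a 0 * cc d e n a 1 * cc d e n a 2 * cc d e n a 4 * zz n a
  tc : t * (cc d e n a 0 * cc d e n a 1 * cc d e n a 2 * cc d e n a 5) =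
    (cc d e n a 0 * cc d e n a 1 * cc d e n a 2 * cc d e n a 5) * t

/-- expressions -/
def xd : Ex := .g 0
/-- expressions -/
def xe : Ex := .g 2
/-- expressions -/
def xn : Ex := .g 3
/-- expressions -/
def xa : Ex := .g 4
/-- expressions -/
def xt : Ex := .g 5
/-- product -/
def Mm : Ex → List Ex → Ex
  | a, [] => a
  | a, b :: l => Mm (.m a b) l
/-- product of a list -/
def Ml (l : List Ex) : Ex :=
  match l with
  | [] => .p (.g 0) 0
  | a :: l => Mm a l
/-- conjugate -/
def xcj (x : Ex) (i : ℕ) : Ex := Ml [.i (.p xd i), x, .p xd i]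
/-- expression of `bb` -/
def xb : Ex := Ml [xn, xa, xn]
/-- expression of `zz` -/
def xz : Ex := .m (.m xa xb) (.m xa xb)
/-- expression of `cc` -/
def xc (i : ℕ) : Ex := Ml [.i (.p xd i), Ml [xe, xn, xa, xn, xe], .p xd i]

/-- relators of `L` -/
def exL : List Ex := [.p xd 7, Ml [xe, Ml [.i xd, xe, xd], Ml [.i (.p xd 3), xe, .p xd 3]],
  .m (.m xe (Ml [.i xd, xe, xd])) (.i (.m (Ml [.i xd, xe, xd]) xe)), .p (.m xn xd) 2, .p (.m xn xe) 3]
/-- relators of `C` -/
def exC : List Ex := exL ++ [.m (.m xa xd) (.i (.m xd xa)), .m (.m xa xe) (.i (.m xe xa)), .p (.m xa xb) 4,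
  .m (.m xz xe) (.i (.m xe xz)), .m (Ml [xa, xb, xc 0, xc 1, xc 2, xc 3, xc 4, xc 5, xc 6]) (.i xz)]
/-- relators with `t` -/
def exT : List Ex := exC ++ [.m (.m xt xd) (.i (.m xd xt)), .m (Ml [xt, xz, xt]) (.i xa), .p (.m xb xt) 3,
  .m (Ml [xt, xe, xt]) (.i (Ml [xc 0, xc 1, xc 2, xc 4, xz])),
  .m (.m xt (Ml [xc 0, xc 1, xc 2, xc 5])) (.i (.m (Ml [xc 0, xc 1, xc 2, xc 5]) xt))]
/-- all relators -/
def ex3 : List Ex := exT ++ [.p (.m xt (Ml [xn, xt, xn])) 3]
/-- all relators, second case -/
def ex4 : List Ex := exT ++ [.p (.m xt (Ml [xn, xt, xn])) 4]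

/-- formal inverse of the letters -/
def inv (x : ℕ) : ℕ := bif Nat.beq x 0 then 1 else bif Nat.beq x 1 then 0 else x

/-- the letters `d, d⁻¹, e, n, a, t` -/
def lt (d e n a t : G) (x : ℕ) : G :=
  match x with
  | 0 => d
  | 1 => d⁻¹
  | 2 => e
  | 3 => n
  | 4 => a
  | 5 => t
  | _ => 1

theorem inv_ok {d e n a t : G} (h : RelL d e n) (ha : a * a = 1) (ht : t * t = 1) :
    ∀ x, x < 6 → inv x < 6 ∧ lt d e n a t x * lt d e n a t (inv x) = 1 := by
  intro x hx
  interval_cases x
  · exact ⟨by decide, mul_inv_cancel d⟩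
  · exact ⟨by decide, inv_mul_cancel d⟩
  · exact ⟨by decide, h.ee⟩
  · exact ⟨by decide, h.nn⟩
  · exact ⟨by decide, ha⟩
  · exact ⟨by decide, ht⟩

theorem mul_inv_one {x y : G} (h : x = y) : x * y⁻¹ = 1 := by rw [h, mul_inv_cancel]

theorem val_L {d e n : G} (a t : G) (h : RelL d e n) : ∀ x ∈ exL, x.val (lt d e n a t) = 1 := by
  intro x hx
  simp only [exL, List.mem_cons, List.not_mem_nil, or_false] at hx
  rcases hx with rfl | rfl | rfl | rfl | rfl
  · exact h.dd
  · exact h.l1
  · exact mul_inv_one h.l2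
  · exact h.nd
  · exact h.ne

theorem val_C {d e n a : G} (t : G) (h : RelC d e n a) : ∀ x ∈ exC, x.val (lt d e n a t) = 1 := by
  intro x hx
  rcases List.mem_append.mp hx with hx | hx
  · exact val_L a t h.toRelL x hx
  simp only [List.mem_cons, List.not_mem_nil, or_false] at hx
  rcases hx with rfl | rfl | rfl | rfl | rfl
  · exact mul_inv_one h.ad
  · exact mul_inv_one h.ae
  · exact h.ab
  · exact mul_inv_one h.ze
  · exact mul_inv_one h.prod

theorem val_T {d e n a t : G} (h : RelT d e n a t) : ∀ x ∈ exT, x.val (lt d e n a t) = 1 := by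
  intro x hx
  rcases List.mem_append.mp hx with hx | hx
  · exact val_C t h.toRelC x hx
  simp only [List.mem_cons, List.not_mem_nil, or_false] at hx
  rcases hx with rfl | rfl | rfl | rfl | rfl
  · exact mul_inv_one h.td
  · exact mul_inv_one h.tz
  · exact h.bt
  · exact mul_inv_one h.te
  · exact mul_inv_one h.tc

/-- letters below `k`, decidable form -/
def ltb (k : ℕ) : Ex → Bool
  | .g n => Nat.blt n k
  | .m a b => ltb k a && ltb k b
  | .i a => ltb k a
  | .p a _ => ltb k a

theorem lt_of_ltb {k : ℕ} : ∀ {x : Ex}, ltb k x = true → x.lt k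
  | .g _, h => Nat.le_of_ble_eq_true h
  | .m _ _, h => by
    have h' := Bool.and_eq_true_iff.mp h
    exact ⟨lt_of_ltb h'.1, lt_of_ltb h'.2⟩
  | .i a, h => lt_of_ltb (x := a) h
  | .p a _, h => lt_of_ltb (x := a) h

/-- from expressions to reduced words -/
theorem words_ok {d e n a t : G} (hi : ∀ x, x < 6 → inv x < 6 ∧ lt d e n a t x * lt d e n a t (inv x) = 1)
    {l : List Ex} (hl : (l.all fun x => ltb 6 x) = true) (h : ∀ x ∈ l, x.val (lt d e n a t) = 1) :
    ∀ r ∈ l.map (rw1 inv), ev (lt d e n a t) r = 1 := by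
  intro r hr
  obtain ⟨x, hx, rfl⟩ := List.mem_map.mp hr
  exact ev_rw1 hi (lt_of_ltb (List.all_eq_true.mp hl x hx)) (h x hx)

theorem finite_zpowers {d : G} (h : d ^ 7 = 1) : Finite (Subgroup.closure ({d} : Set G)) ∧
    Nat.card (Subgroup.closure ({d} : Set G)) ≤ 7 := by
  rw [← Subgroup.zpowers_eq_closure]
  have h1 : IsOfFinOrder d := isOfFinOrder_iff_pow_eq_one.mpr ⟨7, by norm_num, h⟩
  refine ⟨h1.finite_zpowers, ?_⟩
  rw [Nat.card_zpowers]
  exact orderOf_le_of_pow_eq_one (by norm_num) h

section chain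

variable {d e n a t : G}

theorem closure_one : Subgroup.closure (lt d e n a t '' {x | x < 2}) = Subgroup.closure ({d} : Set G) := by
  apply le_antisymm
  · rw [Subgroup.closure_le]
    rintro _ ⟨x, hx, rfl⟩
    have hx' : x < 2 := hx
    interval_cases x
    · exact Subgroup.subset_closure rfl
    · exact Subgroup.inv_mem _ (Subgroup.subset_closure rfl)
  · rw [Subgroup.closure_le]
    rintro _ rfl
    exact Subgroup.subset_closure ⟨0, by show (0 : ℕ) < 2; norm_num, rfl⟩

theorem cardA (h : RelL d e n) (ha : a * a = 1) (ht : t * t = 1) :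
    Finite (Subgroup.closure (lt d e n a t '' {x | x < 3})) ∧
    Nat.card (Subgroup.closure (lt d e n a t '' {x | x < 3})) ≤ 56 := by
  have hi := inv_ok h ha ht
  have h0 := finite_zpowers h.dd
  rw [← closure_one (d := d) (e := e) (n := n) (a := a) (t := t)] at h0
  have := card_step CertAData.C (lt d e n a t) (exL.map (rw1 inv)) [[0]] _
    (fun x hx => by
      have hx' : x < 3 := hx
      interval_cases x
      · exact ⟨by decide, (hi 0 (by norm_num)).2⟩
      · exact ⟨by decide, (hi 1 (by norm_num)).2⟩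
      · exact ⟨by decide, (hi 2 (by norm_num)).2⟩)
    (fun r hr _ => words_ok hi (by decide) (val_L a t h) r hr)
    (fun s hs _ => sub_letters (lt d e n a t) 2 [[0]] (by decide) s hs)
    (by decide +kernel) CertAAll.part h0.1
  exact ⟨this.1, this.2.trans (by have := h0.2; omega)⟩

theorem cardB (h : RelL d e n) (ha : a * a = 1) (ht : t * t = 1) :
    Finite (Subgroup.closure (lt d e n a t '' {x | x < 4})) ∧
    Nat.card (Subgroup.closure (lt d e n a t '' {x | x < 4})) ≤ 504 := by
  have hi := inv_ok h ha ht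
  have h0 := cardA h ha ht
  have := card_step CertBData.C (lt d e n a t) (exL.map (rw1 inv)) [[0], [2]] _
    (fun x hx => by
      have hx' : x < 4 := hx
      interval_cases x
      · exact ⟨by decide, (hi 0 (by norm_num)).2⟩
      · exact ⟨by decide, (hi 1 (by norm_num)).2⟩
      · exact ⟨by decide, (hi 2 (by norm_num)).2⟩
      · exact ⟨by decide, (hi 3 (by norm_num)).2⟩)
    (fun r hr _ => words_ok hi (by decide) (val_L a t h) r hr)
    (fun s hs _ => sub_letters (lt d e n a t) 3 [[0], [2]] (by decide) s hs)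
    (by decide +kernel) CertBAll.part h0.1
  exact ⟨this.1, this.2.trans (by have := h0.2; omega)⟩

theorem cardC (h : RelC d e n a) (ht : t * t = 1) :
    Finite (Subgroup.closure (lt d e n a t '' {x | x < 5})) ∧
    Nat.card (Subgroup.closure (lt d e n a t '' {x | x < 5})) ≤ 258048 := by
  have hi := inv_ok h.toRelL h.aa ht
  have h0 := cardB h.toRelL h.aa ht
  have := card_step CertCData.C (lt d e n a t) (exC.map (rw1 inv)) [[0], [2], [3]] _
    (fun x hx => by
      have hx' : x < 5 := hx
      interval_cases x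
      · exact ⟨by decide, (hi 0 (by norm_num)).2⟩
      · exact ⟨by decide, (hi 1 (by norm_num)).2⟩
      · exact ⟨by decide, (hi 2 (by norm_num)).2⟩
      · exact ⟨by decide, (hi 3 (by norm_num)).2⟩
      · exact ⟨by decide, (hi 4 (by norm_num)).2⟩)
    (fun r hr _ => words_ok hi (by decide) (val_C t h) r hr)
    (fun s hs _ => sub_letters (lt d e n a t) 4 [[0], [2], [3]] (by decide) s hs)
    (by decide +kernel) CertCAll.part h0.1
  exact ⟨this.1, this.2.trans (by have := h0.2; omega)⟩

theorem cardG (h : RelT d e n a t) (hk : (t * (n * t * n)) ^ 3 = 1) :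
    Finite (Subgroup.closure (lt d e n a t '' {x | x < 6})) ∧
    Nat.card (Subgroup.closure (lt d e n a t '' {x | x < 6})) ≤ 211341312 := by
  have hi := inv_ok h.toRelL h.aa h.tt
  have h0 := cardC h.toRelC h.tt
  have := card_step CertGData.C (lt d e n a t) (ex3.map (rw1 inv)) [[0], [2], [3], [4]] _
    (fun x hx => by
      have hx' : x < 6 := hx
      interval_cases x
      · exact ⟨by decide, (hi 0 (by norm_num)).2⟩
      · exact ⟨by decide, (hi 1 (by norm_num)).2⟩
      · exact ⟨by decide, (hi 2 (by norm_num)).2⟩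
      · exact ⟨by decide, (hi 3 (by norm_num)).2⟩
      · exact ⟨by decide, (hi 4 (by norm_num)).2⟩
      · exact ⟨by decide, (hi 5 (by norm_num)).2⟩)
    (fun r hr _ => words_ok hi (by decide) (fun x hx => by
      rcases List.mem_append.mp hx with hx | hx
      · exact val_T h x hx
      · rw [List.mem_singleton] at hx
        subst hx
        exact hk) r hr)
    (fun s hs _ => sub_letters (lt d e n a t) 5 [[0], [2], [3], [4]] (by decide) s hs)
    (by decide +kernel) CertGAll.part h0.1
  exact ⟨this.1, this.2.trans (by have := h0.2; omega)⟩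

theorem cardX (h : RelT d e n a t) (hk : (t * (n * t * n)) ^ 4 = 1) :
    Finite (Subgroup.closure (lt d e n a t '' {x | x < 6})) ∧
    Nat.card (Subgroup.closure (lt d e n a t '' {x | x < 6})) ≤
      Nat.card (Subgroup.closure (lt d e n a t '' {x | x < 5})) := by
  have hi := inv_ok h.toRelL h.aa h.tt
  have h0 := cardC h.toRelC h.tt
  have := card_step CertXData.C (lt d e n a t) (ex4.map (rw1 inv)) [[0], [2], [3], [4]] _
    (fun x hx => by
      have hx' : x < 6 := hx
      interval_cases x
      · exact ⟨by decide, (hi 0 (by norm_num)).2⟩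
      · exact ⟨by decide, (hi 1 (by norm_num)).2⟩
      · exact ⟨by decide, (hi 2 (by norm_num)).2⟩
      · exact ⟨by decide, (hi 3 (by norm_num)).2⟩
      · exact ⟨by decide, (hi 4 (by norm_num)).2⟩
      · exact ⟨by decide, (hi 5 (by norm_num)).2⟩)
    (fun r hr _ => words_ok hi (by decide) (fun x hx => by
      rcases List.mem_append.mp hx with hx | hx
      · exact val_T h x hx
      · rw [List.mem_singleton] at hx
        subst hx
        exact hk) r hr)
    (fun s hs _ => sub_letters (lt d e n a t) 5 [[0], [2], [3], [4]] (by decide) s hs)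
    (by decide +kernel) CertXAll.part h0.1
  exact ⟨this.1, this.2.trans (by omega)⟩

theorem closure_four : Subgroup.closure (lt d e n a t '' {x | x < 4}) = Subgroup.closure ({d, e, n} : Set G) := by
  apply le_antisymm
  · rw [Subgroup.closure_le]
    rintro _ ⟨x, hx, rfl⟩
    have hx' : x < 4 := hx
    interval_cases x
    · exact Subgroup.subset_closure (Or.inl rfl)
    · exact Subgroup.inv_mem _ (Subgroup.subset_closure (Or.inl rfl))
    · exact Subgroup.subset_closure (Or.inr (Or.inl rfl))
    · exact Subgroup.subset_closure (Or.inr (Or.inr rfl))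
  · rw [Subgroup.closure_le]
    rintro _ (rfl | rfl | rfl)
    · exact Subgroup.subset_closure ⟨0, by show (0 : ℕ) < 4; norm_num, rfl⟩
    · exact Subgroup.subset_closure ⟨2, by show (2 : ℕ) < 4; norm_num, rfl⟩
    · exact Subgroup.subset_closure ⟨3, by show (3 : ℕ) < 4; norm_num, rfl⟩

theorem closure_five :
    Subgroup.closure (lt d e n a t '' {x | x < 5}) = Subgroup.closure ({d, e, n, a} : Set G) := by
  apply le_antisymm
  · rw [Subgroup.closure_le]
    rintro _ ⟨x, hx, rfl⟩
    have hx' : x < 5 := hx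
    interval_cases x
    · exact Subgroup.subset_closure (Or.inl rfl)
    · exact Subgroup.inv_mem _ (Subgroup.subset_closure (Or.inl rfl))
    · exact Subgroup.subset_closure (Or.inr (Or.inl rfl))
    · exact Subgroup.subset_closure (Or.inr (Or.inr (Or.inl rfl)))
    · exact Subgroup.subset_closure (Or.inr (Or.inr (Or.inr rfl)))
  · rw [Subgroup.closure_le]
    rintro _ (rfl | rfl | rfl | rfl)
    · exact Subgroup.subset_closure ⟨0, by show (0 : ℕ) < 5; norm_num, rfl⟩
    · exact Subgroup.subset_closure ⟨2, by show (2 : ℕ) < 5; norm_num, rfl⟩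
    · exact Subgroup.subset_closure ⟨3, by show (3 : ℕ) < 5; norm_num, rfl⟩
    · exact Subgroup.subset_closure ⟨4, by show (4 : ℕ) < 5; norm_num, rfl⟩

theorem closure_six :
    Subgroup.closure (lt d e n a t '' {x | x < 6}) = Subgroup.closure ({d, e, n, a, t} : Set G) := by
  apply le_antisymm
  · rw [Subgroup.closure_le]
    rintro _ ⟨x, hx, rfl⟩
    have hx' : x < 6 := hx
    interval_cases x
    · exact Subgroup.subset_closure (Or.inl rfl)
    · exact Subgroup.inv_mem _ (Subgroup.subset_closure (Or.inl rfl))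
    · exact Subgroup.subset_closure (Or.inr (Or.inl rfl))
    · exact Subgroup.subset_closure (Or.inr (Or.inr (Or.inl rfl)))
    · exact Subgroup.subset_closure (Or.inr (Or.inr (Or.inr (Or.inl rfl))))
    · exact Subgroup.subset_closure (Or.inr (Or.inr (Or.inr (Or.inr rfl))))
  · rw [Subgroup.closure_le]
    rintro _ (rfl | rfl | rfl | rfl | rfl)
    · exact Subgroup.subset_closure ⟨0, by show (0 : ℕ) < 6; norm_num, rfl⟩
    · exact Subgroup.subset_closure ⟨2, by show (2 : ℕ) < 6; norm_num, rfl⟩
    · exact Subgroup.subset_closure ⟨3, by show (3 : ℕ) < 6; norm_num, rfl⟩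
    · exact Subgroup.subset_closure ⟨4, by show (4 : ℕ) < 6; norm_num, rfl⟩
    · exact Subgroup.subset_closure ⟨5, by show (5 : ℕ) < 6; norm_num, rfl⟩

end chain

variable {d e n a t : G}

/-- `|⟨d, e, n⟩| ≤ 504`. -/
theorem card_closure_L (h : RelL d e n) : Finite (Subgroup.closure ({d, e, n} : Set G)) ∧
    Nat.card (Subgroup.closure ({d, e, n} : Set G)) ≤ 504 := by
  have := cardB (a := 1) (t := 1) h (mul_one 1) (mul_one 1)
  rwa [closure_four] at this

/-- `|⟨d, e, n, a⟩| ≤ 2^9 * 504`. -/
theorem card_closure_C (h : RelC d e n a) : Finite (Subgroup.closure ({d, e, n, a} : Set G)) ∧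
    Nat.card (Subgroup.closure ({d, e, n, a} : Set G)) ≤ 258048 := by
  have := cardC (t := 1) h (mul_one 1)
  rwa [closure_five] at this

/-- `|⟨d, e, n, a, t⟩| ≤ 211341312`. -/
theorem card_closure_le (h : RelT d e n a t) (hk : (t * (n * t * n)) ^ 3 = 1) :
    Finite (Subgroup.closure ({d, e, n, a, t} : Set G)) ∧
    Nat.card (Subgroup.closure ({d, e, n, a, t} : Set G)) ≤ 211341312 := by
  have := cardG h hk
  rwa [closure_six] at this

/-- The collapse. -/
theorem mem_of_four (h : RelT d e n a t) (hk : (t * (n * t * n)) ^ 4 = 1) :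
    t ∈ Subgroup.closure ({d, e, n, a} : Set G) := by
  have h1 := cardX h hk
  rw [closure_six, closure_five] at h1
  have hle : Subgroup.closure ({d, e, n, a} : Set G) ≤ Subgroup.closure ({d, e, n, a, t} : Set G) := by
    apply Subgroup.closure_mono
    intro x hx
    simp only [Set.mem_insert_iff, Set.mem_singleton_iff] at hx ⊢
    tauto
  have := h1.1
  rw [Subgroup.eq_of_le_of_card_ge hle h1.2]
  exact Subgroup.subset_closure (by simp)

end Cfsg.Agent.TypeD4Two.Cert
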