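import Cfsg.Agent.SporadicRecognition.CosetCert

set_option autoImplicit false
set_option maxRecDepth 100000

namespace Cfsg.Agent.TypeD4Two.CertAData

open Cfsg.Agent.SporadicRecognition.CosetCert

noncomputable def tree : Tr := (.L 0xffe1e6d671ffde2b1140ffb4e0b482ffb1126f61ffad64e720ffb98a4a51ff8c508632ff9084211f)

noncomputable def wtree : WT := (.N 1 (.L 2 [0,2,1,1,1,2,0,0]) (.N 2 (.L 0 [2,0,2,1,2,0,2]) (.L 1 [0,0,0,0,0,0])))

noncomputable def stree : ST := (.L 0 [] [])

noncomputable def C : Cert where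
  data := tree
  lm := 15
  rb := 40
  fb := 9
  mask := 511
  B := 16
  k := 3
  N := 8
  inv := fun x => bif Nat.beq x 0 then 1 else bif Nat.beq x 1 then 0 else bif Nat.beq x 2 then 2 else x
  words := wtree
  subs := stree

def rels : List (List Nat) := [[0,0,0,0,0,0,0], [2,1,2,0,2,1,2,0], [2,1,2,1,1,2,0,0,0]]

def subw : List (List Nat) := [[0]]

end Cfsg.Agent.TypeD4Two.CertAData
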