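import Cfsg.Agent.TypeD4Two.CertBData

set_option autoImplicit false
set_option maxRecDepth 100000

namespace Cfsg.Agent.TypeD4Two.CertBChk0

open Cfsg.Agent.SporadicRecognition.CosetCert Cfsg.Agent.TypeD4Two.CertBData

theorem c0 : Part C 0 9 9 := runChunk_sound C 9 (by decide +kernel : runChunk C 7 127 0xc60808204ce981040410246080c304cc1014608082260410202081030454105 1 1 0 0 9 = 10)

theorem all : Part C 0 9 9 := c0

end Cfsg.Agent.TypeD4Two.CertBChk0
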