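import Cfsg.Agent.SporadicRecognition.CosetCert

set_option autoImplicit false
set_option maxRecDepth 100000

namespace Cfsg.Agent.TypeD4Two.CertBData

open Cfsg.Agent.SporadicRecognition.CosetCert

noncomputable def tree : Tr := (.L 0x3ff8de2875e081ffdc6865f96543ff92554619e92ffdb8515145dc7ff411366a0d30ffcf559cb34987ff28c82394c42ffc4124c72188fff1483108411f)

noncomputable def wtree : WT := (.N 3 (.N 1 (.L 0 [3,1,3]) (.N 2 (.L 3 [2,3,2,3,2]) (.L 3 [1,3,1]))) (.N 5 (.N 4 (.L 2 [0,2,1,1,1,2,0,0]) (.L 0 [2,0,2,1,2,0,2])) (.N 6 (.L 1 [0,0,0,0,0,0]) (.L 3 [0,3,0]))))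

noncomputable def stree : ST := (.N 1 (.L 0 [] []) (.L 2 [] []))

noncomputable def C : Cert where
  data := tree
  lm := 15
  rb := 54
  fb := 10
  mask := 1023
  B := 16
  k := 4
  N := 9
  inv := fun x => bif Nat.beq x 0 then 1 else bif Nat.beq x 1 then 0 else bif Nat.beq x 2 then 2 else bif Nat.beq x 3 then 3 else x
  words := wtree
  subs := stree

def rels : List (List Nat) := [[3,0,3,0], [3,2,3,2,3,2], [0,0,0,0,0,0,0], [2,1,2,0,2,1,2,0], [2,1,2,1,1,2,0,0,0]]

def subw : List (List Nat) := [[0], [2]]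

end Cfsg.Agent.TypeD4Two.CertBData
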