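import Cfsg.Agent.TypeD4Two.Code

set_option autoImplicit false
set_option maxRecDepth 100000

/-! Kernel checks of the codes. -/

namespace Cfsg.Agent.TypeD4Two.CodeChk

open Cfsg.Agent.TypeD4Two Cfsg.Agent.TypeD4Two.Code

theorem c0 : ∀ i < 2, chk1 (xm (rk (0 + i)) (tk (0 + i))) (xc (0 + i)) := by decide +kernel
theorem c1 : ∀ i < 7, chk1 (xm (rk (2 + i)) (tk (2 + i))) (xc (2 + i)) := by decide +kernel
theorem c2 : ∀ i < 7, chk1 (xm (rk (9 + i)) (tk (9 + i))) (xc (9 + i)) := by decide +kernel
theorem c3 : ∀ i < 7, chk1 (xm (rk (16 + i)) (tk (16 + i))) (xc (16 + i)) := by decide +kernel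
theorem c4 : ∀ i < 7, chk1 (xm (rk (23 + i)) (tk (23 + i))) (xc (23 + i)) := by decide +kernel
theorem c5 : ∀ i < 7, chk1 (xm (rk (30 + i)) (tk (30 + i))) (xc (30 + i)) := by decide +kernel
theorem c6 : ∀ i < 7, chk1 (xm (rk (37 + i)) (tk (37 + i))) (xc (37 + i)) := by decide +kernel

theorem check2 : ∀ k < 44, chk2 (xc k) := by decide +kernel

theorem check1 : ∀ k < 44, chk1 (xm (rk k) (tk k)) (xc k) := by
  intro k hk
  rcases lt_or_ge k 2 with h | h
  · have := c0 (k - 0) (by omega)
    rwa [show 0 + (k - 0) = k by omega] at this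
  rcases lt_or_ge k 9 with h | h
  · have := c1 (k - 2) (by omega)
    rwa [show 2 + (k - 2) = k by omega] at this
  rcases lt_or_ge k 16 with h | h
  · have := c2 (k - 9) (by omega)
    rwa [show 9 + (k - 9) = k by omega] at this
  rcases lt_or_ge k 23 with h | h
  · have := c3 (k - 16) (by omega)
    rwa [show 16 + (k - 16) = k by omega] at this
  rcases lt_or_ge k 30 with h | h
  · have := c4 (k - 23) (by omega)
    rwa [show 23 + (k - 23) = k by omega] at this
  rcases lt_or_ge k 37 with h | h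
  · have := c5 (k - 30) (by omega)
    rwa [show 30 + (k - 30) = k by omega] at this
  have := c6 (k - 37) (by omega)
  rwa [show 37 + (k - 37) = k by omega] at this

end Cfsg.Agent.TypeD4Two.CodeChk
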