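import Cfsg.Agent.TypeD4Two.Col1Data

set_option autoImplicit false
set_option maxRecDepth 100000

namespace Cfsg.Agent.TypeD4Two.Col1Chk0

open Cfsg.Agent.SporadicRecognition.CosetCert Cfsg.Agent.Lib.CosetPartial Cfsg.Agent.TypeD4Two.Col1Data

theorem c0 : PartP C 0 2 := runP_sound C (by decide +kernel : runP C 5 31 0xcc600005528000 6 63 0x8c0 0 2 = true)

theorem all : PartP C 0 2 := c0

end Cfsg.Agent.TypeD4Two.Col1Chk0
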