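import Cfsg.Agent.Lib.CosetPartial

set_option autoImplicit false
set_option maxRecDepth 100000

namespace Cfsg.Agent.TypeD4Two.Col1Data

open Cfsg.Agent.SporadicRecognition.CosetCert

noncomputable def tree : Tr := (.L 0x74d696ffffd7f48917fffff)

noncomputable def wtree : WT := (.N 1 (.L 3 [5,3,5]) (.N 2 (.L 4 [5,4,3,4,3,4,3,4,3,5]) (.L 6 [5,3,4,3,5,3,4,3,5,3,4,3])))

noncomputable def stree : ST := (.N 1 (.L 3 [] []) (.L 4 [] []))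

noncomputable def C : Cert where
  data := tree
  lm := 15
  rb := 46
  fb := 6
  mask := 63
  B := 4
  k := 6
  N := 2
  inv := fun x => bif Nat.beq x 0 then 1 else bif Nat.beq x 1 then 0 else bif Nat.beq x 2 then 2 else bif Nat.beq x 3 then 3 else bif Nat.beq x 4 then 4 else bif Nat.beq x 5 then 5 else x
  words := wtree
  subs := stree

/-- letters: 0 = d, 1 = D, 2 = e, 3 = n, 4 = a, 5 = t -/
def rels : List (List Nat) := [[3,0,3,0], [4,1,4,0], [4,2,4,2], [5,1,5,0], [5,3,5,3], [3,2,3,2,3,2], [0,0,0,0,0,0,0], [2,1,2,0,2,1,2,0], [2,1,2,1,1,2,0,0,0], [5,4,3,4,3,4,3,4,3,5,4], [3,4,3,5,3,4,3,5,3,4,3,5], [4,3,4,3,4,3,4,3,4,3,4,3,4,3,4,3], [3,4,3,4,3,4,3,4,2,4,3,4,3,4,3,4,3,2], [5,2,5,3,4,3,4,3,4,3,4,1,1,1,1,2,3,4,3,2,0,0,2,3,4,3,2,0,2,3,4,3,2,0,2,3,4,3,2], [2,3,4,3,2,1,2,3,4,3,2,1,2,3,4,3,2,1,2,3,4,3,2,1,2,3,4,3,2,1,2,3,4,3,2,1,2,3,4,3,2,0,0,0,0,0,0,3,4,3,4],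 [5,1,1,1,1,1,2,3,4,3,2,0,0,0,2,3,4,3,2,0,2,3,4,3,2,0,2,3,4,3,2,5,2,3,4,3,2,1,2,3,4,3,2,1,2,3,4,3,2,1,1,1,2,3,4,3,2,0,0,0,0,0]]

def subw : List (List Nat) := [[0], [2], [3], [4]]

/-- targets:  t -/
def targets : List (List Nat) := [[5]]

end Cfsg.Agent.TypeD4Two.Col1Data
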