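import Cfsg.Agent.TypeD4Two.Col2Data

set_option autoImplicit false
set_option maxRecDepth 100000

namespace Cfsg.Agent.TypeD4Two.Col2Chk0

open Cfsg.Agent.SporadicRecognition.CosetCert Cfsg.Agent.Lib.CosetPartial Cfsg.Agent.TypeD4Two.Col2Data

theorem c0 : PartP C 0 6 := runP_sound C (by decide +kernel : runP C 7 127 0x868c08000000b32600000000410000001020200000020c10000001150a00000 13 8191 0x266e00002b0001aae000 0 6 = true)

theorem all : PartP C 0 6 := c0

end Cfsg.Agent.TypeD4Two.Col2Chk0
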