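import Cfsg.Agent.Lib.CosetPartial

set_option autoImplicit false
set_option maxRecDepth 100000

namespace Cfsg.Agent.TypeD4Two.Col2Data

open Cfsg.Agent.SporadicRecognition.CosetCert

noncomputable def tree : Tr := (.L 0x9a8e7e6cffffff3ff538565ffffff593ff4376ffffff4ff5d4c32ffffff3a1192a3bffffff5ff221109fffffff)

noncomputable def wtree : WT := (.N 3 (.N 1 (.L 4 [5,4,3,4,3,4,3,4,3,5]) (.N 2 (.L 3 [5,3,5,3,5,3,5]) (.L 4 [3,4,3,4,5,4,5,3,4,3]))) (.N 4 (.L 4 [5,3,4,3,4,3,4,3,4,5]) (.N 5 (.L 5 [3,4,3,5,3,4,3,5,3,4,3]) (.L 6 [5,3,4,3,4,3,4,3,4,5,4]))))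

noncomputable def stree : ST := (.N 1 (.L 3 [] []) (.L 4 [] []))

noncomputable def C : Cert where
  data := tree
  lm := 15
  rb := 60
  fb := 8
  mask := 255
  B := 8
  k := 6
  N := 6
  inv := fun x => bif Nat.beq x 0 then 1 else bif Nat.beq x 1 then 0 else bif Nat.beq x 2 then 2 else bif Nat.beq x 3 then 3 else bif Nat.beq x 4 then 4 else bif Nat.beq x 5 then 5 else x
  words := wtree
  subs := stree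

/-- letters: 0 = d, 1 = D, 2 = e, 3 = n, 4 = a, 5 = t -/
def rels : List (List Nat) := [[3,0,3,0], [4,1,4,0], [4,2,4,2], [5,1,5,0], [3,2,3,2,3,2], [0,0,0,0,0,0,0], [2,1,2,0,2,1,2,0], [5,3,5,3,5,3,5,3], [2,1,2,1,1,2,0,0,0], [5,4,3,4,3,4,3,4,3,5,4], [3,4,3,5,3,4,3,5,3,4,3,5], [4,3,4,3,4,3,4,3,4,3,4,3,4,3,4,3], [3,4,3,4,3,4,3,4,2,4,3,4,3,4,3,4,3,2], [5,2,5,3,4,3,4,3,4,3,4,1,1,1,1,2,3,4,3,2,0,0,2,3,4,3,2,0,2,3,4,3,2,0,2,3,4,3,2], [2,3,4,3,2,1,2,3,4,3,2,1,2,3,4,3,2,1,2,3,4,3,2,1,2,3,4,3,2,1,2,3,4,3,2,1,2,3,4,3,2,0,0,0,0,0,0,3,4,3,4], [5,1,1,1,1,1,2,3,4,3,2,0,0,0,2,3,4,3,2,0,2,3,4,3,2,0,2,3,4,3,2,5,2,3,4,3,2,1,2,3,4,3,2,1,2,3,4,3,2,1,1,1,2,3,4,3,2,0,0,0,0,0]]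

def subw : List (List Nat) := [[0], [2], [3], [4]]

/-- targets:  t -/
def targets : List (List Nat) := [[5]]

end Cfsg.Agent.TypeD4Two.Col2Data
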