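import Cfsg.Agent.TypeD4Two.Cert
import Cfsg.Agent.TypeD4Two.Col1Chk0
import Cfsg.Agent.TypeD4Two.Col2Chk0

set_option autoImplicit false
set_option maxRecDepth 100000

/-! Collapses for the relations of `³D₄(2)` with `(t * (n * t * n)) ^ k = 1`, `k = 1, 2`. -/

namespace Cfsg.Agent.TypeD4Two.Collapse

open Cfsg.Agent.SporadicRecognition.CosetCert Cfsg.Agent.SporadicRecognition.CosetCertHyp
  Cfsg.Agent.SporadicRecognition.CosetChain Cfsg.Agent.TypeD4Two.Red Cfsg.Agent.Lib.CosetPartial
  Cfsg.Agent.TypeD4Two.Cert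

variable {G : Type*} [Group G] {d e n a t : G}

/-- all relators, first case -/
def ex1 : List Ex := exT ++ [.p (.m xt (Ml [xn, xt, xn])) 1]
/-- all relators, second case -/
def ex2 : List Ex := exT ++ [.p (.m xt (Ml [xn, xt, xn])) 2]

theorem sub_ok : ∀ s ∈ [[0], [2], [3], [4]], ev (lt d e n a t) s ∈ Subgroup.closure ({d, e, n, a} : Set G) := by
  intro s hs
  simp only [List.mem_cons, List.not_mem_nil, or_false] at hs
  rcases hs with rfl | rfl | rfl | rfl
  · exact Subgroup.subset_closure (by simp [ev, lt])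
  · exact Subgroup.subset_closure (by simp [ev, lt])
  · exact Subgroup.subset_closure (by simp [ev, lt])
  · exact Subgroup.subset_closure (by simp [ev, lt])

theorem rel_ok (h : RelT d e n a t) {x : Ex} (hx : x.val (lt d e n a t) = 1) :
    ∀ y ∈ exT ++ [x], y.val (lt d e n a t) = 1 := by
  intro y hy
  rcases List.mem_append.mp hy with hy | hy
  · exact val_T h y hy
  · rw [List.mem_singleton] at hy
    subst hy
    exact hx

theorem inv1 : ∀ x, x < 6 → Col1Data.C.inv x = inv x := by
  intro x hx
  interval_cases x <;> rfl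

theorem inv2 : ∀ x, x < 6 → Col2Data.C.inv x = inv x := by
  intro x hx
  interval_cases x <;> rfl

/-- The collapse for `k = 1`. -/
theorem mem_of_one (h : RelT d e n a t) (hk : (t * (n * t * n)) ^ 1 = 1) :
    t ∈ Subgroup.closure ({d, e, n, a} : Set G) := by
  have hi := inv_ok h.toRelL h.aa h.tt
  have := mem_of_checks Col1Data.C (Subgroup.closure ({d, e, n, a} : Set G)) (lt d e n a t) (ex1.map (rw1 inv))
    [[0], [2], [3], [4]] [[5]] (by decide +kernel) (fun x hx => by rw [inv1 x hx]; exact (hi x hx).2)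
    (words_ok hi (by decide) (rel_ok h hk)) sub_ok Col1Chk0.all (by decide +kernel) [5] (by simp)
  simpa [ev, lt] using this

/-- The collapse for `k = 2`. -/
theorem mem_of_two (h : RelT d e n a t) (hk : (t * (n * t * n)) ^ 2 = 1) :
    t ∈ Subgroup.closure ({d, e, n, a} : Set G) := by
  have hi := inv_ok h.toRelL h.aa h.tt
  have := mem_of_checks Col2Data.C (Subgroup.closure ({d, e, n, a} : Set G)) (lt d e n a t) (ex2.map (rw1 inv))
    [[0], [2], [3], [4]] [[5]] (by decide +kernel) (fun x hx => by rw [inv2 x hx]; exact (hi x hx).2)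
    (words_ok hi (by decide) (rel_ok h hk)) sub_ok Col2Chk0.all (by decide +kernel) [5] (by simp)
  simpa [ev, lt] using this

end Cfsg.Agent.TypeD4Two.Collapse
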