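import Mathlib

set_option autoImplicit false

/-! An explicit field with eight elements, with kernel-friendly operations (numbers below 8 = polynomials modulo
`x^3 + x + 1` over the prime field). -/

namespace Cfsg.Agent.TypeD4Two

/-- The field with eight elements. -/
structure F8 : Type where
  /-- code -/
  v : ℕ
  /-- bound -/
  lt : v < 8

namespace F8

/-- element with a given code (mod 8) -/
def ofN (n : ℕ) : F8 := ⟨n % 8, Nat.mod_lt _ (by norm_num)⟩

theorem ext' {a b : F8} (h : a.v = b.v) : a = b := by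
  cases a; cases b; simp only at h; subst h; rfl

instance decEqF8 : DecidableEq F8 := fun a b =>
  match Nat.decEq a.v b.v with
  | isTrue h => isTrue (ext' h)
  | isFalse h => isFalse fun h' => h (congrArg v h')

instance fintypeF8 : Fintype F8 where
  elems := {ofN 0, ofN 1, ofN 2, ofN 3, ofN 4, ofN 5, ofN 6, ofN 7}
  complete := by
    have key : ∀ k : Fin 8, (⟨k.1, k.2⟩ : F8) ∈
        ({ofN 0, ofN 1, ofN 2, ofN 3, ofN 4, ofN 5, ofN 6, ofN 7} : Finset F8) := by decide +kernel
    rintro ⟨n, hn⟩
    exact key ⟨n, hn⟩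

/-- multiplication table, three bits per entry -/
def tbl : ℕ := 0x73157889d3f0cfa868356ee0467b98bcbd10fac688000000

/-- addition -/
def add' (a b : F8) : F8 := ofN (Nat.xor a.v b.v)
/-- multiplication -/
def mul' (a b : F8) : F8 := ofN (Nat.shiftRight tbl (3 * (8 * a.v + b.v)))
/-- table of inverses -/
def itbl : ℕ := 0x8d7d48
/-- inverse -/
def inv' (a : F8) : F8 := ofN (Nat.shiftRight itbl (3 * a.v))

theorem add_assoc' : ∀ a b c : F8, add' (add' a b) c = add' a (add' b c) := by decide +kernel
theorem mul_assoc' : ∀ a b c : F8, mul' (mul' a b) c = mul' a (mul' b c) := by decide +kernel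
theorem left_distrib' : ∀ a b c : F8, mul' a (add' b c) = add' (mul' a b) (mul' a c) := by decide +kernel
theorem right_distrib' : ∀ a b c : F8, mul' (add' a b) c = add' (mul' a c) (mul' b c) := by decide +kernel
theorem add_comm' : ∀ a b : F8, add' a b = add' b a := by decide +kernel
theorem mul_comm' : ∀ a b : F8, mul' a b = mul' b a := by decide +kernel
theorem zero_add' : ∀ a : F8, add' (ofN 0) a = a := by decide +kernel
theorem add_zero' : ∀ a : F8, add' a (ofN 0) = a := by decide +kernel
theorem add_self' : ∀ a : F8, add' a a = ofN 0 := by decide +kernel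
theorem zero_mul' : ∀ a : F8, mul' (ofN 0) a = ofN 0 := by decide +kernel
theorem mul_zero' : ∀ a : F8, mul' a (ofN 0) = ofN 0 := by decide +kernel
theorem one_mul' : ∀ a : F8, mul' (ofN 1) a = a := by decide +kernel
theorem mul_one' : ∀ a : F8, mul' a (ofN 1) = a := by decide +kernel
theorem mul_inv' : ∀ a : F8, a ≠ ofN 0 → mul' a (inv' a) = ofN 1 := by decide +kernel
theorem ofN_add (m n : ℕ) : add' (ofN m) (ofN n) = ofN (Nat.xor m n) := by
  apply ext'
  change (m % 2 ^ 3 ^^^ n % 2 ^ 3) % 2 ^ 3 = (m ^^^ n) % 2 ^ 3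
  rw [Nat.xor_mod_two_pow, Nat.xor_mod_two_pow (a := m), Nat.mod_mod, Nat.mod_mod]

/-- the bit `b` as an element of the prime field -/
def ofBit (n : ℕ) : F8 := ofN (n % 2)

instance instCommRingF8 : CommRing F8 where
  add := add'
  zero := ofN 0
  neg := id
  mul := mul'
  one := ofN 1
  add_assoc := add_assoc'
  zero_add := zero_add'
  add_zero := add_zero'
  nsmul := fun n x => mul' (ofBit n) x
  nsmul_zero := zero_mul'
  nsmul_succ := by
    intro n x
    show mul' (ofBit (n + 1)) x = add' (mul' (ofBit n) x) x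
    unfold ofBit
    have h : (n + 1) % 2 = 0 ∧ n % 2 = 1 ∨ (n + 1) % 2 = 1 ∧ n % 2 = 0 := by omega
    rcases h with ⟨h1, h2⟩ | ⟨h1, h2⟩ <;> rw [h1, h2] <;> revert x <;> decide +kernel
  zsmul := fun n x => mul' (ofBit n.natAbs) x
  zsmul_zero' := zero_mul'
  zsmul_succ' := by
    intro n x
    show mul' (ofBit (n + 1)) x = add' (mul' (ofBit n) x) x
    unfold ofBit
    have h : (n + 1) % 2 = 0 ∧ n % 2 = 1 ∨ (n + 1) % 2 = 1 ∧ n % 2 = 0 := by omega
    rcases h with ⟨h1, h2⟩ | ⟨h1, h2⟩ <;> rw [h1, h2] <;> revert x <;> decide +kernel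
  zsmul_neg' := by
    intro n x
    rfl
  neg_add_cancel := add_self'
  add_comm := add_comm'
  left_distrib := left_distrib'
  right_distrib := right_distrib'
  zero_mul := zero_mul'
  mul_zero := mul_zero'
  mul_assoc := mul_assoc'
  one_mul := one_mul'
  mul_one := mul_one'
  mul_comm := mul_comm'
  natCast := fun n => ofBit n
  natCast_zero := rfl
  natCast_succ := by
    intro n
    show ofBit (n + 1) = add' (ofBit n) (ofN 1)
    unfold ofBit
    have h : (n + 1) % 2 = 0 ∧ n % 2 = 1 ∨ (n + 1) % 2 = 1 ∧ n % 2 = 0 := by omega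
    rcases h with ⟨h1, h2⟩ | ⟨h1, h2⟩ <;> rw [h1, h2] <;> decide +kernel
  intCast := fun n => ofBit n.natAbs
  intCast_ofNat := fun _ => rfl
  intCast_negSucc := fun _ => rfl

instance instFieldF8 : Field F8 where
  inv := inv'
  exists_pair_ne := ⟨ofN 0, ofN 1, by decide +kernel⟩
  mul_inv_cancel := mul_inv'
  inv_zero := by decide +kernel
  nnqsmul := _
  nnqsmul_def := fun _ _ => rfl
  qsmul := _
  qsmul_def := fun _ _ => rfl

theorem card_F8 : Fintype.card F8 = 8 := by decide +kernel

end F8

end Cfsg.Agent.TypeD4Two
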