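import Cfsg.Agent.TypeD4Two.CodeChk

set_option autoImplicit false

/-! Soundness of the coding of 28 × 28 matrices over the field with eight elements by 84 column masks. -/

namespace Cfsg.Agent.TypeD4Two.Mat

open Cfsg.Lie Cfsg.Agent.TypeD4Two Cfsg.Agent.TypeD4Two.Code Cfsg.Agent.TypeD4Two.CodeChk

theorem dec_xor (m n : ℕ) : dec (m ^^^ n) = dec m + dec n := by
  funext i
  change F8.ofN ((m ^^^ n) >>> (3 * pos i)) = F8.add' (F8.ofN (m >>> (3 * pos i))) (F8.ofN (n >>> (3 * pos i)))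
  rw [F8.ofN_add, Nat.shiftRight_xor_distrib]
  rfl

theorem dec_zero : dec 0 = 0 := by
  funext i
  change F8.ofN (0 >>> (3 * pos i)) = F8.ofN 0
  rw [Nat.zero_shiftRight]

theorem app_lt (C : List ℕ) (B : ℕ) (h : ∀ c ∈ C, c < 2 ^ B) (v : ℕ) : app C v < 2 ^ B := by
  induction C generalizing v with
  | nil => simp [app]
  | cons c cs ih =>
    rw [app]
    refine Nat.xor_lt_two_pow ?_ (ih (fun c hc => h c (List.mem_cons_of_mem _ hc)) _)
    have h1 : v % 2 = 0 ∨ v % 2 = 1 := by omega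
    rcases h1 with h1 | h1
    · rw [h1, Nat.zero_mul]; positivity
    · rw [h1, Nat.one_mul]; exact h c List.mem_cons_self

theorem split_xor0 (v : ℕ) : v = (v % 2) ^^^ (2 * (v / 2)) := by
  have h1 : ((v % 2) ^^^ (2 * (v / 2))) / 2 = v / 2 := by
    rw [Nat.xor_div_two]
    have : v % 2 / 2 = 0 := by omega
    rw [this, Nat.zero_xor]; omega
  have h2 : ((v % 2) ^^^ (2 * (v / 2))) % 2 = v % 2 := by
    have := Nat.xor_mod_two_pow (a := v % 2) (b := 2 * (v / 2)) (n := 1)
    rw [pow_one] at this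
    rw [this]
    have e : 2 * (v / 2) % 2 = 0 := by omega
    rw [e, Nat.xor_zero]; omega
  omega

theorem split_xor (v k : ℕ) : v * 2 ^ k = ((v % 2) * 2 ^ k) ^^^ ((v / 2) * 2 ^ (k + 1)) := by
  have e2 : (v / 2) * 2 ^ (k + 1) = (2 * (v / 2)) * 2 ^ k := by ring
  rw [e2, ← Nat.shiftLeft_eq, ← Nat.shiftLeft_eq, ← Nat.shiftLeft_eq, ← Nat.shiftLeft_xor_distrib,
    ← split_xor0]

theorem app_spec_aux (M : Matrix J J F8) (cs : List ℕ) (k : ℕ)
    (h : ∀ j < cs.length, dec (cs.getD j 0) = M.mulVec (dec (2 ^ (k + j)))) :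
    ∀ v < 2 ^ cs.length, dec (app cs v) = M.mulVec (dec (v * 2 ^ k)) := by
  induction cs generalizing k with
  | nil =>
    intro v hv
    have : v = 0 := by simpa using hv
    subst this
    rw [app, Nat.zero_mul, dec_zero, Matrix.mulVec_zero]
  | cons c cs ih =>
    intro v hv
    rw [app, dec_xor, ih (k + 1) _ (v / 2) _]
    · have key : v * 2 ^ k = ((v % 2) * 2 ^ k) ^^^ ((v / 2) * 2 ^ (k + 1)) := split_xor v k
      rw [key, dec_xor, Matrix.mulVec_add]
      congr 1
      have h1 : v % 2 = 0 ∨ v % 2 = 1 := by omega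
      rcases h1 with h1 | h1
      · rw [h1, Nat.zero_mul, Nat.zero_mul, dec_zero, Matrix.mulVec_zero]
      · rw [h1, Nat.one_mul, Nat.one_mul]
        have := h 0 (by simp)
        simpa using this
    · intro j hj
      have := h (j + 1) (by simpa using hj)
      rw [List.getD_cons_succ] at this
      rw [this, Nat.add_assoc, Nat.add_comm 1 j]
    · rw [List.length_cons, pow_succ] at hv
      omega

/-- `C` is the code of the matrix `M` -/
structure IsCode (M : Matrix J J F8) (C : List ℕ) : Prop where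
  lt : ∀ c ∈ C, c < 2 ^ 84
  spec : ∀ v < 2 ^ 84, dec (app C v) = M.mulVec (dec v)

theorem IsCode.app_lt {M : Matrix J J F8} {C : List ℕ} (h : IsCode M C) (v : ℕ) :
    app C v < 2 ^ 84 := Mat.app_lt C 84 h.lt v

theorem exists_pos : ∀ j < 84, ∃ col : J, j = 3 * pos col ∨ j = 3 * pos col + 1 ∨ j = 3 * pos col + 2 := by
  decide +kernel

theorem dec_0 : ∀ col : J, dec (2 ^ (3 * pos col)) = Pi.single col 1 := by
  decide +kernel

theorem dec_1 : ∀ col : J, dec (2 ^ (3 * pos col + 1)) = Pi.single col (F8.ofN 2) := by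
  decide +kernel

theorem dec_2 : ∀ col : J, dec (2 ^ (3 * pos col + 2)) = Pi.single col (F8.ofN 4) := by
  decide +kernel

theorem isCode_of_cols {M : Matrix J J F8} {C : List ℕ} (hlen : C.length = 84)
    (hlt : ∀ c ∈ C, c < 2 ^ 84)
    (h : ∀ j < 84, dec (C.getD j 0) = M.mulVec (dec (2 ^ j))) : IsCode M C := by
  refine ⟨hlt, fun v hv => ?_⟩
  have := app_spec_aux M C 0 (fun j hj => by rw [Nat.zero_add]; exact h j (hlen ▸ hj)) v
    (by rw [hlen]; exact hv)
  simpa using this

theorem isCode_of_check {M : Matrix J J F8} {C : List ℕ} (hlen : C.length = 84)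
    (hlt : ∀ c ∈ C, c < 2 ^ 84) (h1 : chk1 M C) (h2 : chk2 C) : IsCode M C := by
  refine isCode_of_cols hlen hlt (fun j hj => ?_)
  obtain ⟨col, rfl | rfl | rfl⟩ := exists_pos j hj
  · rw [dec_0, Matrix.mulVec_single_one]
    funext row
    exact h1 col row
  · rw [dec_1, Matrix.mulVec_single]
    funext row
    rw [(h2 col row).1, h1 col row]
    rfl
  · rw [dec_2, Matrix.mulVec_single]
    funext row
    rw [(h2 col row).2, h1 col row]
    rfl

theorem mat_ext {M M' : Matrix J J F8}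
    (h : ∀ p < 28, M.mulVec (dec (8 ^ p)) = M'.mulVec (dec (8 ^ p))) : M = M' := by
  have h2 : ∀ col : J, pos col < 28 := by decide
  ext i col
  have h1 := h (pos col) (h2 col)
  have e : (8 : ℕ) ^ (pos col) = 2 ^ (3 * pos col) := by
    rw [pow_mul]; norm_num
  rw [e, dec_0, Matrix.mulVec_single_one, Matrix.mulVec_single_one] at h1
  exact congrFun h1 i

theorem isCode_mul {M N : Matrix J J F8} {C D : List ℕ} (hM : IsCode M C) (hN : IsCode N D)
    {v : ℕ} (hv : v < 2 ^ 84) : dec (app C (app D v)) = (M * N).mulVec (dec v) := by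
  rw [hM.spec _ (hN.app_lt v), hN.spec v hv, Matrix.mulVec_mulVec]

/-- apply a word of codes, the first letter last -/
def appL (w : List (List ℕ)) (v : ℕ) : ℕ := w.foldr app v

theorem appL_spec {gs : List (GL J F8)} {cs : List (List ℕ)}
    (h : List.Forall₂ (fun (g : GL J F8) c => IsCode (g : Matrix J J F8) c) gs cs) {v : ℕ} (hv : v < 2 ^ 84) :
    appL cs v < 2 ^ 84 ∧ dec (appL cs v) = ((gs.prod : GL J F8) : Matrix J J F8).mulVec (dec v) := by
  induction h with
  | nil =>
    refine ⟨hv, ?_⟩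
    rw [List.prod_nil, Units.val_one, Matrix.one_mulVec]; rfl
  | cons hgc _ ih =>
    refine ⟨hgc.app_lt _, ?_⟩
    rw [List.prod_cons, Units.val_mul, ← Matrix.mulVec_mulVec, ← ih.2]
    exact hgc.spec _ ih.1

theorem pow8_lt {p : ℕ} (hp : p < 28) : (8 : ℕ) ^ p < 2 ^ 84 := by
  calc (8 : ℕ) ^ p < 8 ^ 28 := Nat.pow_lt_pow_right (by norm_num) hp
    _ = 2 ^ 84 := by norm_num

theorem prod_eq_of_check {gs gs' : List (GL J F8)} {cs cs' : List (List ℕ)}
    (h : List.Forall₂ (fun (g : GL J F8) c => IsCode (g : Matrix J J F8) c) gs cs)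
    (h' : List.Forall₂ (fun (g : GL J F8) c => IsCode (g : Matrix J J F8) c) gs' cs')
    (hc : ∀ p < 28, appL cs (8 ^ p) = appL cs' (8 ^ p)) : gs.prod = gs'.prod := by
  apply Units.ext
  apply mat_ext
  intro p hp
  rw [← (appL_spec h (pow8_lt hp)).2, ← (appL_spec h' (pow8_lt hp)).2, hc p hp]

theorem isCode_prod {gs : List (GL J F8)} {cs : List (List ℕ)} {C : List ℕ}
    (h : List.Forall₂ (fun (g : GL J F8) c => IsCode (g : Matrix J J F8) c) gs cs)
    (hlen : C.length = 84) (hlt : ∀ c ∈ C, c < 2 ^ 84)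
    (hc : ∀ j < 84, C.getD j 0 = appL cs (2 ^ j)) :
    IsCode ((gs.prod : GL J F8) : Matrix J J F8) C := by
  refine isCode_of_cols hlen hlt (fun j hj => ?_)
  have hj' : (2 : ℕ) ^ j < 2 ^ 84 := Nat.pow_lt_pow_right (by norm_num) hj
  rw [hc j hj, (appL_spec h hj').2]

theorem isCode_x {k : ℕ} (hk : k < 44) : IsCode (xm (rk k) (tk k)) (xc k) :=
  isCode_of_check (check_len k hk).1 (check_len k hk).2 (check1 k hk) (check2 k hk)

theorem check_xx : ∀ k < 44, ∀ p < 28, app (xc k) (app (xc k) (8 ^ p)) = 8 ^ p := by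
  decide +kernel

theorem xm_mul_self {k : ℕ} (hk : k < 44) : xm (rk k) (tk k) * xm (rk k) (tk k) = 1 := by
  apply mat_ext
  intro p hp
  rw [← isCode_mul (isCode_x hk) (isCode_x hk) (pow8_lt hp), check_xx k hk p hp, Matrix.one_mulVec]

/-- the root element `x_r(t)` as an invertible matrix -/
def gx (k : Fin 44) : GL J F8 :=
  ⟨xm (rk k) (tk k), xm (rk k) (tk k), xm_mul_self k.2, xm_mul_self k.2⟩

theorem isCode_gx (k : Fin 44) : IsCode (gx k : Matrix J J F8) (xc k) := isCode_x k.2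

theorem forall2_gx (w : List (Fin 44)) :
    List.Forall₂ (fun (g : GL J F8) c => IsCode (g : Matrix J J F8) c) (w.map gx) (w.map fun k => xc k.1) := by
  induction w with
  | nil => exact List.Forall₂.nil
  | cons i w ih => exact List.Forall₂.cons (isCode_gx i) ih

end Cfsg.Agent.TypeD4Two.Mat
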