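import Cfsg.Agent.TypeD4Two.ModelChk
import Cfsg.Prelude.Def_LieTwisted
import Cfsg.Agent.ChevalleyStructure.CommCheck

set_option autoImplicit false
set_option maxRecDepth 100000

/-! The model of the relations of `³D₄(2)` in `twistedD4 F8 2`. -/

namespace Cfsg.Agent.TypeD4Two.Model

open Cfsg.Lie Cfsg.Agent.TypeD4Two Cfsg.Agent.TypeD4Two.Code Cfsg.Agent.TypeD4Two.Mat
  Cfsg.Agent.TypeD4Two.ModelData Cfsg.Agent.TypeD4Two.Cert Cfsg.Agent.TypeD4Two.ModelChk
open Cfsg.Agent.SporadicRecognition.CosetCert Cfsg.Agent.SporadicRecognition.CosetCertHyp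
  Cfsg.Agent.SporadicRecognition.CosetChain

/-- the element of a letter -/
def el (x : ℕ) : GL J F8 := ((lw x).map gx).prod

theorem isCode_el {x : ℕ} (hx : x < 6) : IsCode (el x : Matrix J J F8) (lc x) :=
  isCode_prod (forall2_gx (lw x)) (chk_len x hx).1 (chk_len x hx).2 (chkL x hx)

theorem forall2_el (w : List ℕ) (hw : ∀ x ∈ w, x < 6) :
    List.Forall₂ (fun (g : GL J F8) c => IsCode (g : Matrix J J F8) c) (w.map el) (w.map lc) := by
  induction w with
  | nil => exact List.Forall₂.nil
  | cons i w ih =>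
    exact List.Forall₂.cons (isCode_el (hw i (by simp))) (ih fun x hx => hw x (by simp [hx]))

theorem el_inv {x : ℕ} (hx : x < 6) : inv x < 6 ∧ el x * el (inv x) = 1 := by
  have h6 : inv x < 6 := by interval_cases x <;> decide
  refine ⟨h6, ?_⟩
  have := prod_eq_of_check (gs := [el x, el (inv x)]) (gs' := []) (cs := [lc x, lc (inv x)]) (cs' := [])
    (List.Forall₂.cons (isCode_el hx) (List.Forall₂.cons (isCode_el h6) List.Forall₂.nil)) List.Forall₂.nil
    (fun p hp => by
      have := chkI x hx p hp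
      simpa [appL] using this)
  simpa using this

theorem ev_el_one (w : List ℕ) (hw : ∀ x ∈ w, x < 6)
    (h : ∀ p < 28, appL (w.map lc) (8 ^ p) = 8 ^ p) : ev el w = 1 := by
  have := prod_eq_of_check (gs := w.map el) (gs' := []) (cs := w.map lc) (cs' := [])
    (forall2_el w hw) List.Forall₂.nil (fun p hp => by
      rw [h p hp]; rfl)
  simpa [ev] using this

theorem rel_spec {x : Ex} (h : rel x = true) {p : ℕ} (hp : p < 28) :
    appL ((x.word inv).map lc) (8 ^ p) = 8 ^ p := by
  unfold rel at h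
  rw [List.all_eq_true] at h
  exact Nat.eq_of_beq_eq_true (h p (List.mem_range.mpr hp))

theorem val_of_ev {G : Type*} [Group G] {f : ℕ → G} (hi : ∀ x, x < 6 → inv x < 6 ∧ f x * f (inv x) = 1) {x : Ex}
    (hx : x.lt 6) (h : ev f (x.word inv) = 1) : x.val f = 1 := by
  rw [← h, Ex.ev_word hi x hx]

theorem el_inv' : ∀ x, x < 6 → inv x < 6 ∧ el x * el (inv x) = 1 := fun _ hx => el_inv hx

theorem word_lt' {x : Ex} (hx : x.lt 6) : ∀ y ∈ x.word inv, y < 6 :=
  Ex.word_lt (fun _ hy => (el_inv hy).1) x hx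

theorem val_el {x : Ex} (hx : ltb 6 x = true) (h : rel x = true) : x.val el = 1 :=
  val_of_ev el_inv' (lt_of_ltb hx) (ev_el_one _ (word_lt' (lt_of_ltb hx)) fun _ hp => rel_spec h hp)

theorem ex3_split : ex3 = exL ++ exC.drop 5 ++ exT.drop 10 ++ ex3.drop 15 := by rfl

theorem rel_ex3 : ∀ x ∈ ex3, rel x = true := by
  intro x hx
  rw [ex3_split] at hx
  simp only [List.mem_append] at hx
  rcases hx with ((hx | hx) | hx) | hx
  · exact List.all_eq_true.mp chkRL x hx
  · exact List.all_eq_true.mp chkRC x hx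
  · exact List.all_eq_true.mp chkRT x hx
  · exact List.all_eq_true.mp chkR3 x hx

theorem ltb_ex3 : (ex3.all fun x => ltb 6 x) = true := by decide +kernel

theorem el_val : ∀ x ∈ ex3, x.val el = 1 := fun x hx =>
  val_el (List.all_eq_true.mp ltb_ex3 x hx) (rel_ex3 x hx)

theorem el_one_eq : (el 0)⁻¹ = el 1 := inv_eq_of_mul_eq_one_right (el_inv (x := 0) (by norm_num)).2

/-- values of expressions, from the letters -/
theorem lt_el : ∀ x, x < 6 → lt (el 0) (el 2) (el 3) (el 4) (el 5) x = el x := by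
  intro x hx
  interval_cases x
  · rfl
  · exact el_one_eq
  · rfl
  · rfl
  · rfl
  · rfl

theorem val_congr {G : Type*} [Group G] {f g : ℕ → G} {k : ℕ} (h : ∀ x, x < k → f x = g x) :
    ∀ {x : Ex}, ltb k x = true → x.val f = x.val g
  | .g _, hx => h _ (Nat.le_of_ble_eq_true hx)
  | .m a b, hx => by
    have h' := Bool.and_eq_true_iff.mp hx
    change a.val f * b.val f = a.val g * b.val g
    rw [val_congr h h'.1, val_congr h h'.2]
  | .i a, hx => by
    change (a.val f)⁻¹ = (a.val g)⁻¹
    rw [val_congr h (x := a) hx]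
  | .p a n, hx => by
    change (a.val f) ^ n = (a.val g) ^ n
    rw [val_congr h (x := a) hx]

/-- relations from values -/
theorem relL_of_val {G : Type*} [Group G] {d e n a t : G} (he : e * e = 1) (hn : n * n = 1)
    (h : ∀ x ∈ exL, x.val (lt d e n a t) = 1) : RelL d e n where
  dd := h (exL[0]) (List.getElem_mem _)
  ee := he
  nn := hn
  l1 := h (exL[1]) (List.getElem_mem _)
  l2 := mul_inv_eq_one.mp (h (exL[2]) (List.getElem_mem _))
  nd := h (exL[3]) (List.getElem_mem _)
  ne := h (exL[4]) (List.getElem_mem _)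

theorem relC_of_val {G : Type*} [Group G] {d e n a t : G} (he : e * e = 1) (hn : n * n = 1) (ha : a * a = 1)
    (h : ∀ x ∈ exC, x.val (lt d e n a t) = 1) : RelC d e n a where
  toRelL := relL_of_val he hn fun x hx => h x (List.mem_append_left _ hx)
  aa := ha
  ad := mul_inv_eq_one.mp (h (exC[5]) (List.getElem_mem _))
  ae := mul_inv_eq_one.mp (h (exC[6]) (List.getElem_mem _))
  ab := h (exC[7]) (List.getElem_mem _)
  ze := mul_inv_eq_one.mp (h (exC[8]) (List.getElem_mem _))
  prod := mul_inv_eq_one.mp (h (exC[9]) (List.getElem_mem _))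

theorem relT_of_val {G : Type*} [Group G] {d e n a t : G} (he : e * e = 1) (hn : n * n = 1) (ha : a * a = 1)
    (ht : t * t = 1) (h : ∀ x ∈ exT, x.val (lt d e n a t) = 1) : RelT d e n a t where
  toRelC := relC_of_val he hn ha fun x hx => h x (List.mem_append_left _ hx)
  tt := ht
  td := mul_inv_eq_one.mp (h (exT[10]) (List.getElem_mem _))
  tz := mul_inv_eq_one.mp (h (exT[11]) (List.getElem_mem _))
  bt := h (exT[12]) (List.getElem_mem _)
  te := mul_inv_eq_one.mp (h (exT[13]) (List.getElem_mem _))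
  tc := mul_inv_eq_one.mp (h (exT[14]) (List.getElem_mem _))

theorem lt_val : ∀ x ∈ ex3, x.val (lt (el 0) (el 2) (el 3) (el 4) (el 5)) = 1 := fun x hx => by
  rw [val_congr lt_el (List.all_eq_true.mp ltb_ex3 x hx)]
  exact el_val x hx

/-- The relations hold in the model. -/
theorem model_rel : RelT (el 0) (el 2) (el 3) (el 4) (el 5) :=
  relT_of_val (el_inv (x := 2) (by norm_num)).2 (el_inv (x := 3) (by norm_num)).2 (el_inv (x := 4) (by norm_num)).2
    (el_inv (x := 5) (by norm_num)).2 fun x hx => lt_val x (List.mem_append_left _ hx)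

theorem model_cube : (el 5 * (el 3 * el 5 * el 3)) ^ 3 = 1 :=
  lt_val (ex3[15]) (List.getElem_mem _)

/-! ### the group generated -/

/-- the sixteen generators -/
def ug (j : ℕ) : GL J F8 := ((uw j).map gx).prod

theorem el_eq_ug (x : ℕ) : el x = ((W.getD x []).map ug).prod := by
  have key : ∀ l : List ℕ, ((l.flatMap uw).map gx).prod = (l.map ug).prod := by
    intro l
    induction l with
    | nil => rfl
    | cons j l ih => rw [List.flatMap_cons, List.map_append, List.prod_append, ih, List.map_cons, List.prod_cons]; rfl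
  exact key _

theorem ltV : ∀ j < 16, ∀ x ∈ V.getD j [], x < 6 := by decide +kernel

theorem ug_eq_ev {j : ℕ} (hj : j < 16) : ug j = ev el (V.getD j []) :=
  (prod_eq_of_check (forall2_el _ (ltV j hj)) (forall2_gx (uw j)) (fun p hp => chkV j hj p hp)).symm

/-- the subgroup generated by the letters -/
def Hm : Subgroup (GL J F8) := Subgroup.closure {el 0, el 2, el 3, el 4, el 5}

theorem el_mem {x : ℕ} (hx : x < 6) : el x ∈ Hm := by
  interval_cases x
  · exact Subgroup.subset_closure (by simp)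
  · rw [← el_one_eq]; exact Subgroup.inv_mem _ (Subgroup.subset_closure (by simp))
  · exact Subgroup.subset_closure (by simp)
  · exact Subgroup.subset_closure (by simp)
  · exact Subgroup.subset_closure (by simp)
  · exact Subgroup.subset_closure (by simp)

theorem ug_mem {j : ℕ} (hj : j < 16) : ug j ∈ Hm := by
  rw [ug_eq_ev hj]
  refine Subgroup.list_prod_mem _ ?_
  intro g hg
  obtain ⟨x, hx, rfl⟩ := List.mem_map.mp hg
  exact el_mem (ltV j hj x hx)

/-! ### words of `d4Words` -/

theorem x_eq (k : Fin 44) : chevD4.x F8 (rk k).val (tk k) = (gx k : Matrix J J F8) := by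
  have h : (rk k).val < chevD4.nroots := (rk k).2
  unfold ChevalleyDatum.x
  rw [dif_pos h]
  rfl

/-- the words of the sixteen generators -/
def wdl (w : List (Fin 44)) : List (ℕ × F8) := w.map fun k : Fin 44 => ((rk k.val).val, tk k.val)

theorem wordMat_eq (w : List (Fin 44)) :
    chevD4.wordMat F8 (wdl w) = (((w.map gx).prod : GL J F8) : Matrix J J F8) := by
  unfold ChevalleyDatum.wordMat wdl
  rw [List.map_map]
  induction w with
  | nil => rfl
  | cons k w ih =>
    rw [List.map_cons, List.prod_cons, List.map_cons, List.prod_cons, Units.val_mul, ih]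
    congr 1
    exact x_eq k


theorem mem_of_word {w : List (Fin 44)} (h : wdl w ∈ d4Words F8 2) : (w.map gx).prod ∈ twistedD4 F8 2 :=
  Subgroup.subset_closure ⟨wdl w, h, (wordMat_eq w).symm⟩

/-- the words of `d4Words` for the central node -/
theorem w_mid : ∀ t : F8, t ^ 2 = t → t = F8.ofN 0 ∨ t = F8.ofN 1 := by decide +kernel

theorem wdl_0 : wdl (uw 0) = [(14, F8.ofN 1)] := by rfl
theorem wdl_1 : wdl (uw 1) = [(9, F8.ofN 1)] := by rfl
theorem wdl_X : ∀ k < 7, wdl (uw (2 + k)) =
    [(18, F8.ofN (k + 1)), (13, F8.ofN (k + 1) ^ 2), (12, F8.ofN (k + 1) ^ (2 ^ 2))] := by decide +kernel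
theorem wdl_Y : ∀ k < 7, wdl (uw (9 + k)) =
    [(5, F8.ofN (k + 1)), (10, F8.ofN (k + 1) ^ 2), (11, F8.ofN (k + 1) ^ (2 ^ 2))] := by decide +kernel

theorem ug_mem_tw {j : ℕ} (hj : j < 16) : ug j ∈ twistedD4 F8 2 := by
  apply mem_of_word
  rcases lt_or_ge j 2 with h | h
  · interval_cases j
    · rw [wdl_0]; exact Or.inl ⟨F8.ofN 1, by decide +kernel, 14, by decide, rfl⟩
    · rw [wdl_1]; exact Or.inl ⟨F8.ofN 1, by decide +kernel, 9, by decide, rfl⟩
  rcases lt_or_ge j 9 with h9 | h9
  · have := wdl_X (j - 2) (by omega)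
    rw [show 2 + (j - 2) = j by omega] at this
    rw [this]
    exact Or.inr ⟨F8.ofN (j - 2 + 1), (18, 13, 12), by decide, rfl⟩
  · have := wdl_Y (j - 9) (by omega)
    rw [show 9 + (j - 9) = j by omega] at this
    rw [this]
    exact Or.inr ⟨F8.ofN (j - 9 + 1), (5, 10, 11), by decide, rfl⟩

theorem f8_cases : ∀ t : F8, t = F8.ofN 0 ∨ ∃ k, k < 7 ∧ t = F8.ofN (k + 1) := by decide +kernel


theorem ofN_zero : F8.ofN 0 = 0 := rfl

theorem gen_cases {g : GL J F8} (hg : ∃ w ∈ d4Words F8 2, (g : Matrix J J F8) = chevD4.wordMat F8 w) :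
    g = 1 ∨ ∃ j, j < 16 ∧ g = ug j := by
  obtain ⟨w, hw, hgw⟩ := hg
  rcases hw with ⟨t, ht, r, hr, rfl⟩ | ⟨t, rs, hrs, rfl⟩
  · rcases w_mid t ht with rfl | rfl
    · left
      apply Units.ext
      rw [hgw]
      exact ChevalleyStructure.CommCheck.wordMat_eq_one_of_zero chevD4 _ (by
        intro p hp
        rw [List.mem_singleton] at hp
        rw [hp]; rfl)
    · right
      rcases List.mem_cons.mp hr with rfl | hr
      · refine ⟨0, by norm_num, Units.ext ?_⟩
        rw [hgw]
        exact wordMat_eq (uw 0)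
      · rw [List.mem_singleton] at hr
        subst hr
        refine ⟨1, by norm_num, Units.ext ?_⟩
        rw [hgw]
        exact wordMat_eq (uw 1)
  · rcases f8_cases t with rfl | ⟨k, hk, rfl⟩
    · left
      apply Units.ext
      rw [hgw]
      exact ChevalleyStructure.CommCheck.wordMat_eq_one_of_zero chevD4 _ (by
        intro p hp
        simp only [List.mem_cons, List.not_mem_nil, or_false] at hp
        rcases hp with rfl | rfl | rfl
        · rfl
        · exact zero_pow (by norm_num)
        · exact zero_pow (by norm_num))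
    · right
      rcases List.mem_cons.mp hrs with rfl | hrs
      · refine ⟨2 + k, by omega, Units.ext ?_⟩
        rw [hgw]
        have h1 := wdl_X k hk
        exact (congrArg (chevD4.wordMat F8) h1.symm).trans (wordMat_eq (uw (2 + k)))
      · rw [List.mem_singleton] at hrs
        subst hrs
        refine ⟨9 + k, by omega, Units.ext ?_⟩
        rw [hgw]
        have h1 := wdl_Y k hk
        exact (congrArg (chevD4.wordMat F8) h1.symm).trans (wordMat_eq (uw (9 + k)))

/-- `³D₄(2)` with index type in normal form -/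
def Tw : Subgroup (GL J F8) :=
  Subgroup.closure {g : GL J F8 | ∃ w ∈ d4Words F8 2, (g : Matrix J J F8) = chevD4.wordMat F8 w}

/-- The identity `Tw ≃* twistedD4 F8 2`. -/
def twEquiv : Tw ≃* twistedD4 F8 2 := MulEquiv.refl (twistedD4 F8 2)

theorem ug_mem_Tw {j : ℕ} (hj : j < 16) : ug j ∈ Tw := ug_mem_tw hj

theorem h16 : ∀ x < 6, ∀ j ∈ W.getD x [], j < 16 := by decide +kernel

theorem el_mem_Tw {x : ℕ} (hx : x < 6) : el x ∈ Tw := by
  rw [el_eq_ug]
  refine Subgroup.list_prod_mem _ ?_
  intro g hg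
  obtain ⟨j, hj, rfl⟩ := List.mem_map.mp hg
  exact ug_mem_Tw (h16 x hx j hj)

/-- The letters generate `³D₄(2)`. -/
theorem Hm_eq : Hm = Tw := by
  apply le_antisymm
  · unfold Hm
    rw [Subgroup.closure_le]
    rintro _ (rfl | rfl | rfl | rfl | rfl)
    · exact el_mem_Tw (x := 0) (by norm_num)
    · exact el_mem_Tw (x := 2) (by norm_num)
    · exact el_mem_Tw (x := 3) (by norm_num)
    · exact el_mem_Tw (x := 4) (by norm_num)
    · exact el_mem_Tw (x := 5) (by norm_num)
  · unfold Tw
    rw [Subgroup.closure_le]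
    intro g hg
    rcases gen_cases hg with rfl | ⟨j, hj, rfl⟩
    · exact Subgroup.one_mem _
    · exact ug_mem hj

end Cfsg.Agent.TypeD4Two.Model
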