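import Cfsg.Agent.TypeD4Two.ModelData
import Cfsg.Agent.TypeD4Two.Cert

set_option autoImplicit false
set_option maxRecDepth 100000

/-! Kernel checks for the model of `³D₄(2)`. -/

namespace Cfsg.Agent.TypeD4Two.ModelChk

open Cfsg.Lie Cfsg.Agent.TypeD4Two Cfsg.Agent.TypeD4Two.Code Cfsg.Agent.TypeD4Two.Mat
  Cfsg.Agent.TypeD4Two.ModelData Cfsg.Agent.TypeD4Two.Cert
open Cfsg.Agent.SporadicRecognition.CosetCert Cfsg.Agent.SporadicRecognition.CosetCertHyp
  Cfsg.Agent.SporadicRecognition.CosetChain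

/-- code of a letter -/
def lc (x : ℕ) : List ℕ := LC.getD x []
/-- word of a generator -/
def uw (j : ℕ) : List (Fin 44) := U.getD j []
/-- word of a letter -/
def lw (x : ℕ) : List (Fin 44) := (W.getD x []).flatMap uw
/-- codes of a word -/
def cw (w : List (Fin 44)) : List (List ℕ) := w.map fun k => xc k.1

theorem chk_len : ∀ x < 6, (lc x).length = 84 ∧ ∀ c ∈ lc x, c < 2 ^ 84 := by decide +kernel

theorem chkL0 : ∀ j < 84, (lc 0).getD j 0 = appL (cw (lw 0)) (2 ^ j) := by decide +kernel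
theorem chkL1 : ∀ j < 84, (lc 1).getD j 0 = appL (cw (lw 1)) (2 ^ j) := by decide +kernel
theorem chkL2 : ∀ j < 84, (lc 2).getD j 0 = appL (cw (lw 2)) (2 ^ j) := by decide +kernel
theorem chkL3 : ∀ j < 84, (lc 3).getD j 0 = appL (cw (lw 3)) (2 ^ j) := by decide +kernel
theorem chkL4 : ∀ j < 84, (lc 4).getD j 0 = appL (cw (lw 4)) (2 ^ j) := by decide +kernel
theorem chkL5 : ∀ j < 84, (lc 5).getD j 0 = appL (cw (lw 5)) (2 ^ j) := by decide +kernel

theorem chkL : ∀ x < 6, ∀ j < 84, (lc x).getD j 0 = appL (cw (lw x)) (2 ^ j) := by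
  intro x hx
  interval_cases x
  · exact chkL0
  · exact chkL1
  · exact chkL2
  · exact chkL3
  · exact chkL4
  · exact chkL5

theorem chkV : ∀ j < 16, ∀ p < 28, appL ((V.getD j []).map lc) (8 ^ p) = appL (cw (uw j)) (8 ^ p) := by
  decide +kernel

theorem chkI : ∀ x < 6, ∀ p < 28, app (lc x) (app (lc (inv x)) (8 ^ p)) = 8 ^ p := by decide +kernel

/-- the check of a relator -/
def rel (x : Ex) : Bool := (List.range 28).all fun p => Nat.beq (appL ((x.word inv).map lc) (8 ^ p)) (8 ^ p)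

theorem chkRL : exL.all rel = true := by decide +kernel
theorem chkRC : (exC.drop 5).all rel = true := by decide +kernel
theorem chkRT : (exT.drop 10).all rel = true := by decide +kernel
theorem chkR3 : (ex3.drop 15).all rel = true := by decide +kernel

end Cfsg.Agent.TypeD4Two.ModelChk
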