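import Cfsg.Agent.TypeD4Two.NinePair

/-! merged into `NinePair` (helper186) -/
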