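import Cfsg.Agent.LargeExtra.Perp

/-!
# Nine pairwise non-orthogonal vectors: the action of `C_G(z)` on `Q/⟨z⟩` for `³D₄(2)` (helper186)

`Cfg b q H X D a`: `V` of order `2 ^ 8` with a nondegenerate alternating form `b`, `H ≤ GL(V)`, `X ≤ H`
elementary abelian fixing `a`, `D` totally singular, such that the orbit `O = H a` is pairwise
non-orthogonal. Then `|O| = 9`, `|X| = 8`, `|D| = 16`, `X` is regular on `O - {a}`.

* `fix_two`: an involution of `H` fixes at most one element of `O`; `mem_X_of_sq`: the involutions of `H` fixing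
  `a` lie in `X`; `mem_O_of_fixed`: an elementary abelian subgroup of order `≥ 8` of `H` fixes no vectors
  outside `O`; `fixed_X`: `C_V(X) = {0, a}`; `fixed_x`: `C_V(x) = [V, x]`;
* `uniq`: `D_i ∩ D_j = 0`; `exists_D`: the `D_i` cover the singular vectors; `exists_perp`.
-/

set_option autoImplicit false

namespace Cfsg.Agent.TypeD4Two.NineV

variable {V : Type*} [AddCommGroup V] [Module (ZMod 2) V]

structure Cfg (b : LinearMap.BilinForm (ZMod 2) V) (q : V → ZMod 2)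
    (H X : Subgroup (V ≃ₗ[ZMod 2] V)) (D : Submodule (ZMod 2) V) (a : V) : Prop where
  card : Nat.card V = 2 ^ 8
  nondeg : ∀ v, (∀ w, b v w = 0) → v = 0
  symm : ∀ v w, b v w = b w v
  self : ∀ v, b v v = 0
  isom : ∀ f ∈ H, ∀ v w, b (f v) (f w) = b v w
  q_add : ∀ v w, q (v + w) = q v + q w + b v w
  q_isom : ∀ f ∈ H, ∀ v, q (f v) = q v
  XH : X ≤ H
  Xa : ∀ f ∈ X, f a = a
  Xsq : ∀ f ∈ X, f * f = 1
  Xcomm : ∀ f ∈ X, ∀ g ∈ X, f * g = g * f
  Xnormal : ∀ f ∈ H, f a = a → ∀ g ∈ X, f * g * f⁻¹ ∈ X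
  XD : ∀ f ∈ X, ∀ v ∈ D, f v = v ∨ f v = v + a
  Dinv : ∀ f ∈ H, f a = a → ∀ v ∈ D, f v ∈ D
  exX : ∀ φ : V →ₗ[ZMod 2] ZMod 2, φ a = 0 → ∃ f ∈ X, ∀ v ∈ D, f v = v + φ v • a
  a_mem : a ∈ D
  a_ne : a ≠ 0
  D_iso : ∀ v ∈ D, ∀ w ∈ D, b v w = 0
  D_q : ∀ v ∈ D, q v = 0
  cardXD : Nat.card X * Nat.card D * 2 = Nat.card V
  nn : ∀ f ∈ H, b a (f a) = 0 → f a = a
  semi : ∀ f ∈ X, ∀ g ∈ H, g a ≠ a → f (g a) = g a → f = 1
  mv : ∃ f ∈ H, f a ≠ a

theorem zm (c : ZMod 2) : c = 0 ∨ c = 1 := by revert c; decide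

theorem zm_ne {c : ZMod 2} (h : c ≠ 0) : c = 1 := by revert c; decide

theorem add_self (v : V) : v + v = 0 := by
  have h : (2 : ZMod 2) • v = v + v := two_smul (ZMod 2) v
  have h2 : (2 : ZMod 2) = 0 := by decide
  rw [h2, zero_smul] at h
  exact h.symm

theorem eq_of_add {v w : V} (h : v + w = 0) : v = w := by
  have := add_self w
  calc v = v + (w + w) := by rw [this, add_zero]
    _ = (v + w) + w := by rw [add_assoc]
    _ = w := by rw [h, zero_add]

/-- a family of pairwise non-orthogonal vectors of even cardinality is independent -/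
theorem indep {b : LinearMap.BilinForm (ZMod 2) V} (hself : ∀ v, b v v = 0) {ι : Type*} [Fintype ι]
    (he : Even (Fintype.card ι)) (w : ι → V) (hw : ∀ i j, i ≠ j → b (w i) (w j) = 1) :
    LinearIndependent (ZMod 2) w := by
  classical
  rw [Fintype.linearIndependent_iff]
  intro c hc
  have key : ∀ j, c j = ∑ i, c i := by
    intro j
    have h1 : b (∑ i, c i • w i) (w j) = 0 := by rw [hc, map_zero, LinearMap.zero_apply]
    rw [map_sum, LinearMap.sum_apply] at h1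
    have h2 : ∀ i, (b (c i • w i)) (w j) = c i * (if i = j then 0 else 1) := by
      intro i
      rw [map_smul, LinearMap.smul_apply, smul_eq_mul]
      split_ifs with h3
      · rw [h3, hself]
      · rw [hw i j h3]
    simp only [h2] at h1
    have h3 : ∑ i, c i = c j + ∑ i, c i * (if i = j then 0 else 1) := by
      have h4 : ∀ i, c i = c i * (if i = j then 1 else 0) + c i * (if i = j then 0 else 1) := by
        intro i
        split_ifs <;> simp
      calc ∑ i, c i = ∑ i, (c i * (if i = j then 1 else 0) + c i * (if i = j then 0 else 1)) :=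
            Finset.sum_congr rfl fun i _ => h4 i
        _ = _ := by
            rw [Finset.sum_add_distrib]
            congr 1
            simp
    rw [h3, h1, add_zero]
  have h5 : ∑ i, c i = 0 := by
    have h6 : ∑ i, c i = ∑ _i : ι, (∑ i, c i) := Finset.sum_congr rfl fun i _ => key i
    rw [Finset.sum_const, Finset.card_univ] at h6
    obtain ⟨m, hm⟩ := he
    rw [hm, add_smul, add_self] at h6
    exact h6
  intro i
  rw [key i, h5]

namespace Cfg

variable {b : LinearMap.BilinForm (ZMod 2) V} {q : V → ZMod 2}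
  {H X : Subgroup (V ≃ₗ[ZMod 2] V)} {D : Submodule (ZMod 2) V} {a : V}

theorem finite (h : Cfg b q H X D a) : Finite V :=
  Nat.finite_of_card_ne_zero (by rw [h.card]; norm_num)

theorem finrank (h : Cfg b q H X D a) : Module.finrank (ZMod 2) V = 8 := by
  have := h.finite
  have : Module.Finite (ZMod 2) V := Module.Finite.of_finite
  have h1 := Module.natCard_eq_pow_finrank (K := ZMod 2) (V := V)
  rw [h.card, Nat.card_zmod] at h1
  exact (Nat.pow_right_injective (le_refl 2) h1).symm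

theorem nondegenerate (h : Cfg b q H X D a) : b.Nondegenerate := by
  refine ⟨fun v hv => h.nondeg v hv, fun v hv => h.nondeg v fun w => ?_⟩
  rw [h.symm]; exact hv w

theorem isRefl (h : Cfg b q H X D a) : b.IsRefl := fun v w hvw => by rw [h.symm]; exact hvw

theorem card_D_le (h : Cfg b q H X D a) : Nat.card D ≤ 16 := by
  have := h.finite
  have h1 := Cfsg.Agent.LargeExtra.Perp.card_orthogonal h.nondegenerate h.isRefl D
  have hle : D ≤ b.orthogonal D := fun v hv =>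
    LinearMap.BilinForm.mem_orthogonal_iff.2 fun w hw => h.D_iso w hw v hv
  have h2 : Nat.card D ≤ Nat.card (b.orthogonal D) :=
    Nat.card_le_card_of_injective _ (Submodule.inclusion_injective hle)
  have h3 : Nat.card D * Nat.card D ≤ 2 ^ 8 := by
    rw [← h.card, ← h1]; exact Nat.mul_le_mul_left _ h2
  by_contra hcon
  nlinarith

theorem card_X_ge (h : Cfg b q H X D a) : 8 ≤ Nat.card X := by
  have h1 := h.cardXD
  have h2 := h.card_D_le
  rw [h.card] at h1
  by_contra hcon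
  have h3 : Nat.card X ≤ 7 := by omega
  have : Nat.card X * Nat.card D * 2 ≤ 7 * 16 * 2 := by
    apply Nat.mul_le_mul_right
    exact Nat.mul_le_mul h3 h2
  omega

/-- the orbit -/
def O (H : Subgroup (V ≃ₗ[ZMod 2] V)) (a : V) : Set V := {v | ∃ f ∈ H, f a = v}

theorem a_mem_O : a ∈ O H a := ⟨1, H.one_mem, rfl⟩

theorem map_mem_O {f : V ≃ₗ[ZMod 2] V} (hf : f ∈ H) {v : V} (hv : v ∈ O H a) : f v ∈ O H a := by
  obtain ⟨g, hg, rfl⟩ := hv
  exact ⟨f * g, H.mul_mem hf hg, rfl⟩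

theorem b_O (h : Cfg b q H X D a) {v w : V} (hv : v ∈ O H a) (hw : w ∈ O H a) (hne : v ≠ w) :
    b v w = 1 := by
  obtain ⟨f, hf, rfl⟩ := hv
  obtain ⟨g, hg, rfl⟩ := hw
  apply zm_ne
  intro h1
  apply hne
  have h2 : b a ((f⁻¹ * g) a) = 0 := by
    rw [← h.isom f hf]
    have : f ((f⁻¹ * g) a) = g a := by
      show (f * (f⁻¹ * g)) a = g a
      rw [mul_inv_cancel_left]
    rw [this, h1]
  have h3 := h.nn _ (H.mul_mem (H.inv_mem hf) hg) h2
  have h4 : f ((f⁻¹ * g) a) = g a := by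
    show (f * (f⁻¹ * g)) a = g a
    rw [mul_inv_cancel_left]
  rw [h3] at h4
  exact h4

theorem card_O_le (h : Cfg b q H X D a) : (O H a).ncard ≤ 9 := by
  classical
  have := h.finite
  have hfin : (O H a).Finite := Set.toFinite _
  by_contra hcon
  push Not at hcon
  have h1 : 10 ≤ hfin.toFinset.card := by
    rw [← Set.ncard_eq_toFinset_card _ hfin]; omega
  obtain ⟨T, hT, hT10⟩ := Finset.exists_subset_card_eq h1
  have hTO : ∀ v ∈ T, v ∈ O H a := fun v hv => hfin.mem_toFinset.1 (hT hv)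
  have h2 : LinearIndependent (ZMod 2) (fun v : T => (v : V)) := by
    refine indep (b := b) h.self ?_ _ ?_
    · rw [Fintype.card_coe, hT10]; decide
    · intro v w hvw
      exact h.b_O (hTO v v.2) (hTO w w.2) fun h' => hvw (Subtype.ext h')
  have : Module.Finite (ZMod 2) V := Module.Finite.of_finite
  have h3 := h2.fintype_card_le_finrank
  rw [h.finrank, Fintype.card_coe, hT10] at h3
  omega

theorem inv_eq (h : Cfg b q H X D a) {f : V ≃ₗ[ZMod 2] V} (hf : f ∈ X) : f⁻¹ = f :=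
  inv_eq_of_mul_eq_one_left (h.Xsq f hf)

theorem semi' (h : Cfg b q H X D a) {f : V ≃ₗ[ZMod 2] V} (hf : f ∈ X) {w : V} (hw : w ∈ O H a)
    (hwa : w ≠ a) (hfw : f w = w) : f = 1 := by
  obtain ⟨g, hg, rfl⟩ := hw
  exact h.semi f hf g hg hwa hfw

theorem inj_X (h : Cfg b q H X D a) {w : V} (hw : w ∈ O H a) (hwa : w ≠ a) :
    Set.InjOn (fun f : V ≃ₗ[ZMod 2] V => f w) (X : Set (V ≃ₗ[ZMod 2] V)) := by
  intro f hf g hg hfg
  have h1 : f⁻¹ * g = 1 := by
    refine h.semi' (X.mul_mem (X.inv_mem hf) hg) hw hwa ?_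
    have h2 : f ((f⁻¹ * g) w) = f w := by
      show (f * (f⁻¹ * g)) w = f w
      rw [mul_inv_cancel_left]
      exact hfg.symm
    exact f.injective h2
  exact (inv_mul_eq_one.1 h1)

theorem image_subset (h : Cfg b q H X D a) {w : V} (hw : w ∈ O H a) (hwa : w ≠ a) :
    insert a ((fun f : V ≃ₗ[ZMod 2] V => f w) '' (X : Set (V ≃ₗ[ZMod 2] V))) ⊆ O H a := by
  rintro v (rfl | ⟨f, hf, rfl⟩)
  · exact a_mem_O
  · exact map_mem_O (h.XH hf) hw

theorem a_notMem (h : Cfg b q H X D a) {w : V} (hwa : w ≠ a) :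
    a ∉ (fun f : V ≃ₗ[ZMod 2] V => f w) '' (X : Set (V ≃ₗ[ZMod 2] V)) := by
  rintro ⟨f, hf, hfa⟩
  apply hwa
  have h1 := h.Xa f hf
  exact f.injective (hfa.trans h1.symm)

theorem exists_w (h : Cfg b q H X D a) : ∃ w ∈ O H a, w ≠ a := by
  obtain ⟨f, hf, hfa⟩ := h.mv
  exact ⟨f a, ⟨f, hf, rfl⟩, hfa⟩

theorem finiteX (h : Cfg b q H X D a) : Finite (V ≃ₗ[ZMod 2] V) := by
  have := h.finite
  exact Finite.of_injective (fun f : V ≃ₗ[ZMod 2] V => (f : V → V)) (fun f g hfg => by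
    ext v; exact congrFun hfg v)

theorem ncard_insert (h : Cfg b q H X D a) {w : V} (hw : w ∈ O H a) (hwa : w ≠ a) :
    (insert a ((fun f : V ≃ₗ[ZMod 2] V => f w) '' (X : Set (V ≃ₗ[ZMod 2] V)))).ncard
      = Nat.card X + 1 := by
  have := h.finite
  have := h.finiteX
  rw [Set.ncard_insert_of_notMem (h.a_notMem hwa), Set.ncard_image_of_injOn (h.inj_X hw hwa)]
  rfl

theorem card_O (h : Cfg b q H X D a) : (O H a).ncard = 9 := by
  have := h.finite
  obtain ⟨w, hw, hwa⟩ := h.exists_w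
  have h1 := Set.ncard_le_ncard (h.image_subset hw hwa) (Set.toFinite _)
  rw [h.ncard_insert hw hwa] at h1
  have h2 := h.card_O_le
  have h3 := h.card_X_ge
  omega

theorem card_X (h : Cfg b q H X D a) : Nat.card X = 8 := by
  have := h.finite
  obtain ⟨w, hw, hwa⟩ := h.exists_w
  have h1 := Set.ncard_le_ncard (h.image_subset hw hwa) (Set.toFinite _)
  rw [h.ncard_insert hw hwa] at h1
  have h2 := h.card_O_le
  have h3 := h.card_X_ge
  omega

theorem card_D (h : Cfg b q H X D a) : Nat.card D = 16 := by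
  have h1 := h.cardXD
  rw [h.card_X, h.card] at h1
  omega

/-- `X` is transitive on `O - {a}` -/
theorem exists_X (h : Cfg b q H X D a) {v w : V} (hv : v ∈ O H a) (hva : v ≠ a) (hw : w ∈ O H a)
    (hwa : w ≠ a) : ∃ f ∈ X, f w = v := by
  have := h.finite
  have h1 := Set.eq_of_subset_of_ncard_le (h.image_subset hw hwa)
    (by rw [h.ncard_insert hw hwa, h.card_O, h.card_X]) (Set.toFinite _)
  rw [← h1] at hv
  rcases hv with h2 | ⟨f, hf, h2⟩
  · exact absurd h2 hva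
  · exact ⟨f, hf, h2⟩

/-- the coordinates -/
theorem span_X (h : Cfg b q H X D a) {w : V} (hw : w ∈ O H a) (hwa : w ≠ a) :
    Submodule.span (ZMod 2) (Set.range (fun f : X => (f : V ≃ₗ[ZMod 2] V) w)) = ⊤ := by
  classical
  have := h.finite
  have := h.finiteX
  have : Module.Finite (ZMod 2) V := Module.Finite.of_finite
  have : Fintype X := Fintype.ofFinite X
  have hc : Fintype.card X = 8 := by rw [← Nat.card_eq_fintype_card, h.card_X]
  have h1 : LinearIndependent (ZMod 2) (fun f : X => (f : V ≃ₗ[ZMod 2] V) w) := by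
    refine indep (b := b) h.self (by rw [hc]; decide) _ ?_
    intro f g hfg
    refine h.b_O (map_mem_O (h.XH f.2) hw) (map_mem_O (h.XH g.2) hw) fun h' => hfg ?_
    exact Subtype.ext (h.inj_X hw hwa f.2 g.2 h')
  exact h1.span_eq_top_of_card_eq_finrank' (by rw [hc, h.finrank])

theorem eq_zero_of_perp (h : Cfg b q H X D a) {w : V} (hw : w ∈ O H a) (hwa : w ≠ a) {v : V}
    (hv : ∀ f ∈ X, b v (f w) = 0) : v = 0 := by
  apply h.nondeg
  intro u
  have hu : u ∈ Submodule.span (ZMod 2) (Set.range (fun f : X => (f : V ≃ₗ[ZMod 2] V) w)) := by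
    rw [h.span_X hw hwa]; trivial
  refine Submodule.span_induction ?_ ?_ ?_ ?_ hu
  · rintro _ ⟨f, rfl⟩
    exact hv f f.2
  · rw [map_zero]
  · intro x y _ _ hx hy
    rw [map_add, hx, hy, add_zero]
  · intro c x _ hx
    rw [map_smul, hx, smul_zero]

theorem eq_of_perp (h : Cfg b q H X D a) {w : V} (hw : w ∈ O H a) (hwa : w ≠ a) {u v : V}
    (hv : ∀ f ∈ X, b u (f w) = b v (f w)) : u = v := by
  apply eq_of_add
  refine h.eq_zero_of_perp hw hwa fun f hf => ?_
  rw [map_add, LinearMap.add_apply, hv f hf, add_self]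

/-- every function on `X` is `f ↦ b v (f w)` for some `v` -/
theorem exists_coord (h : Cfg b q H X D a) {w : V} (hw : w ∈ O H a) (hwa : w ≠ a)
    (g : X → ZMod 2) : ∃ v, ∀ f : X, b v ((f : V ≃ₗ[ZMod 2] V) w) = g f := by
  classical
  have := h.finite
  have := h.finiteX
  let Φ : V → (X → ZMod 2) := fun v f => b v ((f : V ≃ₗ[ZMod 2] V) w)
  have hinj : Function.Injective Φ := by
    intro u v huv
    exact h.eq_of_perp hw hwa fun f hf => congrFun huv ⟨f, hf⟩
  have hcard : Nat.card V = Nat.card (X → ZMod 2) := by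
    rw [Nat.card_fun, h.card, h.card_X, Nat.card_zmod]
  have hsurj : Function.Surjective Φ :=
    ((Nat.bijective_iff_injective_and_card Φ).2 ⟨hinj, hcard⟩).2
  obtain ⟨v, hv⟩ := hsurj g
  exact ⟨v, fun f => congrFun hv f⟩

/-- `C_V(X) = {0, a}` -/
theorem fixed_X (h : Cfg b q H X D a) {v : V} (hv : ∀ f ∈ X, f v = v) : v = 0 ∨ v = a := by
  obtain ⟨w, hw, hwa⟩ := h.exists_w
  have h1 : ∀ f ∈ X, b v (f w) = b v w := fun f hf => by
    have h2 := h.isom f (h.XH hf) v w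
    rw [hv f hf] at h2
    exact h2
  rcases zm (b v w) with h2 | h2
  · left
    exact h.eq_zero_of_perp hw hwa fun f hf => by rw [h1 f hf, h2]
  · right
    refine h.eq_of_perp hw hwa fun f hf => ?_
    rw [h1 f hf, h2, h.b_O a_mem_O (map_mem_O (h.XH hf) hw)]
    intro h3
    exact h.a_notMem hwa ⟨f, hf, h3.symm⟩

/-- `C_V(x) = [V, x]` -/
theorem fixed_x (h : Cfg b q H X D a) {x : V ≃ₗ[ZMod 2] V} (hx : x ∈ X) (hx1 : x ≠ 1) {v : V}
    (hv : x v = v) : ∃ u, v = u + x u := by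
  classical
  have := h.finite
  have := h.finiteX
  obtain ⟨w, hw, hwa⟩ := h.exists_w
  obtain ⟨n, ⟨e⟩⟩ := Finite.exists_equiv_fin X
  let x' : X := ⟨x, hx⟩
  have hxx : x' * x' = 1 := Subtype.ext (h.Xsq x hx)
  have hne : ∀ y : X, e y ≠ e (x' * y) := by
    intro y hy
    apply hx1
    have := e.injective hy
    have h1 : x' = 1 := (mul_eq_right.1 this.symm)
    exact congrArg Subtype.val h1
  let χ : X → ZMod 2 := fun y => if e y < e (x' * y) then 1 else 0
  have hχ : ∀ y, χ y + χ (x' * y) = 1 := by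
    intro y
    have h1 : x' * (x' * y) = y := by rw [← mul_assoc, hxx, one_mul]
    simp only [χ, h1]
    rcases lt_or_gt_of_ne (hne y) with h2 | h2
    · rw [if_pos h2, if_neg (not_lt_of_gt h2)]; decide
    · rw [if_neg (not_lt_of_gt h2), if_pos h2]; decide
  obtain ⟨u, hu⟩ := h.exists_coord hw hwa (fun y => b v ((y : V ≃ₗ[ZMod 2] V) w) * χ y)
  refine ⟨u, h.eq_of_perp hw hwa fun f hf => ?_⟩
  have hb : ∀ y : V ≃ₗ[ZMod 2] V, ∀ t, b (x t) (y w) = b t ((x * y) w) := by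
    intro y t
    have h2 := h.isom x (h.XH hx) t ((x * y) w)
    have h3 : x ((x * y) w) = y w := by
      show (x * (x * y)) w = y w
      rw [← mul_assoc, h.Xsq x hx, one_mul]
    rw [h3] at h2
    exact h2
  have h4 := hu ⟨f, hf⟩
  have h5 := hu (x' * ⟨f, hf⟩)
  have h6 : b v (((x' * ⟨f, hf⟩ : X) : V ≃ₗ[ZMod 2] V) w) = b v (f w) := by
    have h7 := hb f v
    rw [hv] at h7
    exact h7.symm
  rw [map_add, LinearMap.add_apply, hb f u]
  show b v (f w) = b u (f w) + b u ((x * f) w)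
  have h8 : b u ((x * f) w) = b v (f w) * χ (x' * ⟨f, hf⟩) := by
    rw [← h6]; exact h5
  rw [h8, h4, ← mul_add, hχ, mul_one]

end Cfg

/-! ## Fixed points -/

namespace Cfg

variable {b : LinearMap.BilinForm (ZMod 2) V} {q : V → ZMod 2}
  {H X : Subgroup (V ≃ₗ[ZMod 2] V)} {D : Submodule (ZMod 2) V} {a : V}

/-- fixed elements of the orbit -/
def Fx (H : Subgroup (V ≃ₗ[ZMod 2] V)) (a : V) (s : V ≃ₗ[ZMod 2] V) : Set V :=
  {v | v ∈ O H a ∧ s v = v}

/-- the elements of `X` commuting with `s` -/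
def CX (X : Subgroup (V ≃ₗ[ZMod 2] V)) (s : V ≃ₗ[ZMod 2] V) : Subgroup (V ≃ₗ[ZMod 2] V) :=
  X ⊓ Subgroup.centralizer {s}

theorem mem_CX {s f : V ≃ₗ[ZMod 2] V} : f ∈ CX X s ↔ f ∈ X ∧ f * s = s * f := by
  rw [CX, Subgroup.mem_inf, Subgroup.mem_centralizer_singleton_iff]

theorem comm_of (h : Cfg b q H X D a) {s f : V ≃ₗ[ZMod 2] V} (hs : s ∈ H) (hsa : s a = a)
    (hf : f ∈ X) {w : V} (hw : w ∈ O H a) (hwa : w ≠ a) (hsw : s w = w) (hfw : s (f w) = f w) :
    f * s = s * f := by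
  have h1 := h.Xnormal s hs hsa f hf
  have h2 : s⁻¹ w = w := by
    have : s⁻¹ (s w) = w := by
      show (s⁻¹ * s) w = w
      rw [inv_mul_cancel]; rfl
    rwa [hsw] at this
  have h3 : (s * f * s⁻¹) w = f w := by
    show s (f (s⁻¹ w)) = f w
    rw [h2, hfw]
  have h4 : s * f * s⁻¹ = f := h.inj_X hw hwa h1 hf h3
  exact (mul_inv_eq_iff_eq_mul.1 h4).symm

theorem Fx_eq (h : Cfg b q H X D a) {s : V ≃ₗ[ZMod 2] V} (hs : s ∈ H) (hsa : s a = a)
    {w : V} (hw : w ∈ O H a) (hwa : w ≠ a) (hsw : s w = w) :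
    Fx H a s = insert a ((fun f : V ≃ₗ[ZMod 2] V => f w) '' (CX X s : Set (V ≃ₗ[ZMod 2] V))) := by
  ext v
  constructor
  · rintro ⟨hv, hsv⟩
    by_cases hva : v = a
    · exact Or.inl hva
    · right
      obtain ⟨f, hf, rfl⟩ := h.exists_X hv hva hw hwa
      exact ⟨f, mem_CX.2 ⟨hf, h.comm_of hs hsa hf hw hwa hsw hsv⟩, rfl⟩
  · rintro (rfl | ⟨f, hf, rfl⟩)
    · exact ⟨a_mem_O, hsa⟩
    · obtain ⟨hfX, hfs⟩ := mem_CX.1 hf
      refine ⟨map_mem_O (h.XH hfX) hw, ?_⟩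
      show (s * f) w = f w
      rw [← hfs]
      show f (s w) = f w
      rw [hsw]

theorem card_Fx (h : Cfg b q H X D a) {s : V ≃ₗ[ZMod 2] V} (hs : s ∈ H) (hsa : s a = a)
    {w : V} (hw : w ∈ O H a) (hwa : w ≠ a) (hsw : s w = w) :
    (Fx H a s).ncard = Nat.card (CX X s) + 1 := by
  have := h.finite
  have := h.finiteX
  have hle : (CX X s : Set (V ≃ₗ[ZMod 2] V)) ⊆ X := fun f hf => (mem_CX.1 hf).1
  rw [h.Fx_eq hs hsa hw hwa hsw, Set.ncard_insert_of_notMem,
    Set.InjOn.ncard_image ((h.inj_X hw hwa).mono hle)]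
  · rfl
  · intro h1
    exact h.a_notMem hwa (Set.image_mono hle h1)

theorem card_CX_dvd (h : Cfg b q H X D a) (s : V ≃ₗ[ZMod 2] V) : Nat.card (CX X s) ∣ 8 := by
  rw [← h.card_X]
  exact Subgroup.card_dvd_of_le (inf_le_left)

theorem modcount (h : Cfg b q H X D a) {p : ℕ} (hp : p.Prime) {s : V ≃ₗ[ZMod 2] V} (hs : s ∈ H)
    (hsp : s ^ p = 1) : 9 ≡ (Fx H a s).ncard [MOD p] := by
  classical
  have := h.finite
  have : Fact p.Prime := ⟨hp⟩
  have : Fintype (O H a) := Fintype.ofFinite _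
  let f : Function.End (O H a) := fun v => ⟨s v, map_mem_O hs v.2⟩
  have hfn : ∀ (n : ℕ) (v : O H a), (((f ^ n) v : O H a) : V) = (s ^ n) v := by
    intro n
    induction n with
    | zero => intro v; rfl
    | succ n ih =>
      intro v
      rw [pow_succ, pow_succ]
      show (((f ^ n) (f v) : O H a) : V) = (s ^ n) (s v)
      rw [ih]
  have hf : f ^ p ^ 1 = 1 := by
    funext v
    apply Subtype.ext
    rw [hfn, pow_one, hsp]
    rfl
  have h1 := Equiv.Perm.card_fixedPoints_modEq (p := p) (n := 1) hf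
  have h2 : Fintype.card (O H a) = 9 := by
    rw [← Nat.card_eq_fintype_card]; exact h.card_O
  rw [h2] at h1
  have h3 : Fintype.card (Function.fixedPoints f) = (Fx H a s).ncard := by
    rw [← Nat.card_eq_fintype_card, ← Nat.card_coe_set_eq]
    apply Nat.card_congr
    refine ⟨fun v => ⟨v.1, v.1.2, congrArg Subtype.val v.2⟩, fun v => ⟨⟨v.1, v.2.1⟩, Subtype.ext v.2.2⟩,
      fun v => rfl, fun v => rfl⟩
  rw [h3] at h1
  exact h1

theorem eq_one_of_fix (h : Cfg b q H X D a) {w : V} (hw : w ∈ O H a) (hwa : w ≠ a)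
    {s : V ≃ₗ[ZMod 2] V} (hs : ∀ f ∈ X, s (f w) = f w) : s = 1 := by
  ext v
  have hv : v ∈ Submodule.span (ZMod 2) (Set.range (fun f : X => (f : V ≃ₗ[ZMod 2] V) w)) := by
    rw [h.span_X hw hwa]; trivial
  show s v = v
  refine Submodule.span_induction ?_ ?_ ?_ ?_ hv
  · rintro _ ⟨f, rfl⟩
    exact hs f f.2
  · rw [map_zero]
  · intro x y _ _ hx hy
    rw [map_add, hx, hy]
  · intro c x _ hx
    rw [map_smul, hx]

theorem conj_a (g s : V ≃ₗ[ZMod 2] V) {i : V} (hi : g a = i) (hsi : s i = i) :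
    (g⁻¹ * s * g) a = a := by
  show g⁻¹ (s (g a)) = a
  rw [hi, hsi, ← hi]
  show (g⁻¹ * g) a = a
  rw [inv_mul_cancel]; rfl

theorem inv_apply_apply (g : V ≃ₗ[ZMod 2] V) (v : V) : g⁻¹ (g v) = v := by
  show (g⁻¹ * g) v = v
  rw [inv_mul_cancel]; rfl

theorem apply_inv_apply (g : V ≃ₗ[ZMod 2] V) (v : V) : g (g⁻¹ v) = v := by
  show (g * g⁻¹) v = v
  rw [mul_inv_cancel]; rfl

/-- transport of two fixed points to `a` and `w` -/
theorem transport {g s : V ≃ₗ[ZMod 2] V} (hg : g ∈ H) (hs : s ∈ H) {i j : V}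
    (hi : g a = i) (hj : j ∈ O H a) (hij : i ≠ j) (hsi : s i = i) (hsj : s j = j) :
    g⁻¹ * s * g ∈ H ∧ (g⁻¹ * s * g) a = a ∧ g⁻¹ j ∈ O H a ∧ g⁻¹ j ≠ a ∧
      (g⁻¹ * s * g) (g⁻¹ j) = g⁻¹ j := by
  refine ⟨H.mul_mem (H.mul_mem (H.inv_mem hg) hs) hg, conj_a g s hi hsi,
    map_mem_O (H.inv_mem hg) hj, fun h1 => hij ?_, ?_⟩
  · rw [← hi, ← h1, apply_inv_apply]
  · show g⁻¹ (s (g (g⁻¹ j))) = g⁻¹ j
    rw [apply_inv_apply, hsj]

theorem mul_zpow_self_aux {M : Type*} [Group M] (y : M) (n : ℤ) : (y * y) ^ n = y ^ n * y ^ n := by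
  rw [← zpow_two, ← zpow_mul, mul_comm, zpow_mul, zpow_two]

theorem conj_eq_one {g s : V ≃ₗ[ZMod 2] V} (h1 : g⁻¹ * s * g = 1) : s = 1 := by
  calc s = g * (g⁻¹ * s * g) * g⁻¹ := by group
    _ = 1 := by rw [h1]; group

theorem conj_pow' (g s : V ≃ₗ[ZMod 2] V) (n : ℕ) : (g⁻¹ * s * g) ^ n = g⁻¹ * s ^ n * g := by
  have h1 := conj_pow (i := n) (a := g⁻¹) (b := s)
  rw [inv_inv] at h1
  exact h1

theorem eq_one_of_pow_five (h : Cfg b q H X D a) {s : V ≃ₗ[ZMod 2] V} (hs : s ∈ H)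
    (h5 : s ^ 5 = 1) : s = 1 := by
  have := h.finite
  have := h.finiteX
  have h1 := h.modcount (by norm_num) hs h5
  have h2 : 1 < (Fx H a s).ncard := by
    by_contra hcon
    unfold Nat.ModEq at h1
    omega
  obtain ⟨i, hi, j, hj, hij⟩ := (Set.one_lt_ncard (Set.toFinite _)).1 h2
  obtain ⟨⟨g, hg, hga⟩, hsi⟩ := hi
  obtain ⟨t1, t2, t3, t4, t5⟩ := transport hg hs hga hj.1 hij hsi hj.2
  have h3 := h.modcount (p := 5) (by norm_num) t1 (by rw [conj_pow', h5]; group)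
  rw [h.card_Fx t1 t2 t3 t4 t5] at h3
  have h4 := h.card_CX_dvd (g⁻¹ * s * g)
  have h6 : Nat.card (CX X (g⁻¹ * s * g)) = 8 := by
    have h7 := Nat.le_of_dvd (by norm_num) h4
    revert h3 h4
    generalize Nat.card (CX X (g⁻¹ * s * g)) = c at h7 ⊢
    intro h3 h4
    unfold Nat.ModEq at h3
    interval_cases c <;> first | omega | (exfalso; revert h4; decide) | (exfalso; revert h3; decide)
  apply conj_eq_one (g := g)
  refine h.eq_one_of_fix t3 t4 fun f hf => ?_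
  have h7 : CX X (g⁻¹ * s * g) = X :=
    Subgroup.eq_of_le_of_card_ge inf_le_left (by rw [h6, h.card_X])
  have h8 : f ∈ CX X (g⁻¹ * s * g) := by rw [h7]; exact hf
  have h9 := (mem_CX.1 h8).2
  show ((g⁻¹ * s * g) * f) (g⁻¹ j) = f (g⁻¹ j)
  rw [← h9]
  show f ((g⁻¹ * s * g) (g⁻¹ j)) = f (g⁻¹ j)
  rw [t5]

theorem not_five (h : Cfg b q H X D a) : ¬ 5 ∣ Nat.card H := by
  intro h5
  have := h.finiteX
  have : Fact (Nat.Prime 5) := ⟨by norm_num⟩
  obtain ⟨s, hs⟩ := exists_prime_orderOf_dvd_card' 5 h5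
  have h1 : (s : V ≃ₗ[ZMod 2] V) = 1 := by
    refine h.eq_one_of_pow_five s.2 ?_
    have := pow_orderOf_eq_one s
    rw [hs] at this
    exact congrArg Subtype.val this
  have h2 : s = 1 := Subtype.ext h1
  rw [h2, orderOf_one] at hs
  exact absurd hs (by norm_num)

/-- no subgroup of `H` has an orbit of length five -/
theorem no_orbit_five (h : Cfg b q H X D a) {K : Subgroup (V ≃ₗ[ZMod 2] V)} (hK : K ≤ H) {S : Set V}
    {v : V} (hv : v ∈ S) (hS : ∀ k ∈ K, ∀ u ∈ S, k u ∈ S) (htr : ∀ u ∈ S, ∃ k ∈ K, k v = u) :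
    S.ncard ≠ 5 := by
  intro h5
  have := h.finite
  have := h.finiteX
  have h1 : MulAction.orbit K v = S := by
    ext u
    constructor
    · rintro ⟨k, rfl⟩
      exact hS k k.2 v hv
    · intro hu
      obtain ⟨k, hk, rfl⟩ := htr u hu
      exact ⟨⟨k, hk⟩, rfl⟩
  have h2 : (MulAction.orbit K v).ncard ∣ Nat.card K := by
    rw [← MulAction.index_stabilizer]
    exact Subgroup.index_dvd_card _
  rw [h1] at h2
  apply h.not_five
  rw [h5] at h2
  exact h2.trans (Subgroup.card_dvd_of_le hK)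

/-- `x ↦ x · y x y⁻¹` -/
theorem card_CX_sq (h : Cfg b q H X D a) {y : V ≃ₗ[ZMod 2] V} (hy : y ∈ H) (hyy : y * y = 1)
    (hya : y a = a) : 8 ≤ Nat.card (CX X y) * Nat.card (CX X y) := by
  have := h.finite
  have := h.finiteX
  let τ : X →* X :=
    { toFun := fun x => x * ⟨y * x * y⁻¹, h.Xnormal y hy hya x x.2⟩
      map_one' := by
        apply Subtype.ext
        show (1 : V ≃ₗ[ZMod 2] V) * (y * 1 * y⁻¹) = 1
        group
      map_mul' := by
        intro u v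
        apply Subtype.ext
        show (u : V ≃ₗ[ZMod 2] V) * v * (y * (u * v) * y⁻¹) = u * (y * u * y⁻¹) * (v * (y * v * y⁻¹))
        have h1 := h.Xcomm _ (h.Xnormal y hy hya u u.2) v v.2
        calc (u : V ≃ₗ[ZMod 2] V) * v * (y * (u * v) * y⁻¹)
            = u * (v * (y * u * y⁻¹)) * (y * v * y⁻¹) := by group
          _ = u * ((y * u * y⁻¹) * v) * (y * v * y⁻¹) := by rw [h1]
          _ = _ := by group }
  have hk : Nat.card τ.ker ≤ Nat.card (CX X y) := by
    refine Nat.card_le_card_of_injective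
      (fun x : τ.ker => (⟨(x : X), mem_CX.2 ⟨(x : X).2, ?_⟩⟩ : CX X y)) ?_
    · have h1 : ((x : X) : V ≃ₗ[ZMod 2] V) * (y * (x : X) * y⁻¹) = 1 :=
        congrArg Subtype.val (MonoidHom.mem_ker.1 x.2)
      have h2 := eq_inv_of_mul_eq_one_right h1
      rw [h.inv_eq (x : X).2] at h2
      exact (mul_inv_eq_iff_eq_mul.1 h2).symm
    · intro u v huv
      apply Subtype.ext
      apply Subtype.ext
      exact congrArg (fun t : CX X y => (t : V ≃ₗ[ZMod 2] V)) huv
  have hr : Nat.card τ.range ≤ Nat.card (CX X y) := by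
    refine Nat.card_le_card_of_injective
      (fun x : τ.range => (⟨(x : X), mem_CX.2 ⟨(x : X).2, ?_⟩⟩ : CX X y)) ?_
    · obtain ⟨x, ⟨u, hu⟩⟩ := x
      have hx : (x : V ≃ₗ[ZMod 2] V) = u * (y * u * y⁻¹) := congrArg Subtype.val hu.symm
      show (x : V ≃ₗ[ZMod 2] V) * y = y * x
      rw [hx]
      have hyi : y⁻¹ = y := inv_eq_of_mul_eq_one_left hyy
      have h1 := h.Xcomm _ (h.Xnormal y hy hya u u.2) u u.2
      calc (u : V ≃ₗ[ZMod 2] V) * (y * u * y⁻¹) * y = ((y * u * y⁻¹) * u) * y := by rw [h1]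
        _ = y * (u * (y⁻¹ * u * y)) := by group
        _ = y * (u * (y * u * y⁻¹)) := by rw [hyi]
    · intro u v huv
      apply Subtype.ext
      apply Subtype.ext
      exact congrArg (fun t : CX X y => (t : V ≃ₗ[ZMod 2] V)) huv
  have h1 := Subgroup.card_eq_card_quotient_mul_card_subgroup τ.ker
  have h2 : Nat.card (X ⧸ τ.ker) = Nat.card τ.range :=
    Nat.card_congr (QuotientGroup.quotientKerEquivRange τ).toEquiv
  rw [h2, h.card_X] at h1
  rw [h1]
  exact Nat.mul_le_mul hr hk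

theorem fix_two_a (h : Cfg b q H X D a) {y : V ≃ₗ[ZMod 2] V} (hy : y ∈ H) (hyy : y * y = 1)
    (hya : y a = a) {w : V} (hw : w ∈ O H a) (hwa : w ≠ a) (hyw : y w = w) : y = 1 := by
  classical
  have := h.finite
  have := h.finiteX
  have h1 := h.modcount (p := 2) (by norm_num) hy (by rw [pow_two]; exact hyy)
  rw [h.card_Fx hy hya hw hwa hyw] at h1
  have h2 := h.card_CX_dvd y
  have h3 := h.card_CX_sq hy hyy hya
  have h4 : Nat.card (CX X y) = 4 ∨ Nat.card (CX X y) = 8 := by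
    have h7 := Nat.le_of_dvd (by norm_num) h2
    revert h1 h2 h3
    generalize Nat.card (CX X y) = c at h7 ⊢
    intro h1 h2 h3
    unfold Nat.ModEq at h1
    interval_cases c <;> first | omega | (exfalso; revert h2; decide)
  rcases h4 with h4 | h4
  · exfalso
    have hF5 : (Fx H a y).ncard = 5 := by rw [h.card_Fx hy hya hw hwa hyw, h4]
    refine h.no_orbit_five (K := H ⊓ Subgroup.centralizer {y}) inf_le_left (S := Fx H a y)
      (v := a) ⟨a_mem_O, hya⟩ ?_ ?_ hF5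
    · intro k hk u hu
      obtain ⟨hkH, hky⟩ := Subgroup.mem_inf.1 hk
      rw [Subgroup.mem_centralizer_singleton_iff] at hky
      refine ⟨map_mem_O hkH hu.1, ?_⟩
      show (y * k) u = k u
      rw [← hky]
      show k (y u) = k u
      rw [hu.2]
    · intro v hv
      by_cases hva : v = a
      · exact ⟨1, Subgroup.one_mem _, hva.symm⟩
      -- a third point
      obtain ⟨u, hu, hua, huv⟩ : ∃ u ∈ Fx H a y, u ≠ a ∧ u ≠ v := by
        by_contra hcon
        push Not at hcon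
        have hsub : Fx H a y ⊆ {a, v} := by
          intro u hu
          by_cases hua : u = a
          · exact Or.inl hua
          · exact Or.inr (hcon u hu hua)
        have := Set.ncard_le_ncard hsub (Set.toFinite _)
        have h8 := Set.ncard_insert_le a {v}
        rw [Set.ncard_singleton] at h8
        omega
      obtain ⟨⟨g, hg, hga⟩, hyu⟩ := hu
      obtain ⟨t1, t2, t3, t4, t5⟩ := transport hg hy hga a_mem_O hua hyu hya
      obtain ⟨-, -, s3, s4, s5⟩ := transport hg hy hga hv.1 huv hyu hv.2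
      obtain ⟨f, hf, hfe⟩ := h.exists_X s3 s4 t3 t4
      have hc := h.comm_of t1 t2 hf t3 t4 t5 (by rw [hfe]; exact s5)
      refine ⟨g * f * g⁻¹, Subgroup.mem_inf.2 ⟨H.mul_mem (H.mul_mem hg (h.XH hf)) (H.inv_mem hg), ?_⟩,
        ?_⟩
      · rw [Subgroup.mem_centralizer_singleton_iff]
        calc g * f * g⁻¹ * y = g * (f * (g⁻¹ * y * g)) * g⁻¹ := by group
          _ = g * ((g⁻¹ * y * g) * f) * g⁻¹ := by rw [hc]
          _ = y * (g * f * g⁻¹) := by group
      · show g (f (g⁻¹ a)) = v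
        rw [hfe, apply_inv_apply]
  · refine h.eq_one_of_fix hw hwa fun f hf => ?_
    have h7 : CX X y = X :=
      Subgroup.eq_of_le_of_card_ge inf_le_left (by rw [h4, h.card_X])
    have h8 : f ∈ CX X y := by rw [h7]; exact hf
    have h9 := (mem_CX.1 h8).2
    show (y * f) w = f w
    rw [← h9]
    show f (y w) = f w
    rw [hyw]

/-- an involution of `H` fixes at most one element of `O` -/
theorem fix_two (h : Cfg b q H X D a) {y : V ≃ₗ[ZMod 2] V} (hy : y ∈ H) (hyy : y * y = 1)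
    {i j : V} (hi : i ∈ O H a) (hj : j ∈ O H a) (hij : i ≠ j) (hyi : y i = i) (hyj : y j = j) :
    y = 1 := by
  obtain ⟨g, hg, hga⟩ := hi
  obtain ⟨t1, t2, t3, t4, t5⟩ := transport hg hy hga hj hij hyi hyj
  have h1 : (g⁻¹ * y * g) * (g⁻¹ * y * g) = 1 := by
    calc (g⁻¹ * y * g) * (g⁻¹ * y * g) = g⁻¹ * (y * y) * g := by group
      _ = 1 := by rw [hyy]; group
  exact conj_eq_one (h.fix_two_a t1 h1 t2 t3 t4 t5)

/-- involutions of `H` fixing `a` lie in `X` -/
theorem mem_X_of_sq (h : Cfg b q H X D a) {y : V ≃ₗ[ZMod 2] V} (hy : y ∈ H) (hyy : y * y = 1)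
    (hya : y a = a) : y ∈ X := by
  obtain ⟨w, hw, hwa⟩ := h.exists_w
  have hyw : y w ≠ a := fun h1 => hwa (y.injective (h1.trans hya.symm))
  obtain ⟨x, hx, hxw⟩ := h.exists_X (map_mem_O hy hw) hyw hw hwa
  -- `s = x y`
  have hsH : x * y ∈ H := H.mul_mem (h.XH hx) hy
  have hsa : (x * y) a = a := by
    show x (y a) = a
    rw [hya, h.Xa x hx]
  have hsw : (x * y) w = w := by
    show x (y w) = w
    rw [← hxw]
    show (x * x) w = w
    rw [h.Xsq x hx]; rfl
  have hss : (x * y) * (x * y) ∈ X := by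
    have h1 := X.mul_mem hx (h.Xnormal y hy hya x hx)
    have hyi : y⁻¹ = y := inv_eq_of_mul_eq_one_left hyy
    have h2 : (x * y) * (x * y) = x * (y * x * y⁻¹) := by rw [hyi]; group
    rw [h2]; exact h1
  have hs1 : (x * y) * (x * y) = 1 := by
    refine h.semi' hss hw hwa ?_
    show (x * y) ((x * y) w) = w
    rw [hsw, hsw]
  have h3 := h.fix_two_a hsH hs1 hsa hw hwa hsw
  have h4 : y = x⁻¹ := eq_inv_of_mul_eq_one_right h3
  rw [h4]; exact X.inv_mem hx

/-- a subgroup of exponent two fixes an element of `O` -/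
theorem exists_fixed (h : Cfg b q H X D a) (K : Subgroup (V ≃ₗ[ZMod 2] V)) (hK : K ≤ H)
    (hKK : ∀ y ∈ K, y * y = 1) : ∃ i ∈ O H a, ∀ y ∈ K, y i = i := by
  have := h.finite
  have := h.finiteX
  letI : MulAction K (O H a) :=
    { smul := fun y v => ⟨(y : V ≃ₗ[ZMod 2] V) v, map_mem_O (hK y.2) v.2⟩
      one_smul := fun v => rfl
      mul_smul := fun y z v => rfl }
  have hp : IsPGroup 2 K := by
    intro y
    refine ⟨1, Subtype.ext ?_⟩
    show (y : V ≃ₗ[ZMod 2] V) ^ (2 ^ 1) = 1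
    rw [pow_one, pow_two]; exact hKK y y.2
  have : Fact (Nat.Prime 2) := ⟨by norm_num⟩
  have h9 : ¬ 2 ∣ Nat.card (O H a) := by
    rw [Nat.card_coe_set_eq, h.card_O]; decide
  obtain ⟨i, hi⟩ := hp.nonempty_fixed_point_of_prime_not_dvd_card (O H a) h9
  refine ⟨i, i.2, fun y hy => ?_⟩
  exact congrArg Subtype.val (MulAction.mem_fixedPoints.1 hi ⟨y, hy⟩)

theorem exists_fixed_one (h : Cfg b q H X D a) {y : V ≃ₗ[ZMod 2] V} (hy : y ∈ H)
    (hyy : y * y = 1) : ∃ i ∈ O H a, y i = i := by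
  obtain ⟨i, hi, h1⟩ := h.exists_fixed (Subgroup.zpowers y) (by rwa [Subgroup.zpowers_le]) (by
    rintro z ⟨n, rfl⟩
    show y ^ n * y ^ n = 1
    rw [← mul_zpow_self_aux y n, hyy, one_zpow])
  exact ⟨i, hi, h1 y (Subgroup.mem_zpowers y)⟩

/-- an elementary abelian subgroup of order at least eight fixes only elements of `O` (and `0`) -/
theorem mem_O_of_fixed (h : Cfg b q H X D a) (K : Subgroup (V ≃ₗ[ZMod 2] V)) (hK : K ≤ H)
    (hKK : ∀ y ∈ K, y * y = 1) (h8 : 8 ≤ Nat.card K) {v : V} (hv : v ≠ 0) (hKv : ∀ y ∈ K, y v = v) :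
    v ∈ O H a := by
  have := h.finite
  have := h.finiteX
  obtain ⟨i, ⟨g, hg, rfl⟩, hKi⟩ := h.exists_fixed K hK hKK
  have hle : K.map (MulAut.conj g⁻¹).toMonoidHom ≤ X := by
    rintro _ ⟨y, hy, rfl⟩
    have e : (MulAut.conj g⁻¹).toMonoidHom y = g⁻¹ * y * g := by
      show g⁻¹ * y * g⁻¹⁻¹ = _
      rw [inv_inv]
    rw [e]
    refine h.mem_X_of_sq (H.mul_mem (H.mul_mem (H.inv_mem hg) (hK hy)) hg) ?_
      (conj_a g y rfl (hKi y hy))
    calc (g⁻¹ * y * g) * (g⁻¹ * y * g) = g⁻¹ * (y * y) * g := by group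
      _ = 1 := by rw [hKK y hy]; group
  have hcard : Nat.card (K.map (MulAut.conj g⁻¹).toMonoidHom) = Nat.card K :=
    Subgroup.card_map_of_injective (MulAut.conj g⁻¹).injective
  have heq := Subgroup.eq_of_le_of_card_ge hle (by rw [hcard, h.card_X]; exact h8)
  have h1 : g⁻¹ v = 0 ∨ g⁻¹ v = a := by
    refine h.fixed_X fun f hf => ?_
    rw [← heq] at hf
    obtain ⟨y, hy, rfl⟩ := hf
    have e : (MulAut.conj g⁻¹).toMonoidHom y = g⁻¹ * y * g := by
      show g⁻¹ * y * g⁻¹⁻¹ = _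
      rw [inv_inv]
    rw [e]
    show g⁻¹ (y (g (g⁻¹ v))) = g⁻¹ v
    rw [apply_inv_apply, hKv y hy]
  rcases h1 with h1 | h1
  · exfalso
    apply hv
    rw [← apply_inv_apply g v, h1, map_zero]
  · rw [← apply_inv_apply g v, h1]
    exact ⟨g, hg, rfl⟩

end Cfg

/-! ## The nine subspaces `D_i` -/

namespace Cfg

variable {b : LinearMap.BilinForm (ZMod 2) V} {q : V → ZMod 2}
  {H X : Subgroup (V ≃ₗ[ZMod 2] V)} {D : Submodule (ZMod 2) V} {a : V}

/-- `e ∈ D_i` -/
def InD (H : Subgroup (V ≃ₗ[ZMod 2] V)) (D : Submodule (ZMod 2) V) (a i e : V) : Prop :=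
  ∃ f ∈ H, f a = i ∧ f⁻¹ e ∈ D

theorem inD_iff (h : Cfg b q H X D a) {f : V ≃ₗ[ZMod 2] V} (hf : f ∈ H) {e : V} :
    InD H D a (f a) e ↔ f⁻¹ e ∈ D := by
  constructor
  · rintro ⟨g, hg, hga, hge⟩
    have h1 : (f⁻¹ * g) a = a := by
      show f⁻¹ (g a) = a
      rw [hga, inv_apply_apply]
    have h2 := h.Dinv _ (H.mul_mem (H.inv_mem hf) hg) h1 _ hge
    have h3 : (f⁻¹ * g) (g⁻¹ e) = f⁻¹ e := by
      show f⁻¹ (g (g⁻¹ e)) = f⁻¹ e
      rw [apply_inv_apply]
    rwa [h3] at h2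
  · intro hfe
    exact ⟨f, hf, rfl, hfe⟩

theorem inD_a (h : Cfg b q H X D a) {e : V} : InD H D a a e ↔ e ∈ D :=
  h.inD_iff (f := 1) H.one_mem

theorem inD_map {g : V ≃ₗ[ZMod 2] V} (hg : g ∈ H) {i e : V} (hi : InD H D a i e) :
    InD H D a (g i) (g e) := by
  obtain ⟨f, hf, rfl, hfe⟩ := hi
  refine ⟨g * f, H.mul_mem hg hf, rfl, ?_⟩
  rw [mul_inv_rev]
  show f⁻¹ (g⁻¹ (g e)) ∈ D
  rw [inv_apply_apply]; exact hfe

theorem inD_b (h : Cfg b q H X D a) {i e : V} (hi : InD H D a i e) : b e i = 0 := by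
  obtain ⟨f, hf, rfl, hfe⟩ := hi
  have h1 := h.isom f hf (f⁻¹ e) a
  rw [apply_inv_apply] at h1
  rw [h1]
  exact h.D_iso _ hfe _ h.a_mem

theorem inD_q (h : Cfg b q H X D a) {i e : V} (hi : InD H D a i e) : q e = 0 := by
  obtain ⟨f, hf, rfl, hfe⟩ := hi
  have h1 := h.q_isom f hf (f⁻¹ e)
  rw [apply_inv_apply] at h1
  rw [h1]
  exact h.D_q _ hfe

/-- the set of `i` with `e ∈ D_i` -/
def S (H : Subgroup (V ≃ₗ[ZMod 2] V)) (D : Submodule (ZMod 2) V) (a e : V) : Set V :=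
  {i | i ∈ O H a ∧ InD H D a i e}

/-- the stabiliser of `e` in `X` -/
def YX (X : Subgroup (V ≃ₗ[ZMod 2] V)) (e : V) : Subgroup (V ≃ₗ[ZMod 2] V) where
  carrier := {f | f ∈ X ∧ f e = e}
  one_mem' := ⟨X.one_mem, rfl⟩
  mul_mem' := by
    rintro f g ⟨hf, hfe⟩ ⟨hg, hge⟩
    refine ⟨X.mul_mem hf hg, ?_⟩
    show f (g e) = e
    rw [hge, hfe]
  inv_mem' := by
    rintro f ⟨hf, hfe⟩
    refine ⟨X.inv_mem hf, ?_⟩
    conv_lhs => rw [← hfe]
    exact inv_apply_apply f e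

theorem card_YX (h : Cfg b q H X D a) {e : V} (he : e ∈ D) : 4 ≤ Nat.card (YX X e) := by
  classical
  have := h.finite
  have := h.finiteX
  -- `X ∖ Y` is empty or a coset of `Y`
  by_contra hcon
  push Not at hcon
  have h1 : (X : Set (V ≃ₗ[ZMod 2] V)).ncard = 8 := h.card_X
  have h2 : (YX X e : Set (V ≃ₗ[ZMod 2] V)).ncard < 4 := hcon
  obtain ⟨x, hx, hxY⟩ : ∃ x ∈ X, x ∉ YX X e := by
    by_contra hc
    push Not at hc
    have := Set.ncard_le_ncard (s := (X : Set (V ≃ₗ[ZMod 2] V))) (t := YX X e) hc (Set.toFinite _)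
    omega
  have hxe : x e = e + a := (h.XD x hx e he).resolve_left fun h3 => hxY ⟨hx, h3⟩
  have hsub : (X : Set (V ≃ₗ[ZMod 2] V)) ⊆
      (YX X e : Set (V ≃ₗ[ZMod 2] V)) ∪ (fun f => x * f) '' (YX X e : Set (V ≃ₗ[ZMod 2] V)) := by
    intro f hf
    by_cases hfY : f ∈ YX X e
    · exact Or.inl hfY
    · right
      have hfe : f e = e + a := (h.XD f hf e he).resolve_left fun h3 => hfY ⟨hf, h3⟩
      refine ⟨x⁻¹ * f, ⟨X.mul_mem (X.inv_mem hx) hf, ?_⟩, mul_inv_cancel_left x f⟩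
      show x⁻¹ (f e) = e
      rw [hfe, ← hxe, inv_apply_apply]
  have h3 := Set.ncard_le_ncard hsub (Set.toFinite _)
  have h4 := Set.ncard_union_le (YX X e : Set (V ≃ₗ[ZMod 2] V))
    ((fun f => x * f) '' (YX X e : Set (V ≃ₗ[ZMod 2] V)))
  have h5 := Set.ncard_image_le (f := fun f => x * f) (s := (YX X e : Set (V ≃ₗ[ZMod 2] V)))
    (Set.toFinite _)
  omega

theorem ncard_image_YX (h : Cfg b q H X D a) {e : V} (he : e ∈ D) {j : V} (hj : j ∈ O H a)
    (hja : j ≠ a) : 4 ≤ ((fun f : V ≃ₗ[ZMod 2] V => f j) '' (YX X e : Set (V ≃ₗ[ZMod 2] V))).ncard := by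
  have hle : (YX X e : Set (V ≃ₗ[ZMod 2] V)) ⊆ X := fun f hf => hf.1
  rw [Set.InjOn.ncard_image ((h.inj_X hj hja).mono hle)]
  exact h.card_YX he

theorem key_a (h : Cfg b q H X D a) {e : V} (he : e ∈ D) (he0 : e ≠ 0) {w : V} (hw : w ∈ O H a)
    (hwa : w ≠ a) (hwe : InD H D a w e) :
    (S H D a e).ncard = 5 ∧ ∀ j ∈ S H D a e, j ≠ a → ∀ k ∈ S H D a e, k ≠ a →
      ∃ f ∈ H, f e = e ∧ f j = k := by
  classical
  have := h.finite
  have := h.finiteX
  have haS : a ∈ S H D a e := ⟨a_mem_O, h.inD_a.2 he⟩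
  -- images
  have him : ∀ j ∈ S H D a e, j ≠ a →
      (fun f : V ≃ₗ[ZMod 2] V => f j) '' (YX X e : Set (V ≃ₗ[ZMod 2] V)) ⊆ S H D a e \ {a} := by
    rintro j hj hja _ ⟨f, hf, rfl⟩
    refine ⟨⟨map_mem_O (h.XH hf.1) hj.1, ?_⟩, ?_⟩
    · have h1 := inD_map (h.XH hf.1) hj.2
      rwa [hf.2] at h1
    · intro h1
      apply hja
      have h2 : f j = a := h1
      exact f.injective (h2.trans (h.Xa f hf.1).symm)
  -- the non-orthogonal elements
  obtain ⟨n, hn, hen⟩ : ∃ n ∈ O H a, b e n ≠ 0 := by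
    by_contra hcon
    push Not at hcon
    exact he0 (h.eq_zero_of_perp hw hwa fun f hf => hcon _ (map_mem_O (h.XH hf) hw))
  have hna : n ≠ a := by
    rintro rfl
    exact hen (h.D_iso _ he _ h.a_mem)
  have hN : 4 ≤ (O H a \ S H D a e).ncard := by
    refine (h.ncard_image_YX he hn hna).trans (Set.ncard_le_ncard ?_ (Set.toFinite _))
    rintro _ ⟨f, hf, rfl⟩
    refine ⟨map_mem_O (h.XH hf.1) hn, fun h1 => hen ?_⟩
    have h2 := h.inD_b h1.2
    have h3 := h.isom f (h.XH hf.1) e n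
    rw [hf.2] at h3
    rw [← h3]; exact h2
  have hSO : S H D a e ⊆ O H a := fun i hi => hi.1
  have h9 : (S H D a e).ncard + (O H a \ S H D a e).ncard = 9 := by
    rw [← h.card_O]
    have := Set.ncard_diff_add_ncard_of_subset hSO (Set.toFinite _)
    omega
  have h1 : (S H D a e \ {a}).ncard + 1 = (S H D a e).ncard :=
    Set.ncard_diff_singleton_add_one haS (Set.toFinite _)
  have h2 := (h.ncard_image_YX he hw hwa).trans
    (Set.ncard_le_ncard (him w ⟨hw, hwe⟩ hwa) (Set.toFinite _))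
  refine ⟨by omega, ?_⟩
  intro j hj hja k hk hka
  have h3 := Set.eq_of_subset_of_ncard_le (him j hj hja)
    (by
      have := h.ncard_image_YX he hj.1 hja
      omega) (Set.toFinite _)
  have h4 : k ∈ S H D a e \ {a} := ⟨hk, hka⟩
  rw [← h3] at h4
  obtain ⟨f, hf, hfk⟩ := h4
  exact ⟨f, h.XH hf.1, hf.2, hfk⟩

theorem S_map {g : V ≃ₗ[ZMod 2] V} (hg : g ∈ H) {i e : V} (hi : i ∈ S H D a e) :
    g i ∈ S H D a (g e) := ⟨map_mem_O hg hi.1, inD_map hg hi.2⟩

theorem uniq_a (h : Cfg b q H X D a) {e : V} (he : e ∈ D) (he0 : e ≠ 0) {w : V} (hw : w ∈ O H a)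
    (hwe : InD H D a w e) : w = a := by
  classical
  by_contra hwa
  have := h.finite
  have := h.finiteX
  obtain ⟨h5, -⟩ := h.key_a he he0 hw hwa hwe
  let K : Subgroup (V ≃ₗ[ZMod 2] V) := YX H e
  have hKH : K ≤ H := fun f hf => hf.1
  refine h.no_orbit_five hKH (S := S H D a e) (v := a) ⟨a_mem_O, h.inD_a.2 he⟩ ?_ ?_ h5
  · rintro k ⟨hkH, hke⟩ u hu
    have := S_map hkH hu
    rwa [hke] at this
  · intro k hk
    by_cases hka : k = a
    · exact ⟨1, Subgroup.one_mem _, hka.symm⟩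
    obtain ⟨u, hu, hua, huk⟩ : ∃ u ∈ S H D a e, u ≠ a ∧ u ≠ k := by
      by_contra hcon
      push Not at hcon
      have hsub : S H D a e ⊆ {a, k} := by
        intro u hu
        by_cases hua : u = a
        · exact Or.inl hua
        · exact Or.inr (hcon u hu hua)
      have := Set.ncard_le_ncard hsub (Set.toFinite _)
      have h8 := Set.ncard_insert_le a {k}
      rw [Set.ncard_singleton] at h8
      omega
    obtain ⟨⟨g, hg, rfl⟩, hue⟩ := hu
    have hge : g⁻¹ e ∈ D := (h.inD_iff hg).1 hue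
    have hge0 : g⁻¹ e ≠ 0 := by
      intro h1
      apply he0
      rw [← apply_inv_apply g e, h1, map_zero]
    have hS1 : g⁻¹ a ∈ S H D a (g⁻¹ e) := S_map (H.inv_mem hg) ⟨a_mem_O, h.inD_a.2 he⟩
    have hS2 : g⁻¹ k ∈ S H D a (g⁻¹ e) := S_map (H.inv_mem hg) hk
    have hn1 : g⁻¹ a ≠ a := by
      intro h1
      apply hua
      conv_lhs => rw [← h1]
      exact apply_inv_apply g a
    have hn2 : g⁻¹ k ≠ a := by
      intro h1
      apply huk
      rw [← h1]
      exact apply_inv_apply g k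
    obtain ⟨-, h6⟩ := h.key_a hge hge0 hS1.1 hn1 hS1.2
    obtain ⟨f, hf, hfe, hfk⟩ := h6 _ hS1 hn1 _ hS2 hn2
    refine ⟨g * f * g⁻¹, ⟨H.mul_mem (H.mul_mem hg hf) (H.inv_mem hg), ?_⟩, ?_⟩
    · show g (f (g⁻¹ e)) = e
      rw [hfe, apply_inv_apply]
    · show g (f (g⁻¹ a)) = k
      rw [hfk, apply_inv_apply]

/-- `D_i ∩ D_j = 0` for `i ≠ j` -/
theorem uniq (h : Cfg b q H X D a) {e : V} (he0 : e ≠ 0) {i j : V} (hj : j ∈ O H a)
    (hie : InD H D a i e) (hje : InD H D a j e) : j = i := by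
  obtain ⟨g, hg, rfl, hge⟩ := hie
  have hge0 : g⁻¹ e ≠ 0 := by
    intro h1
    apply he0
    rw [← apply_inv_apply g e, h1, map_zero]
  have h1 := h.uniq_a hge hge0 (map_mem_O (H.inv_mem hg) hj) (inD_map (H.inv_mem hg) hje)
  rw [← h1, apply_inv_apply]

/-- no elements of `O` in `D` apart from `a` -/
theorem eq_of_mem_O_D (h : Cfg b q H X D a) {v : V} (hv : v ∈ O H a) (hvD : v ∈ D) : v = a := by
  by_contra hne
  have h1 := h.b_O hv a_mem_O hne
  rw [h.D_iso _ hvD _ h.a_mem] at h1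
  exact absurd h1 (by decide)

/-! ### counting singular vectors -/

theorem perp_D (h : Cfg b q H X D a) {v : V} (hv : v ∉ D) : ∃ d ∈ D, b v d = 1 := by
  have := h.finite
  by_contra hcon
  push Not at hcon
  have h1 := Cfsg.Agent.LargeExtra.Perp.card_orthogonal h.nondegenerate h.isRefl D
  have hle : D ≤ b.orthogonal D := fun v hv =>
    LinearMap.BilinForm.mem_orthogonal_iff.2 fun w hw => h.D_iso w hw v hv
  rw [h.card, h.card_D] at h1
  have h2 : Nat.card (b.orthogonal D) = 16 := by omega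
  have h3 : (D : Set V) = b.orthogonal D := by
    refine Set.eq_of_subset_of_ncard_le hle ?_ (Set.toFinite _)
    show Nat.card (b.orthogonal D) ≤ Nat.card D
    rw [h2, h.card_D]
  apply hv
  show v ∈ (D : Set V)
  rw [h3]
  refine LinearMap.BilinForm.mem_orthogonal_iff.2 fun d hd => ?_
  show b d v = 0
  rw [h.symm]
  by_contra h4
  exact hcon d hd (zm_ne h4)

theorem exists_delta (h : Cfg b q H X D a) :
    ∃ T : V → V, (∀ v, v ∉ D → T v ∉ D ∧ T (T v) = v ∧ q (T v) = q v + 1) := by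
  classical
  let δ : V ⧸ D → V := fun c =>
    if hc : ∃ d ∈ D, ∀ v, Submodule.Quotient.mk v = c → b v d = 1 then hc.choose else 0
  have hδ : ∀ v, v ∉ D → δ (Submodule.Quotient.mk v) ∈ D ∧ b v (δ (Submodule.Quotient.mk v)) = 1 := by
    intro v hv
    have hc : ∃ d ∈ D, ∀ u, Submodule.Quotient.mk u = (Submodule.Quotient.mk v : V ⧸ D) → b u d = 1 := by
      obtain ⟨d, hd, hvd⟩ := h.perp_D hv
      refine ⟨d, hd, fun u hu => ?_⟩
      have h1 : u - v ∈ D := (Submodule.Quotient.eq D).1 hu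
      have h2 := h.D_iso _ h1 _ hd
      rw [map_sub, LinearMap.sub_apply, sub_eq_zero] at h2
      rw [h2, hvd]
    simp only [δ, dif_pos hc]
    exact ⟨hc.choose_spec.1, hc.choose_spec.2 v rfl⟩
  refine ⟨fun v => v + δ (Submodule.Quotient.mk v), fun v hv => ?_⟩
  obtain ⟨h1, h2⟩ := hδ v hv
  have hT : (Submodule.Quotient.mk (v + δ (Submodule.Quotient.mk v)) : V ⧸ D) =
      Submodule.Quotient.mk v := by
    rw [Submodule.Quotient.eq]
    simpa using h1
  refine ⟨?_, ?_, ?_⟩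
  · intro h3
    apply hv
    have := D.sub_mem h3 h1
    simpa using this
  · simp only [hT]
    rw [add_assoc, add_self, add_zero]
  · simp only
    rw [h.q_add, h.D_q _ h1, h2, add_zero]

theorem card_singular_le (h : Cfg b q H X D a) : ({v | q v = 0} : Set V).ncard ≤ 136 := by
  classical
  have := h.finite
  obtain ⟨T, hT⟩ := h.exists_delta
  set A : Set V := {v | v ∉ D ∧ q v = 0} with hA
  set B : Set V := {v | q v = 1} with hB
  have h1 : A.ncard ≤ B.ncard := by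
    refine Set.ncard_le_ncard_of_injOn T ?_ ?_ (Set.toFinite _)
    · rintro v ⟨hv, hqv⟩
      show q (T v) = 1
      rw [(hT v hv).2.2, hqv, zero_add]
    · rintro u ⟨hu, -⟩ v ⟨hv, -⟩ huv
      rw [← (hT u hu).2.1, ← (hT v hv).2.1, huv]
  have h2 : ({v | q v = 0} : Set V).ncard + B.ncard = 256 := by
    have e : B = ({v | q v = 0} : Set V)ᶜ := by
      ext v
      show q v = 1 ↔ ¬ q v = 0
      rcases zm (q v) with h3 | h3 <;> rw [h3] <;> decide
    rw [e, Set.ncard_add_ncard_compl]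
    exact h.card
  have h3 : ({v | q v = 0} : Set V) = A ∪ (D : Set V) := by
    ext v
    constructor
    · intro hv
      by_cases hvD : v ∈ D
      · exact Or.inr hvD
      · exact Or.inl ⟨hvD, hv⟩
    · rintro (hv | hv)
      · exact hv.2
      · exact h.D_q v hv
  have h4 := Set.ncard_union_le A (D : Set V)
  rw [← h3] at h4
  have h5 : (D : Set V).ncard = 16 := h.card_D
  omega

/-- every singular vector lies in some `D_i` -/
theorem exists_D (h : Cfg b q H X D a) {v : V} (hv : q v = 0) :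
    ∃ i ∈ O H a, InD H D a i v := by
  classical
  have := h.finite
  by_cases hv0 : v = 0
  · exact ⟨a, a_mem_O, h.inD_a.2 (by rw [hv0]; exact D.zero_mem)⟩
  have hch : ∀ i : V, ∃ g : V ≃ₗ[ZMod 2] V, i ∈ O H a → g ∈ H ∧ g a = i := by
    intro i
    by_cases hi : i ∈ O H a
    · obtain ⟨g, hg, hgi⟩ := hi
      exact ⟨g, fun _ => ⟨hg, hgi⟩⟩
    · exact ⟨1, fun h1 => absurd h1 hi⟩
  choose g hg using hch
  set U : Set V := (fun p : V × V => g p.1 p.2) '' ((O H a) ×ˢ ((D : Set V) \ {0})) with hU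
  have h1 : U.ncard = 135 := by
    rw [hU, Set.InjOn.ncard_image, Set.ncard_prod, h.card_O,
      Set.ncard_diff_singleton_of_mem (show (0 : V) ∈ (D : Set V) from D.zero_mem)]
    · have h5 : (D : Set V).ncard = 16 := h.card_D
      rw [h5]
    · rintro ⟨i, d⟩ ⟨hi, hd, hd0⟩ ⟨j, d'⟩ ⟨hj, hd', hd0'⟩ heq
      have heq' : g i d = g j d' := heq
      have hi' := hg i hi
      have hj' := hg j hj
      have e1 : InD H D a i (g i d) := ⟨g i, hi'.1, hi'.2, by rw [inv_apply_apply]; exact hd⟩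
      have e2 : InD H D a j (g i d) := ⟨g j, hj'.1, hj'.2, by rw [heq', inv_apply_apply]; exact hd'⟩
      have e3 : g i d ≠ 0 := by
        intro h3
        apply hd0
        show d = 0
        rw [← inv_apply_apply (g i) d, h3, map_zero]
      have e4 : j = i := h.uniq e3 hj e1 e2
      subst e4
      rw [(g j).injective heq']
  have h2 : U ⊆ ({v | q v = 0} : Set V) \ {0} := by
    rintro _ ⟨⟨i, d⟩, ⟨hi, hd, hd0⟩, rfl⟩
    have hi' := hg i hi
    refine ⟨?_, ?_⟩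
    · show q (g i d) = 0
      rw [h.q_isom _ hi'.1]; exact h.D_q d hd
    · intro h3
      apply hd0
      have h4 : g i d = 0 := h3
      show d = 0
      rw [← inv_apply_apply (g i) d, h4, map_zero]
  have h3 := h.card_singular_le
  have h4 : (({v | q v = 0} : Set V) \ {0}).ncard + 1 = ({v | q v = 0} : Set V).ncard := by
    refine Set.ncard_diff_singleton_add_one ?_ (Set.toFinite _)
    exact h.D_q 0 D.zero_mem
  have h5 := Set.eq_of_subset_of_ncard_le h2 (by omega) (Set.toFinite _)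
  have h6 : v ∈ ({v | q v = 0} : Set V) \ {0} := ⟨hv, hv0⟩
  rw [← h5] at h6
  obtain ⟨⟨i, d⟩, ⟨hi, hd, -⟩, rfl⟩ := h6
  have hi' := hg i hi
  exact ⟨i, hi, g i, hi'.1, hi'.2, by rw [inv_apply_apply]; exact hd⟩

/-- a point off `a` orthogonal to a subspace of `D` not containing `a` -/
theorem exists_perp (h : Cfg b q H X D a) (W : Submodule (ZMod 2) V) (hW : W ≤ D) (ha : a ∉ W) :
    ∃ v ∈ O H a, v ≠ a ∧ ∀ e ∈ W, b e v = 0 := by
  obtain ⟨w, hw, hwa⟩ := h.exists_w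
  obtain ⟨ψ, hψa, hψW⟩ := Submodule.exists_le_ker_of_notMem ha
  have hψ1 : ψ a = 1 := zm_ne hψa
  have haw : b a w = 1 := h.b_O a_mem_O hw (Ne.symm hwa)
  let φ : V →ₗ[ZMod 2] ZMod 2 := b.flip w + ψ
  have hφ : ∀ v, φ v = b v w + ψ v := fun v => rfl
  obtain ⟨f, hf, hfD⟩ := h.exX φ (by rw [hφ, haw, hψ1]; decide)
  refine ⟨f w, map_mem_O (h.XH hf) hw, ?_, ?_⟩
  · intro h1
    exact hwa (f.injective (h1.trans (h.Xa f hf).symm))
  · intro e he
    have h1 := h.isom f (h.XH hf) (f e) w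
    have h2 : f (f e) = e := by
      show (f * f) e = e
      rw [h.Xsq f hf]; rfl
    rw [h2] at h1
    rw [h1, hfD e (hW he), map_add, LinearMap.add_apply, map_smul, LinearMap.smul_apply, haw,
      smul_eq_mul, mul_one, hφ]
    have h3 : ψ e = 0 := hψW he
    rw [h3, add_zero]
    exact add_self (V := ZMod 2) _

end Cfg

end Cfsg.Agent.TypeD4Two.NineV
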