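import Cfsg.Agent.SporadicRecognition.CosetChain

/-!
Free and cyclic reduction of words in numbered letters with a formal inverse.
-/

set_option autoImplicit false

namespace Cfsg.Agent.TypeD4Two.Red

open Cfsg.Agent.SporadicRecognition.CosetCert Cfsg.Agent.SporadicRecognition.CosetCertHyp
  Cfsg.Agent.SporadicRecognition.CosetChain

/-- put a letter in front of a reduced word -/
def push (inv : ℕ → ℕ) (x : ℕ) (w : List ℕ) : List ℕ :=
  match w with
  | [] => [x]
  | y :: ys => if inv x = y then ys else x :: y :: ys

/-- free reduction -/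
def red (inv : ℕ → ℕ) (w : List ℕ) : List ℕ := w.foldr (push inv) []

/-- cyclic reduction (at most `n` steps) -/
def cyc (inv : ℕ → ℕ) : ℕ → List ℕ → List ℕ
  | 0, w => w
  | n + 1, w =>
    match w with
    | [] => []
    | x :: ys => if ys.getLast? = some (inv x) then cyc inv n ys.dropLast else x :: ys

variable {G : Type*} [Group G] {g : ℕ → G} {inv : ℕ → ℕ} {k : ℕ}

theorem push_lt {x : ℕ} (hx : x < k) {w : List ℕ} (hw : ∀ y ∈ w, y < k) : ∀ y ∈ push inv x w, y < k := by
  unfold push
  cases w with
  | nil => simpa using hx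
  | cons y ys =>
    simp only
    split_ifs with h
    · intro z hz; exact hw z (by simp [hz])
    · intro z hz
      rcases List.mem_cons.mp hz with rfl | hz
      · exact hx
      · exact hw z hz

theorem ev_push (hinv : ∀ x, x < k → inv x < k ∧ g x * g (inv x) = 1) {x : ℕ} (hx : x < k) (w : List ℕ) :
    ev g (push inv x w) = g x * ev g w := by
  unfold push
  cases w with
  | nil => simp [ev]
  | cons y ys =>
    simp only
    split_ifs with h
    · rw [ev_cons, ← h, ← mul_assoc, (hinv x hx).2, one_mul]
    · rw [ev_cons]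

theorem red_lt {w : List ℕ} (hw : ∀ y ∈ w, y < k) : ∀ y ∈ red inv w, y < k := by
  induction w with
  | nil => intro y hy; simp [red] at hy
  | cons x w ih =>
    exact push_lt (hw x (by simp)) (ih fun y hy => hw y (by simp [hy]))

theorem ev_red (hinv : ∀ x, x < k → inv x < k ∧ g x * g (inv x) = 1) {w : List ℕ} (hw : ∀ y ∈ w, y < k) :
    ev g (red inv w) = ev g w := by
  induction w with
  | nil => rfl
  | cons x w ih =>
    have h1 : red inv (x :: w) = push inv x (red inv w) := rfl
    rw [h1, ev_push hinv (hw x (by simp)), ih fun y hy => hw y (by simp [hy]), ev_cons]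

theorem ev_cyc (hinv : ∀ x, x < k → inv x < k ∧ g x * g (inv x) = 1) (n : ℕ) {w : List ℕ} (hw : ∀ y ∈ w, y < k)
    (h : ev g w = 1) : ev g (cyc inv n w) = 1 := by
  induction n generalizing w with
  | zero => exact h
  | succ n ih =>
    cases w with
    | nil => exact h
    | cons x ys =>
      unfold cyc
      simp only
      split_ifs with hl
      · obtain ⟨zs, hzs⟩ := List.getLast?_eq_some_iff.mp hl
        subst hzs
        rw [List.dropLast_concat]
        apply ih
        · intro y hy; exact hw y (by simp [hy])
        · have h1 : g (inv x) = (g x)⁻¹ := (inv_eq_of_mul_eq_one_right (hinv x (hw x (by simp))).2).symm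
          rw [ev_cons, ev_append, ev_cons, ev_nil, mul_one, h1, ← mul_assoc] at h
          have h2 := mul_inv_eq_one.mp h
          have h3 : g x * ev g zs = g x * 1 := by rw [h2, mul_one]
          exact mul_left_cancel h3
      · exact h

/-- reduced word of an expression -/
def rw1 (inv : ℕ → ℕ) (e : Ex) : List ℕ := cyc inv 100 (red inv (e.word inv))

theorem ev_rw1 (hinv : ∀ x, x < k → inv x < k ∧ g x * g (inv x) = 1) {e : Ex} (he : e.lt k)
    (h : e.val g = 1) : ev g (rw1 inv e) = 1 := by
  have h1 := Ex.word_lt (fun x hx => (hinv x hx).1) e he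
  apply ev_cyc hinv 100 (red_lt h1)
  rw [ev_red hinv h1, Ex.ev_word hinv e he, h]

end Cfsg.Agent.TypeD4Two.Red
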